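import Groth.Agent.Unr55.Et.CechFlasque
import Groth.Agent.Unr55.Et.CechInjU
import Mathlib.CategoryTheory.Sites.SheafCohomology.Basic
import Mathlib.CategoryTheory.Sites.ConstantSheaf
import Mathlib.Algebra.Homology.DerivedCategory.Ext.EnoughInjectives

/-!
Cartan's criterion for coverings by a single morphism, on a site with a final object in the basis.
-/

set_option autoImplicit false

universe v w u

open CategoryTheory CategoryTheory.Limits Opposite CategoryTheory.Abelian

namespace Groth.Agent.Unr55.CechCartan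

variable {C : Type v} [Category.{w} C] [∀ U : C, HasFiniteProducts (Over U)]
  {J : GrothendieckTopology C} [HasSheafify J AddCommGrpCat.{max u w}]
  [J.WEqualsLocallyBijective AddCommGrpCat.{max u w}]
  (B : Set C) (Cov : ∀ U : C, Over U → Prop)

/-- The one-member family. -/
abbrev fam {U : C} (Y : Over U) : PUnit.{max u w + 1} → Over U := fun _ => Y

/-- Čech acyclicity for the coverings in `Cov`. -/
def Acyclic (F : Sheaf J AddCommGrpCat.{max u w}) : Prop :=
  ∀ U ∈ B, ∀ Y : Over U, Cov U Y → ∀ q : ℕ, IsZero (EtCech.cechH (fam.{v, w, u} Y) F.obj (q + 1))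

variable (hprod : ∀ U ∈ B, ∀ Y : Over U, Cov U Y → ∀ (n : ℕ) (a : Fin (n + 1) → PUnit.{max u w + 1}),
    (∏ᶜ (fam.{v, w, u} Y ∘ a)).left ∈ B)
  (href : ∀ U ∈ B, ∀ {F G : Sheaf J AddCommGrpCat.{max u w}} (g : F ⟶ G) [Epi g]
    (s : G.obj.obj (op U)), ∃ Y : Over U, Cov U Y ∧ (Presheaf.imageSieve g.hom s).arrows Y.hom ∧
      Sieve.ofArrows (fun i => (fam.{v, w, u} Y i).left) (fun i => (fam.{v, w, u} Y i).hom) ∈ J U)

include href in
theorem surjective_sections {S : ShortComplex (Sheaf J AddCommGrpCat.{max u w})} (hS : S.ShortExact)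
    (h : Acyclic B Cov S.X₁) (U : C) (hU : U ∈ B) : Function.Surjective (S.g.hom.app (op U)) := by
  intro s
  have : Epi S.g := hS.epi_g
  obtain ⟨Y, hY, hmem, hcov⟩ := href U hU S.g s
  exact CechFl.exists_preimage_of_cechH_one S hS U s
    ⟨_, fam.{v, w, u} Y, fun _ => hmem, hcov, h U hU Y hY 0⟩

include href hprod in
theorem acyclic_cokernel {S : ShortComplex (Sheaf J AddCommGrpCat.{max u w})} (hS : S.ShortExact)
    [Injective S.X₂] (h : Acyclic B Cov S.X₁) : Acyclic B Cov S.X₃ := by
  intro U hU Y hY q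
  exact CechFl.isZero_homology_of_exact' (fam.{v, w, u} Y)
    (Functor.whiskerLeft (Over.forget U).op S.f.hom) (Functor.whiskerLeft (Over.forget U).op S.g.hom)
    (fun W => (CechFl.exists_sections_preimage S hS W.unop.left 0 (map_zero _)).1)
    (fun W y hy => (CechFl.exists_sections_preimage S hS W.unop.left y hy).2)
    (fun W z => ConcreteCategory.congr_hom
      (NatTrans.congr_app (congrArg InducedCategory.Hom.hom S.zero) _) z)
    q (fun a => surjective_sections B Cov href hS h _ (hprod U hU Y hY (q + 1) a))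
    (CechInjU.isZero_cechH.{u, v, w} (fam.{v, w, u} Y) S.X₂ q) (h U hU Y hY (q + 1))

variable [HasExt.{max u w} (Sheaf J AddCommGrpCat.{max u w})]
  [EnoughInjectives (Sheaf J AddCommGrpCat.{max u w})]
  {T : C} (hT : IsTerminal T) (hTB : T ∈ B)

include hT hTB in
theorem hom_surjective {S : ShortComplex (Sheaf J AddCommGrpCat.{max u w})}
    (hsur : Function.Surjective (S.g.hom.app (op T)))
    (c : (constantSheaf J AddCommGrpCat.{max u w}).obj (AddCommGrpCat.of (ULift.{max u w} ℤ)) ⟶ S.X₃) :
    ∃ b, b ≫ S.g = c := by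
  let adj := constantSheafAdj J AddCommGrpCat.{max u w} hT
  let c' := adj.homEquiv _ _ c
  obtain ⟨σ, hσ⟩ := hsur (c' (ULift.up 1))
  let k : AddCommGrpCat.of (ULift.{max u w} ℤ) ⟶
      ((sheafSections _ AddCommGrpCat.{max u w}).obj (op T)).obj S.X₂ :=
    AddCommGrpCat.ofHom ((zmultiplesHom _ σ).comp AddEquiv.ulift.toAddMonoidHom)
  refine ⟨(adj.homEquiv _ _).symm k, (adj.homEquiv _ _).injective ?_⟩
  rw [Adjunction.homEquiv_naturality_right, Equiv.apply_symm_apply]
  refine ConcreteCategory.hom_ext _ _ ?_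
  rintro ⟨z⟩
  have hz : (⟨z⟩ : ULift.{max u w} ℤ) = z • ULift.up 1 := ULift.ext _ _ (by simp)
  rw [hz]
  refine (map_zsmul _ z _).trans (((congrArg (fun q => z • q) ?_)).trans (map_zsmul c'.hom z _).symm)
  change S.g.hom.app _ ((1 : ℤ) • σ) = c' (ULift.up 1)
  rw [one_smul, hσ]

include href hprod hT hTB in
/-- **Cartan's criterion.** -/
theorem subsingleton_H : ∀ (p : ℕ) (F : Sheaf J AddCommGrpCat.{max u w}), Acyclic B Cov F →
    Subsingleton (Sheaf.H F (p + 1))
  | p, F, hF => by
    refine subsingleton_of_forall_eq 0 fun x => ?_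
    let S : ShortComplex (Sheaf J AddCommGrpCat.{max u w}) :=
      ShortComplex.mk (Injective.ι F) (cokernel.π (Injective.ι F)) (cokernel.condition _)
    have hS : S.ShortExact :=
      { exact := ShortComplex.exact_of_g_is_cokernel _ (cokernelIsCokernel _) }
    have : Injective S.X₂ := inferInstanceAs (Injective (Injective.under F))
    obtain ⟨y, hy⟩ := Ext.covariant_sequence_exact₁ _ hS x
      ((Ext.subsingleton_of_injective _ S.X₂ p).elim _ _) rfl
    cases p with
    | zero =>
      obtain ⟨c, rfl⟩ := (Ext.mk₀_bijective _ _).2 y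
      obtain ⟨b, rfl⟩ := hom_surjective B hT hTB (surjective_sections B Cov href hS hF T hTB) c
      rw [← hy, ← Ext.mk₀_comp_mk₀, Ext.comp_assoc_of_second_deg_zero, hS.comp_extClass,
        Ext.comp_zero]
    | succ p =>
      have := subsingleton_H p S.X₃ (acyclic_cokernel B Cov hprod href hS hF)
      rw [← hy, Subsingleton.elim y 0, Ext.zero_comp]

end Groth.Agent.Unr55.CechCartan
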