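import Groth.Prelude.Def_EtCech
import Groth.Agent.Fib44.CechExplicit
import Mathlib.CategoryTheory.Sites.EpiMono
import Mathlib.CategoryTheory.Sites.LocallySurjective

/-!
Cech flasque sheaves on general sites (after Fib44.CechSurjective, with free universes):
surjectivity on sections, quotients, transport along product preserving functors.
-/

set_option autoImplicit false

universe u v w

open CategoryTheory CategoryTheory.Limits Opposite

namespace Groth.Agent.Unr55.CechFl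

variable {C : Type v} [Category.{w} C] {J : GrothendieckTopology C}
variable [HasSheafify J AddCommGrpCat.{u}] [J.WEqualsLocallyBijective AddCommGrpCat.{u}]
variable (S : ShortComplex (Sheaf J AddCommGrpCat.{u}))

theorem exists_sections_preimage (hS : S.ShortExact) (V : C) (x : S.X₂.obj.obj (op V))
    (hx : S.g.hom.app (op V) x = 0) :
    Function.Injective (S.f.hom.app (op V)) ∧ ∃ y, S.f.hom.app (op V) y = x := by
  let G : Sheaf J AddCommGrpCat.{u} ⥤ AddCommGrpCat.{u} :=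
    sheafToPresheaf J AddCommGrpCat.{u} ⋙ (evaluation _ _).obj (op V)
  have hl : PreservesFiniteLimits (sheafToPresheaf J AddCommGrpCat.{u}) :=
    ⟨fun _ _ _ => (sheafificationAdjunction J AddCommGrpCat.{u}).rightAdjoint_preservesLimits.preservesLimitsOfShape⟩
  have : PreservesFiniteLimits G := comp_preservesFiniteLimits _ _
  have : G.Additive := inferInstance
  have h := (((Functor.preservesFiniteLimits_tfae G).out 3 0).1 ‹PreservesFiniteLimits G› :
    ∀ (S : ShortComplex (Sheaf J AddCommGrpCat.{u})), S.ShortExact →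
      (S.map G).Exact ∧ Mono (G.map S.f)) S hS
  refine ⟨(AddCommGrpCat.mono_iff_injective _).1 h.2, ?_⟩
  exact (ShortComplex.ab_exact_iff _).1 h.1 x hx

lemma res_res (F : Sheaf J AddCommGrpCat.{u}) {X Y Z : C} (f : Y ⟶ X) (g : Z ⟶ Y)
    (x : F.obj.obj (op X)) :
    F.obj.map g.op (F.obj.map f.op x) = F.obj.map (g ≫ f).op x := by
  rw [op_comp, F.obj.map_comp]
  rfl


set_option backward.isDefEq.respectTransparency false in
set_option backward.isDefEq.respectTransparency.types false in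
theorem exists_preimage_of_cechH_one [∀ U : C, HasFiniteProducts (Over U)] (hS : S.ShortExact) (U : C)
    (s : S.X₃.obj.obj (op U))
    (h : ∃ (ι : Type u) (Yf : ι → Over U), (∀ i, (Presheaf.imageSieve S.g.hom s).arrows (Yf i).hom) ∧
      Sieve.ofArrows (fun i => (Yf i).left) (fun i => (Yf i).hom) ∈ J U ∧
      IsZero (EtCech.cechH Yf S.X₁.obj 1)) :
    ∃ t, S.g.hom.app (op U) t = s := by
  obtain ⟨ι, Yf, hYT, hcov, hH⟩ := h
  choose t ht using fun i => hYT i
  let pr : ∀ {n : ℕ} (a : Fin n → ι) (k : Fin n), (∏ᶜ (Yf ∘ a)).left ⟶ (Yf (a k)).left :=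
    fun a k => (Pi.π (Yf ∘ a) k).left
  let v : ∀ {n : ℕ} (a : Fin n → ι) (k : Fin n), S.X₂.obj.obj (op (∏ᶜ (Yf ∘ a)).left) :=
    fun a k => S.X₂.obj.map (pr a k).op (t (a k))
  have hv : ∀ {n : ℕ} (a : Fin n → ι) (k : Fin n), S.g.hom.app (op (∏ᶜ (Yf ∘ a)).left) (v a k) =
      S.X₃.obj.map (∏ᶜ (Yf ∘ a)).hom.op s := fun {n} a k =>
    ((NatTrans.naturality_apply S.g.hom (pr a k).op (t (a k))).trans
      ((congrArg (S.X₃.obj.map (pr a k).op) (ht (a k))).trans
        (res_res S.X₃ _ _ s))).trans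
      (congrArg (fun m => S.X₃.obj.map (Quiver.Hom.op m) s) (Over.w (Pi.π (Yf ∘ a) k)))
  have hvface : ∀ {n m : ℕ} (a : Fin (m + 1) → ι) (g : Fin (n + 1) → Fin (m + 1)) (k : Fin (n + 1)),
      S.X₂.obj.map (Fib44.Cech.face Yf a g).left.op (v (a ∘ g) k) = v a (g k) := fun a g k =>
    (res_res S.X₂ _ _ (t (a (g k)))).trans
      (congrArg (fun m : (∏ᶜ (Yf ∘ a)).left ⟶ (Yf (a (g k))).left => S.X₂.obj.map m.op (t (a (g k))))
        ((Over.comp_left _ _ _ _ _).symm.trans
          (congrArg CommaMorphism.left (Pi.lift_π (fun k => Pi.π (Yf ∘ a) (g k)) k))))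
  have hpre := fun a : Fin 2 → ι => exists_sections_preimage S hS (∏ᶜ (Yf ∘ a)).left (v a 1 - v a 0)
    (by rw [map_sub, hv, hv, sub_self])
  choose hinj c hc using hpre
  have hH' := (Fib44.Cech.isZero_homology_succ_iff Yf ((Over.forget U).op ⋙ S.X₁.obj) 0).1 hH
  obtain ⟨b, hb⟩ := hH' c fun a => by
    apply (exists_sections_preimage S hS (∏ᶜ (Yf ∘ a)).left 0 (map_zero _)).1
    have key : ∀ g : Fin 2 → Fin 3, S.f.hom.app (op (∏ᶜ (Yf ∘ a)).left)
        (((Over.forget U).op ⋙ S.X₁.obj).map (Fib44.Cech.face Yf a g).op (c (a ∘ g))) =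
        v a (g 1) - v a (g 0) := fun g => by
      refine (NatTrans.naturality_apply S.f.hom (Fib44.Cech.face Yf a g).left.op (c (a ∘ g))).trans ?_
      rw [hc, map_sub, hvface, hvface]
    rw [map_sum, map_zero, Fin.sum_univ_three]
    simp only [map_zsmul, key]
    rw [show (Fin.succAbove (0 : Fin 3) (0 : Fin 2)) = 1 from rfl,
      show (Fin.succAbove (0 : Fin 3) (1 : Fin 2)) = 2 from rfl,
      show (Fin.succAbove (1 : Fin 3) (0 : Fin 2)) = 0 from rfl,
      show (Fin.succAbove (1 : Fin 3) (1 : Fin 2)) = 2 from rfl,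
      show (Fin.succAbove (2 : Fin 3) (0 : Fin 2)) = 0 from rfl,
      show (Fin.succAbove (2 : Fin 3) (1 : Fin 2)) = 1 from rfl]
    simp only [Fin.val_zero, Fin.val_one, Fin.val_two, pow_zero, pow_one, one_smul, neg_smul,
      neg_one_sq]
    abel
  let τ : ∀ a₀ : Fin 1 → ι, S.X₂.obj.obj (op (∏ᶜ (Yf ∘ a₀)).left) := fun a₀ =>
    v a₀ 0 - S.f.hom.app (op (∏ᶜ (Yf ∘ a₀)).left) (b a₀)
  have hnat : ∀ (a : Fin 2 → ι) (g : Fin 1 → Fin 2),
      S.X₂.obj.map (Fib44.Cech.face Yf a g).left.op (τ (a ∘ g)) =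
        v a (g 0) - S.f.hom.app (op (∏ᶜ (Yf ∘ a)).left) (((Over.forget U).op ⋙ S.X₁.obj).map (Fib44.Cech.face Yf a g).op (b (a ∘ g))) :=
    fun a g => by
      refine (map_sub _ _ _).trans ?_
      rw [hvface]
      exact congrArg _ (NatTrans.naturality_apply S.f.hom (Fib44.Cech.face Yf a g).left.op (b (a ∘ g))).symm
  have hrel : ∀ a : Fin 2 → ι,
      S.X₂.obj.map (Fib44.Cech.face Yf a (Fin.succAbove 0)).left.op (τ (a ∘ Fin.succAbove 0)) =
        S.X₂.obj.map (Fib44.Cech.face Yf a (Fin.succAbove 1)).left.op (τ (a ∘ Fin.succAbove 1)) := fun a => by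
    have e := congrArg (S.f.hom.app (op (∏ᶜ (Yf ∘ a)).left)) (hb a)
    rw [Fin.sum_univ_two] at e
    simp only [Fin.val_zero, pow_zero, one_smul, Fin.val_one, pow_one, neg_smul] at e
    rw [map_add, map_neg, hc] at e
    rw [hnat, hnat, show (Fin.succAbove (0 : Fin 2) 0) = 1 from rfl,
      show (Fin.succAbove (1 : Fin 2) 0) = 0 from rfl, ← sub_eq_zero, ← sub_eq_zero.2 e.symm]
    abel
  let q : ∀ a₀ : Fin 1 → ι, (∏ᶜ (Yf ∘ a₀)).left ⟶ U := fun a₀ => (∏ᶜ (Yf ∘ a₀)).hom
  have hcov' : Sieve.ofArrows (fun a₀ : Fin 1 → ι => (∏ᶜ (Yf ∘ a₀)).left) q ∈ J U := by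
    refine J.superset_covering ((Sieve.generate_le_iff _ _).2 ?_) hcov
    rintro W m ⟨i⟩
    exact ⟨_, (Pi.lift (P := Yf i) (f := Yf ∘ fun _ : Fin 1 => i) fun _ => 𝟙 (Yf i)).left, q _,
      ⟨fun _ => i⟩, Over.w (Pi.lift (P := Yf i) (f := Yf ∘ fun _ : Fin 1 => i) fun _ => 𝟙 (Yf i))⟩
  have hsheaf : ∀ F : Sheaf J AddCommGrpCat.{u}, Presieve.IsSheafFor
      (F.obj ⋙ forget AddCommGrpCat.{u}) (Presieve.ofArrows _ q) := fun F => by
    rw [Presieve.isSheafFor_iff_generate]
    exact ((isSheaf_iff_isSheaf_of_type _ _).1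
      ((sheafCompose J (forget AddCommGrpCat.{u})).obj F).property) _ hcov'
  have hcomp : Presieve.Arrows.Compatible (S.X₂.obj ⋙ forget AddCommGrpCat.{u}) q τ := by
    intro a₀ a₁ Z gi gj hij
    obtain ⟨a, rfl, rfl⟩ : ∃ a : Fin 2 → ι, a ∘ Fin.succAbove 1 = a₀ ∧ a ∘ Fin.succAbove 0 = a₁ :=
      ⟨![a₀ 0, a₁ 0], funext fun k => by fin_cases k; rfl, funext fun k => by fin_cases k; rfl⟩
    let gi' : Over.mk (gi ≫ q _) ⟶ ∏ᶜ (Yf ∘ (a ∘ Fin.succAbove (1 : Fin 2))) := Over.homMk gi rfl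
    let gj' : Over.mk (gi ≫ q _) ⟶ ∏ᶜ (Yf ∘ (a ∘ Fin.succAbove (0 : Fin 2))) :=
      Over.homMk gj hij.symm
    let l : Over.mk (gi ≫ q _) ⟶ ∏ᶜ (Yf ∘ a) :=
      Pi.lift fun k => Fin.cases (gi' ≫ Pi.π _ 0) (fun k => Fin.cases (gj' ≫ Pi.π _ 0) (fun k => k.elim0) k) k
    have hl0 : l ≫ Fib44.Cech.face Yf a (Fin.succAbove 1) = gi' := by
      refine Pi.hom_ext _ _ fun k => ?_
      obtain rfl : k = 0 := Fin.ext (Nat.lt_one_iff.1 k.isLt)
      rw [Category.assoc, Pi.lift_π]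
      exact Pi.lift_π _ _
    have hl1 : l ≫ Fib44.Cech.face Yf a (Fin.succAbove 0) = gj' := by
      refine Pi.hom_ext _ _ fun k => ?_
      obtain rfl : k = 0 := Fin.ext (Nat.lt_one_iff.1 k.isLt)
      rw [Category.assoc, Pi.lift_π]
      exact Pi.lift_π _ _
    have e := congrArg (S.X₂.obj.map l.left.op) (hrel a)
    rw [res_res, res_res, ← Over.comp_left, ← Over.comp_left, hl0, hl1] at e
    exact e.symm
  obtain ⟨g0, hg0, -⟩ := (Presieve.isSheafFor_arrows_iff _ q).1 (hsheaf S.X₂) τ hcomp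
  refine ⟨g0, ((hsheaf S.X₃).isSeparatedFor.ext ?_)⟩
  rintro _ _ ⟨a₀⟩
  refine ((NatTrans.naturality_apply S.g.hom (q a₀).op g0).symm).trans ?_
  refine (congrArg (S.g.hom.app _) (hg0 a₀)).trans ?_
  have h0 : ∀ z, S.g.hom.app (op (∏ᶜ (Yf ∘ a₀)).left) (S.f.hom.app _ z) = 0 := fun z =>
    ConcreteCategory.congr_hom (NatTrans.congr_app (congrArg InducedCategory.Hom.hom S.zero) _) z
  simp only [τ]
  rw [map_sub, hv, h0, sub_zero]
  rfl


theorem surjective_of_cechH_one [∀ U : C, HasFiniteProducts (Over U)] (hS : S.ShortExact) (U : C)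
    (h : ∀ T ∈ J U, ∃ (ι : Type u) (Yf : ι → Over U), (∀ i, T.arrows (Yf i).hom) ∧
      Sieve.ofArrows (fun i => (Yf i).left) (fun i => (Yf i).hom) ∈ J U ∧
      IsZero (EtCech.cechH Yf S.X₁.obj 1)) :
    Function.Surjective (S.g.hom.app (op U)) := by
  intro s
  have : Epi S.g := hS.epi_g
  have : Sheaf.IsLocallySurjective S.g := (Sheaf.isLocallySurjective_iff_epi' AddCommGrpCat.{u} S.g).2 ‹_›
  exact exists_preimage_of_cechH_one S hS U s (h _ (Presheaf.imageSieve_mem J S.g.hom s))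

open Fib44.Cech in
theorem dd {E : Type v} [Category.{w} E] [HasFiniteProducts E] {ι : Type u} (U : ι → E)
    (P : Eᵒᵖ ⥤ AddCommGrpCat.{u}) (n : ℕ) (g : Coch U P n) (a : Fin (n + 3) → ι) :
    ∑ j : Fin (n + 3), (-1 : ℤ) ^ (j : ℕ) • P.map (face U a j.succAbove).op
      (∑ k : Fin (n + 2), (-1 : ℤ) ^ (k : ℕ) • P.map (face U (a ∘ j.succAbove) k.succAbove).op
        (g ((a ∘ j.succAbove) ∘ k.succAbove))) = 0 := by
  obtain ⟨x, rfl⟩ := (equiv U P n).surjective g
  have h : equiv U P (n + 2) (((cechComplexFunctor U).obj P).d (n + 1) (n + 2)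
      (((cechComplexFunctor U).obj P).d n (n + 1) x)) a = 0 := by
    rw [← ConcreteCategory.comp_apply, HomologicalComplex.d_comp_d]
    exact congrFun (map_zero (equiv U P (n + 2))) a
  refine Eq.trans ?_ h
  rw [equiv_d]
  exact Finset.sum_congr rfl fun j _ => by rw [equiv_d]

open Fib44.Cech in
/-- In a presheaf sequence exact on all products, with surjections on the products, vanishing passes
to the quotient. -/
theorem isZero_homology_of_exact' {E : Type v} [Category.{w} E] [HasFiniteProducts E] {ι : Type u} (U : ι → E)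
    {P₁ P₂ P₃ : Eᵒᵖ ⥤ AddCommGrpCat.{u}} (f : P₁ ⟶ P₂) (g : P₂ ⟶ P₃)
    (hinj : ∀ X, Function.Injective (f.app X))
    (hex : ∀ X y, g.app X y = 0 → ∃ x, f.app X x = y) (hfg : ∀ X x, g.app X (f.app X x) = 0)
    (p : ℕ) (hsurj : ∀ a : Fin (p + 2) → ι, Function.Surjective (g.app (op (∏ᶜ (U ∘ a)))))
    (h₂ : IsZero (((cechComplexFunctor U).obj P₂).homology (p + 1)))
    (h₁ : IsZero (((cechComplexFunctor U).obj P₁).homology (p + 2))) :
    IsZero (((cechComplexFunctor U).obj P₃).homology (p + 1)) := by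
  rw [isZero_homology_succ_iff] at h₁ h₂ ⊢
  intro c hc
  choose b hb using fun a => hsurj a (c a)
  have natf : ∀ {n m : ℕ} (a : Fin (m + 1) → ι) (r : Fin (n + 1) → Fin (m + 1)) x,
      f.app _ (P₁.map (face U a r).op x) = P₂.map (face U a r).op (f.app _ x) :=
    fun a r x => NatTrans.naturality_apply f _ x
  have natg : ∀ {n m : ℕ} (a : Fin (m + 1) → ι) (r : Fin (n + 1) → Fin (m + 1)) x,
      g.app _ (P₂.map (face U a r).op x) = P₃.map (face U a r).op (g.app _ x) :=
    fun a r x => NatTrans.naturality_apply g _ x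
  have hk : ∀ a : Fin (p + 3) → ι, g.app _ (∑ j : Fin (p + 3), (-1 : ℤ) ^ (j : ℕ) •
      P₂.map (face U a j.succAbove).op (b (a ∘ j.succAbove))) = 0 := fun a => by
    rw [map_sum]
    simp only [map_zsmul, natg, hb]
    exact hc a
  choose z hz using fun a => hex _ _ (hk a)
  obtain ⟨w₁, hw⟩ := h₁ z fun a => hinj _ (by
    rw [map_zero, map_sum]
    simp only [map_zsmul, natf, hz]
    exact dd U P₂ (p + 1) b a)
  obtain ⟨v, hv⟩ := h₂ (fun a => b a - f.app _ (w₁ a)) fun a => by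
    have := congrArg (f.app _) (hw a)
    rw [map_sum, hz] at this
    simp only [map_zsmul, natf] at this
    simp only [map_sub, smul_sub, Finset.sum_sub_distrib]
    rw [this, sub_self]
  refine ⟨fun a => g.app _ (v a), fun a => ?_⟩
  have := congrArg (g.app _) (hv a)
  rw [map_sum, map_sub, hfg, sub_zero, hb] at this
  simpa only [map_zsmul, natg] using this

/-- In a presheaf sequence exact on all products, with surjections, vanishing passes to the quotient. -/
theorem isZero_homology_of_exact {E : Type v} [Category.{w} E] [HasFiniteProducts E] {ι : Type u} (U : ι → E)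
    {P₁ P₂ P₃ : Eᵒᵖ ⥤ AddCommGrpCat.{u}} (f : P₁ ⟶ P₂) (g : P₂ ⟶ P₃)
    (hinj : ∀ X, Function.Injective (f.app X))
    (hex : ∀ X y, g.app X y = 0 → ∃ x, f.app X x = y) (hfg : ∀ X x, g.app X (f.app X x) = 0)
    (hsurj : ∀ X, Function.Surjective (g.app X)) (p : ℕ)
    (h₂ : IsZero (((cechComplexFunctor U).obj P₂).homology (p + 1)))
    (h₁ : IsZero (((cechComplexFunctor U).obj P₁).homology (p + 2))) :
    IsZero (((cechComplexFunctor U).obj P₃).homology (p + 1)) :=
  isZero_homology_of_exact' U f g hinj hex hfg p (fun _ => hsurj _) h₂ h₁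

open Fib44.Cech in
set_option backward.isDefEq.respectTransparency.types false in
/-- Cech vanishing along a product preserving functor. -/
theorem isZero_homology_comp {E : Type v} [Category.{w} E] [HasFiniteProducts E]
    {E' : Type v} [Category.{w} E'] [HasFiniteProducts E'] (Φ : E ⥤ E') [PreservesFiniteProducts Φ]
    {ι : Type u} (U : ι → E) (P : E'ᵒᵖ ⥤ AddCommGrpCat.{u}) (p : ℕ)
    (h : IsZero (((cechComplexFunctor fun i => Φ.obj (U i)).obj P).homology (p + 1))) :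
    IsZero (((cechComplexFunctor U).obj (Φ.op ⋙ P)).homology (p + 1)) := by
  rw [isZero_homology_succ_iff] at h ⊢
  let e : ∀ {n : ℕ} (a : Fin (n + 1) → ι), Φ.obj (∏ᶜ (U ∘ a)) ≅ ∏ᶜ ((fun i => Φ.obj (U i)) ∘ a) :=
    fun a => PreservesProduct.iso Φ (U ∘ a)
  have ehom : ∀ {n : ℕ} (a : Fin (n + 1) → ι) (k : Fin (n + 1)),
      (e a).hom ≫ Pi.π ((fun i => Φ.obj (U i)) ∘ a) k = Φ.map (Pi.π (U ∘ a) k) := fun a k =>
    (congrArg (· ≫ Pi.π _ k) (PreservesProduct.iso_hom Φ (U ∘ a))).trans (piComparison_comp_π Φ (U ∘ a) k)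
  have efac : ∀ {n m : ℕ} (a : Fin (m + 1) → ι) (r : Fin (n + 1) → Fin (m + 1)),
      (e a).inv ≫ Φ.map (face U a r) = face (fun i => Φ.obj (U i)) a r ≫ (e (a ∘ r)).inv := fun a r => by
    rw [← cancel_mono (e (a ∘ r)).hom, Category.assoc, Category.assoc, Iso.inv_hom_id, Category.comp_id]
    refine Pi.hom_ext _ _ fun k => ?_
    rw [Category.assoc, Category.assoc, ehom, ← Φ.map_comp, Pi.lift_π, Pi.lift_π, Iso.inv_comp_eq]
    exact (ehom a (r k)).symm
  have nat : ∀ {n m : ℕ} (a : Fin (m + 1) → ι) (r : Fin (n + 1) → Fin (m + 1)) x,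
      P.map (e a).inv.op ((Φ.op ⋙ P).map (face U a r).op x) =
        P.map (face (fun i => Φ.obj (U i)) a r).op (P.map (e (a ∘ r)).inv.op x) := fun a r x => by
    change P.map (e a).inv.op (P.map (Φ.map (face U a r)).op x) = _
    rw [← ConcreteCategory.comp_apply, ← ConcreteCategory.comp_apply, ← P.map_comp, ← P.map_comp, ← op_comp, ← op_comp,
      efac]
  have inj : ∀ {n : ℕ} (a : Fin (n + 1) → ι), Function.Injective (P.map (e a).inv.op) :=
    fun a => (AddCommGrpCat.mono_iff_injective _).1 inferInstance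
  intro c hc
  obtain ⟨t, ht⟩ := h (fun a => P.map (e a).inv.op (c a)) fun a => by
    have := congrArg (P.map (e a).inv.op) (hc a)
    rw [map_sum, map_zero] at this
    simpa only [map_zsmul, nat] using this
  refine ⟨fun a => P.map (e a).hom.op (t a), fun a => inj a ?_⟩
  rw [map_sum, ← ht a]
  refine Finset.sum_congr rfl fun j _ => ?_
  have hi : ∀ x, P.map (e (a ∘ j.succAbove)).inv.op (P.map (e (a ∘ j.succAbove)).hom.op x) = x := fun x => by
    rw [← ConcreteCategory.comp_apply, ← P.map_comp, ← op_comp, Iso.inv_hom_id, op_id, P.map_id]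
    rfl
  rw [map_zsmul, nat, hi]

end Groth.Agent.Unr55.CechFl
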