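import Groth.Agent.Unr55.Et.AffineRefine
import Groth.Agent.Unr55.Et.CechFlasque
import Groth.Agent.Desc59.AmitsurConerve
import Groth.Prelude.Def_EtGm
import Groth.Prelude.Def_EtCech
import Mathlib.CategoryTheory.Limits.Preserves.Shapes.Over
import Mathlib.AlgebraicGeometry.Morphisms.Flat

/-!
Čech cohomology of `G_a` for an affine surjective étale covering of an affine object vanishes.
-/

set_option autoImplicit false
universe u

open CategoryTheory CategoryTheory.Limits AlgebraicGeometry Opposite TensorProduct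

set_option backward.isDefEq.respectTransparency.types false

namespace Groth.Agent.Unr55.EtaleAff

/-- The morphism to an affine scheme given by a ring map on global functions. -/
noncomputable def toAff {W : Scheme.{u}} [IsAffine W] {B : CommRingCat.{u}} (f : Γ(W, ⊤) ⟶ B) :
    Spec B ⟶ W :=
  Spec.map f ≫ W.isoSpec.inv

theorem toAff_appTop {W : Scheme.{u}} [IsAffine W] {B : CommRingCat.{u}} (f : Γ(W, ⊤) ⟶ B) :
    (toAff f).appTop ≫ (Scheme.ΓSpecIso B).hom = f := by
  have h : W.isoSpec.inv.appTop = (Scheme.ΓSpecIso Γ(W, ⊤)).inv := by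
    rw [← cancel_mono (Scheme.ΓSpecIso Γ(W, ⊤)).hom, Iso.inv_hom_id]
    have := congrArg Scheme.Hom.appTop W.isoSpec.hom_inv_id
    rw [Scheme.Hom.comp_appTop, Scheme.isoSpec_hom, Scheme.toSpecΓ_appTop] at this
    rw [this]; rfl
  rw [toAff, Scheme.Hom.comp_appTop, h, Category.assoc, Scheme.ΓSpecIso_naturality,
    Iso.inv_hom_id_assoc]

theorem toAff_comp {W W' : Scheme.{u}} [IsAffine W] [IsAffine W'] {B : CommRingCat.{u}}
    (f : Γ(W, ⊤) ⟶ B) (h : W ⟶ W') : toAff f ≫ h = toAff (h.appTop ≫ f) := by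
  rw [toAff, toAff, Spec.map_comp, Category.assoc, Category.assoc, Scheme.isoSpec_inv_naturality]

theorem eq_toAff {W : Scheme.{u}} [IsAffine W] {B : CommRingCat.{u}} (g : Spec B ⟶ W) :
    g = toAff (g.appTop ≫ (Scheme.ΓSpecIso B).hom) :=
  ext_of_isAffine ((cancel_mono (Scheme.ΓSpecIso B).hom).1 (toAff_appTop _).symm)

theorem isAffine_fan {C : Scheme.{u}} [IsAffine C] :
    ∀ (n : ℕ) (f : Fin n → Over C), (∀ i, IsAffine (f i).left) → ∀ (c : Fan f), IsLimit c → IsAffine c.pt.left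
  | 0, f, _, c, hc => by
    let e : Over.mk (𝟙 C) ≅ c.pt :=
      { hom := hc.lift (Fan.mk (Over.mk (𝟙 C)) fun i => i.elim0)
        inv := Over.mkIdTerminal.from c.pt
        hom_inv_id := Over.mkIdTerminal.hom_ext _ _
        inv_hom_id := hc.hom_ext fun i => i.as.elim0 }
    exact @IsAffine.of_isIso _ _ ((Over.forget C).mapIso e).inv inferInstance ‹IsAffine C›
  | n + 1, f, hf, c, hc => by
    have h₁ : IsAffine (∏ᶜ fun i : Fin n => f i.succ).left :=
      isAffine_fan n (fun i => f i.succ) (fun i => hf _) _ (limit.isLimit _)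
    have h₀ := hf 0
    have : IsAffine (f 0 ⨯ ∏ᶜ fun i : Fin n => f i.succ).left :=
      IsAffine.of_isIso (Over.prodLeftIsoPullback (f 0) (∏ᶜ fun i : Fin n => f i.succ)).hom
    exact @IsAffine.of_isIso _ _ ((Over.forget C).mapIso (IsLimit.conePointUniqueUpToIso
      (extendFanIsLimit f (limit.isLimit _) (prodIsProd (f 0) _)) hc)).inv inferInstance
      ‹IsAffine (f 0 ⨯ ∏ᶜ fun i : Fin n => f i.succ).left›

variable {X : Scheme.{u}} {U : X.Etale} (Y : Over U)

/-- Passing to schemes over the base object. -/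
noncomputable abbrev Φ (U : X.Etale) : Over U ⥤ Over U.left :=
  Over.post (X := U) (Scheme.Etale.forget X ⋙ Over.forget X)

/-- The one-member family. -/
abbrev fam1 : PUnit.{u + 2} → Over U := fun _ => Y

/-- The `(n+1)`-fold product. -/
noncomputable abbrev pw (n : ℕ) : Over U :=
  ∏ᶜ (fam1 Y ∘ fun _ : Fin (n + 1) => PUnit.unit.{u + 2})

/-- The product is a product of schemes. -/
noncomputable def pwLimit (n : ℕ) :
    IsLimit (Fan.mk ((Φ U).obj (pw Y n)) fun k : Fin (n + 1) =>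
      (Φ U).map (Pi.π (fam1 Y ∘ fun _ : Fin (n + 1) => PUnit.unit.{u + 2}) k)) :=
  have : PreservesLimitsOfShape (Discrete (Fin (n + 1))) (Φ U) :=
    inferInstanceAs (PreservesLimitsOfShape (Discrete (Fin (n + 1)))
      (Over.post (X := U) (Scheme.Etale.forget X ⋙ Over.forget X)))
  isLimitFanMkObjOfIsLimit (Φ U) _ _ (productIsProduct _)

theorem isAffine_pw [IsAffine U.left] (hY : IsAffine Y.left.left) (n : ℕ) : IsAffine (pw Y n).left.left :=
  isAffine_fan (n + 1) (fun _ : Fin (n + 1) => (Φ U).obj Y) (fun _ => hY) _ (pwLimit Y n)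

/-- Global functions on the products. -/
abbrev GT (n : ℕ) : Type u := Γ((pw Y n).left.left, ⊤)

noncomputable instance (n : ℕ) : Algebra Γ(U.left, ⊤) (GT Y n) :=
  ((Φ U).obj (pw Y n)).hom.appTop.hom.toAlgebra

noncomputable instance : Algebra Γ(U.left, ⊤) Γ(Y.left.left, ⊤) :=
  ((Φ U).obj Y).hom.appTop.hom.toAlgebra

theorem appTop_congr {P Q : Scheme.{u}} {a b : P ⟶ Q} (e : a = b) : a.appTop = b.appTop := by rw [e]

/-- The projections. -/
noncomputable def slot (n : ℕ) (k : Fin (n + 1)) : Γ(Y.left.left, ⊤) →ₐ[Γ(U.left, ⊤)] GT Y n where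
  toRingHom := ((Φ U).map (Pi.π (fam1 Y ∘ fun _ : Fin (n + 1) => PUnit.unit.{u + 2}) k)).left.appTop.hom
  commutes' r := ConcreteCategory.congr_hom ((Scheme.Hom.comp_appTop _ _).symm.trans
    (appTop_congr (Over.w ((Φ U).map (Pi.π (fam1 Y ∘ fun _ : Fin (n + 1) => PUnit.unit.{u + 2}) k))))) r

/-- The cofaces. -/
noncomputable def cf (n : ℕ) (i : Fin (n + 2)) : GT Y n →ₐ[Γ(U.left, ⊤)] GT Y (n + 1) where
  toRingHom := ((Φ U).map (Fib44.Cech.face (fam1 Y) (fun _ : Fin (n + 2) => PUnit.unit.{u + 2})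
    i.succAbove)).left.appTop.hom
  commutes' r := ConcreteCategory.congr_hom ((Scheme.Hom.comp_appTop _ _).symm.trans
    (appTop_congr (Over.w ((Φ U).map (Fib44.Cech.face (fam1 Y) (fun _ : Fin (n + 2) => PUnit.unit.{u + 2})
      i.succAbove))))) r

theorem cf_slot (n : ℕ) (i : Fin (n + 2)) (j : Fin (n + 1)) :
    (cf Y n i).comp (slot Y n j) = slot Y (n + 1) (i.succAbove j) := by
  refine AlgHom.coe_ringHom_injective ?_
  refine congrArg CommRingCat.Hom.hom ((Scheme.Hom.comp_appTop _ _).symm.trans (appTop_congr ?_))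
  show (((Φ U).map _) ≫ ((Φ U).map _)).left = _
  rw [← Functor.map_comp, Fib44.Cech.face, Pi.lift_π]

variable [IsAffine U.left]

theorem exists_lift (hY : IsAffine Y.left.left) (n : ℕ) (B : Type u) [CommRing B]
    [Algebra Γ(U.left, ⊤) B] (f : Fin (n + 1) → Γ(Y.left.left, ⊤) →ₐ[Γ(U.left, ⊤)] B) :
    ∃ φ : GT Y n →ₐ[Γ(U.left, ⊤)] B, ∀ j, φ.comp (slot Y n j) = f j := by
  have : IsAffine ((Φ U).obj Y).left := hY
  let S : Over U.left := Over.mk (toAff (W := U.left) (CommRingCat.ofHom (algebraMap Γ(U.left, ⊤) B)))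
  let m : ∀ k : Fin (n + 1), S ⟶ (Φ U).obj Y := fun k =>
    Over.homMk (toAff (W := Y.left.left) (CommRingCat.ofHom (f k).toRingHom)) (by
      refine (toAff_comp _ _).trans (congrArg toAff ?_)
      ext r
      exact (f k).commutes r)
  let g := (pwLimit Y n).lift (Fan.mk S m)
  have hg : ∀ k, g ≫ (Φ U).map (Pi.π (fam1 Y ∘ fun _ : Fin (n + 1) => PUnit.unit.{u + 2}) k) = m k :=
    fun k => (pwLimit Y n).fac (Fan.mk S m) ⟨k⟩
  refine ⟨⟨(g.left.appTop ≫ (Scheme.ΓSpecIso (CommRingCat.of B)).hom).hom, fun r => ?_⟩, fun j => ?_⟩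
  · have e := appTop_congr (Over.w g)
    have e2 : ((Φ U).obj (pw Y n)).hom.appTop ≫ g.left.appTop ≫ (Scheme.ΓSpecIso (CommRingCat.of B)).hom =
        CommRingCat.ofHom (algebraMap Γ(U.left, ⊤) B) := by
      rw [← Category.assoc, ← Scheme.Hom.comp_appTop]
      exact (congrArg (· ≫ _) e).trans (toAff_appTop _)
    exact ConcreteCategory.congr_hom e2 r
  · refine AlgHom.coe_ringHom_injective ?_
    have e2 : ((Φ U).map (Pi.π (fam1 Y ∘ fun _ : Fin (n + 1) => PUnit.unit.{u + 2}) j)).left.appTop ≫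
        g.left.appTop ≫ (Scheme.ΓSpecIso (CommRingCat.of B)).hom = CommRingCat.ofHom (f j).toRingHom := by
      rw [← Category.assoc, ← Scheme.Hom.comp_appTop]
      exact (congrArg (fun z : S ⟶ (Φ U).obj Y => z.left.appTop ≫ (Scheme.ΓSpecIso (CommRingCat.of B)).hom) (hg j)).trans
        (@toAff_appTop _ hY _ _)
    exact congrArg CommRingCat.Hom.hom e2

theorem hom_ext' (hY : IsAffine Y.left.left) (n : ℕ) (B : Type u) [CommRing B]
    [Algebra Γ(U.left, ⊤) B] (φ ψ : GT Y n →ₐ[Γ(U.left, ⊤)] B)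
    (h : ∀ j, φ.comp (slot Y n j) = ψ.comp (slot Y n j)) : φ = ψ := by
  have := isAffine_pw Y hY n
  have : IsAffine ((Φ U).obj Y).left := hY
  have : IsAffine ((Φ U).obj (pw Y n)).left := isAffine_pw Y hY n
  let S : Over U.left := Over.mk (toAff (W := U.left) (CommRingCat.ofHom (algebraMap Γ(U.left, ⊤) B)))
  let mk : (GT Y n →ₐ[Γ(U.left, ⊤)] B) → (S ⟶ (Φ U).obj (pw Y n)) := fun χ =>
    Over.homMk (toAff (W := (pw Y n).left.left) (CommRingCat.ofHom χ.toRingHom)) (by
      refine (toAff_comp _ _).trans (congrArg toAff ?_)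
      ext r
      exact χ.commutes r)
  have e : mk φ = mk ψ := by
    refine Fan.IsLimit.hom_ext (pwLimit Y n) _ _ fun j => Over.OverMorphism.ext ?_
    refine (@toAff_comp _ _ (isAffine_pw Y hY n) hY _ _ _).trans
      (Eq.trans ?_ (@toAff_comp _ _ (isAffine_pw Y hY n) hY _ _ _).symm)
    exact congrArg (@toAff _ hY _) (CommRingCat.hom_ext (congrArg AlgHom.toRingHom (h j)))
  refine AlgHom.coe_ringHom_injective ?_
  have e2 := congrArg (fun z : S ⟶ (Φ U).obj (pw Y n) =>
    z.left.appTop ≫ (Scheme.ΓSpecIso (CommRingCat.of B)).hom) e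
  exact congrArg CommRingCat.Hom.hom (((toAff_appTop _).symm.trans e2).trans (toAff_appTop _))

theorem faithfullyFlat (hY : Cov U Y) : Module.FaithfullyFlat Γ(U.left, ⊤) Γ(Y.left.left, ⊤) := by
  have : IsAffine ((Φ U).obj Y).left := hY.1
  have : Etale ((Φ U).obj Y).hom := by
    have : Etale Y.left.hom := Y.left.prop
    have : Etale (Y.hom.left ≫ U.hom) := by rw [Over.w Y.hom.hom]; exact Y.left.prop
    exact MorphismProperty.of_postcomp @Etale (W' := @Etale) Y.hom.left U.hom U.prop this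
  have h1 : Flat (Spec.map ((Φ U).obj Y).hom.appTop) := by
    have := MorphismProperty.arrow_mk_iso_iff @Flat (arrowIsoSpecΓOfIsAffine ((Φ U).obj Y).hom)
    exact this.1 inferInstance
  have h2 : Surjective (Spec.map ((Φ U).obj Y).hom.appTop) := by
    have := MorphismProperty.arrow_mk_iso_iff @Surjective (arrowIsoSpecΓOfIsAffine ((Φ U).obj Y).hom)
    exact this.1 hY.2
  exact RingHom.faithfullyFlat_algebraMap_iff.1 ((flat_and_surjective_SpecMap_iff _).1 ⟨h1, h2⟩)

set_option backward.isDefEq.respectTransparency false in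
theorem isZero_cechH_Ga (hY : Cov U Y) (q : ℕ) :
    IsZero (EtCech.cechH (fam1 Y) (EtCoh.Ga X).obj (q + 1)) := by
  have := faithfullyFlat Y hY
  let P : (Over U)ᵒᵖ ⥤ AddCommGrpCat.{u + 1} := (Over.forget U).op ⋙ (EtCoh.Ga X).obj
  refine (Fib44.Cech.isZero_homology_succ_iff (fam1 Y) P q).2 fun c hc => ?_
  let D := Desc59.AmitsurConerve.D Γ(U.left, ⊤) (GT Y) (cf Y)
  have hD : ∀ (p : ℕ) (d : (GT Y p)),
      (ULift.up (D p d) : ULift.{u + 1} (GT Y (p + 1))) =
        ∑ j : Fin (p + 2), (-1 : ℤ) ^ (j : ℕ) •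
          (show ULift.{u + 1} (GT Y (p + 1)) from
            P.map (Fib44.Cech.face (fam1 Y) (fun _ : Fin (p + 2) => PUnit.unit.{u + 2}) j.succAbove).op
              (ULift.up d : ULift.{u + 1} (GT Y p))) := fun p d => by
    simp only [D, Desc59.AmitsurConerve.D, LinearMap.sum_apply, LinearMap.smul_apply]
    refine (map_sum (AddEquiv.ulift.{u, u + 1} (α := GT Y (p + 1))).symm _ _).trans ?_
    refine Finset.sum_congr rfl fun j _ => ?_
    rw [map_zsmul]
    rfl
  have hcomp : ∀ p, D (p + 1) ∘ₗ D p = 0 := fun p => by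
    refine LinearMap.ext fun d => ?_
    have h := CechFl.dd (fam1 Y) P p (fun _ => (ULift.up d : ULift.{u + 1} (GT Y p)))
      (fun _ => PUnit.unit.{u + 2})
    refine congrArg ULift.down ((hD (p + 1) (D p d)).trans (Eq.trans ?_ h))
    refine Finset.sum_congr rfl fun j _ => ?_
    rw [hD p d]
  have hex := Desc59.AmitsurConerve.exact_D Γ(U.left, ⊤) Γ(Y.left.left, ⊤) (GT Y) (slot Y) (cf Y)
    (cf_slot Y) (exists_lift Y hY.1) (hom_ext' Y hY.1) hcomp q
  let c₀ : GT Y (q + 1) := (show ULift.{u + 1} (GT Y (q + 1)) from c fun _ => PUnit.unit).down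
  obtain ⟨w, hw⟩ := (hex c₀).1 (congrArg ULift.down
    ((hD (q + 1) c₀).trans (hc fun _ => PUnit.unit)))
  refine ⟨fun _ => (ULift.up w : ULift.{u + 1} (GT Y q)), fun a => ?_⟩
  exact ((hD q w).symm.trans (congrArg ULift.up hw))

end Groth.Agent.Unr55.EtaleAff
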