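import Groth.Agent.Unr55.Et.Pull
import Mathlib.Algebra.Homology.ShortComplex.ExactFunctor
import Mathlib.CategoryTheory.Adjunction.Additive

/-!
Inverse image of etale sheaves is exact; unit is mono for surjective morphisms.
-/

universe u

open CategoryTheory CategoryTheory.Limits AlgebraicGeometry Opposite

namespace Groth.Agent.Unr55.EtSh

variable {X Y : Scheme.{u}}

theorem stalk_map_injective_of_mono {F G : EtCoh.Ab X} (φ : F ⟶ G) [Mono φ]
    {Ω : Type u} [Field Ω] [IsSepClosed Ω] (ξ : Spec (CommRingCat.of Ω) ⟶ X) :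
    Function.Injective ((EtCoh.stalk ξ).map φ) := by
  have happ : ∀ U, Function.Injective (φ.hom.app (op U)) := fun U => by
    have : Mono φ.hom := (sheafToPresheaf X.smallEtaleTopology AddCommGrpCat.{u + 1}).map_mono φ
    exact (AddCommGrpCat.mono_iff_injective _).1 (NatTrans.mono_iff_mono_app φ.hom |>.1 this (op U))
  refine (injective_iff_map_eq_zero ((EtCoh.stalk ξ).map φ).hom).2 fun s hs => ?_
  obtain ⟨U, t, σ, rfl⟩ := exists_germ_eq ξ F s
  obtain ⟨V, g, t', h1, h2⟩ := (germ_eq_zero_iff ξ G t (φ.hom.app (op U) σ)).1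
    ((stalk_map_germ ξ φ t σ).symm.trans hs)
  refine (germ_eq_zero_iff ξ F t σ).2 ⟨V, g, t', h1, happ V ?_⟩
  rw [map_zero]
  exact (NatTrans.naturality_apply φ.hom g.op σ).trans h2

theorem preservesFiniteLimits_pull (f : X ⟶ Y) : PreservesFiniteLimits (EtCoh.pull f) := by
  have := (EtCoh.pullPushAdj f).left_adjoint_additive
  have := (EtCoh.pullPushAdj f).leftAdjoint_preservesColimits
  refine (Functor.preservesFiniteLimits_iff_forall_exact_map_and_mono (EtCoh.pull f)).2 fun S hS => ?_
  refine ⟨((Functor.preservesFiniteColimits_iff_forall_exact_map_and_epi (EtCoh.pull f)).1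
    inferInstance S hS).1, mono_of_stalks _ fun K _ _ η => ?_⟩
  have := hS.mono_f
  intro a b hab
  let e := stalkPullIso f η
  have hinj : ∀ Z, Function.Injective (e.hom.app Z) := fun Z =>
    (AddCommGrpCat.mono_iff_injective _).1 inferInstance
  refine hinj _ (stalk_map_injective_of_mono S.f (η ≫ f) ?_)
  exact (NatTrans.naturality_apply e.hom S.f a).symm.trans
    ((congrArg (e.hom.app S.X₂) hab).trans (NatTrans.naturality_apply e.hom S.f b))

set_option backward.isDefEq.respectTransparency.types false in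
/-- The map to the direct image of the skyscraper sheaf given by the germs. -/
noncomputable def toPushSky (f : X ⟶ Y) {Ω : Type u} [Field Ω] [IsSepClosed Ω]
    (ξ : Spec (CommRingCat.of Ω) ⟶ X) (F : EtCoh.Ab Y) :
    F ⟶ (EtCoh.push f).obj
      ((Scheme.pointSmallEtale ξ).skyscraperSheaf ((EtCoh.stalk (ξ ≫ f)).obj F)) :=
  ⟨{ app := fun U => Pi.lift fun t =>
      (Scheme.pointSmallEtale (ξ ≫ f)).toPresheafFiber U.unop (ptDown f ξ t) F.obj
     naturality := fun U V g => by
      refine Pi.hom_ext _ _ fun t => ?_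
      refine (Category.assoc _ _ _).trans ?_
      refine (congrArg (F.obj.map g ≫ ·) (Pi.lift_π _ t)).trans ?_
      refine Eq.trans ?_ (Category.assoc _ _ _).symm
      let A := (EtCoh.stalk (ξ ≫ f)).obj F
      have hm : ((EtCoh.push f).obj ((Scheme.pointSmallEtale ξ).skyscraperSheaf A)).obj.map g ≫
          Pi.π (fun _ : Pt ξ ((EtCoh.bc f).obj V.unop) => A) t =
          Pi.π (fun _ : Pt ξ ((EtCoh.bc f).obj U.unop) => A)
            ((Scheme.pointSmallEtale ξ).fiber.map ((EtCoh.bc f).map g.unop) t) :=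
        (Pi.map'_comp_π (f := fun _ : Pt ξ ((EtCoh.bc f).obj U.unop) => A)
          (g := fun _ : Pt ξ ((EtCoh.bc f).obj V.unop) => A)
          ((Scheme.pointSmallEtale ξ).fiber.map ((EtCoh.bc f).map g.unop)) (fun _ => 𝟙 A) t).trans
          (Category.comp_id _)
      refine Eq.trans ?_ (congrArg (CategoryStruct.comp _) hm).symm
      refine Eq.trans ?_ (Pi.lift_π (f := fun _ : Pt ξ ((EtCoh.bc f).obj U.unop) => A)
        (fun t => (Scheme.pointSmallEtale (ξ ≫ f)).toPresheafFiber U.unop (ptDown f ξ t) F.obj) _).symm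
      refine ((Scheme.pointSmallEtale (ξ ≫ f)).toPresheafFiber_w g.unop (ptDown f ξ t) F.obj).trans ?_
      exact congrArg (fun q => (Scheme.pointSmallEtale (ξ ≫ f)).toPresheafFiber U.unop q F.obj)
        (ptDown_map f ξ g.unop t).symm }⟩

theorem germ_ptDown_eq_zero (f : X ⟶ Y) {Ω : Type u} [Field Ω] [IsSepClosed Ω]
    (ξ : Spec (CommRingCat.of Ω) ⟶ X) (F : EtCoh.Ab Y) {U : Y.Etale} (σ : EtCoh.sect F U)
    (hσ : ((EtCoh.pullPushAdj f).unit.app F).hom.app (op U) σ = 0)
    (t : Pt ξ ((EtCoh.bc f).obj U)) : germ (ξ ≫ f) F (ptDown f ξ t) σ = 0 := by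
  let φ := toPushSky f ξ F
  let ψ := ((EtCoh.pullPushAdj f).homEquiv _ _).symm φ
  have h : (EtCoh.pullPushAdj f).unit.app F ≫ (EtCoh.push f).map ψ = φ :=
    ((EtCoh.pullPushAdj f).homEquiv_unit _ _ ψ).symm.trans (Equiv.apply_symm_apply _ _)
  have h0 : φ.hom.app (op U) σ = 0 := by
    rw [← h]
    exact (congrArg (((EtCoh.push f).map ψ).hom.app (op U)) hσ).trans (map_zero _)
  let P := fun _ : Pt ξ ((EtCoh.bc f).obj U) => (EtCoh.stalk (ξ ≫ f)).obj F
  have h1 : φ.hom.app (op U) ≫ Pi.π P t =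
      (Scheme.pointSmallEtale (ξ ≫ f)).toPresheafFiber U (ptDown f ξ t) F.obj := Pi.lift_π _ _
  exact (ConcreteCategory.congr_hom h1 σ).symm.trans ((congrArg (Pi.π P t) h0).trans (map_zero _))

set_option backward.isDefEq.respectTransparency.types false in
theorem mono_unit_of_surjective (f : X ⟶ Y) [Surjective f] (F : EtCoh.Ab Y) :
    Mono ((EtCoh.pullPushAdj f).unit.app F) := by
  have hinj : ∀ U, Function.Injective (((EtCoh.pullPushAdj f).unit.app F).hom.app (op U)) :=
    fun U => by
      refine (injective_iff_map_eq_zero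
        (((EtCoh.pullPushAdj f).unit.app F).hom.app (op U)).hom).2 fun σ hσ => ?_
      refine sect_eq_zero_of_local F σ fun x => ?_
      obtain ⟨y, hy⟩ := (pullback.fst U.hom f).surjective x
      obtain ⟨K, _, _, η, t, ht⟩ := point_over ((EtCoh.bc f).obj U) y
      obtain ⟨V, g, t', h1, h2⟩ :=
        (germ_eq_zero_iff (η ≫ f) F (ptDown f η t) σ).1 (germ_ptDown_eq_zero f η F σ hσ t)
      refine ⟨V, g, hom _ t' default, ?_, h2⟩
      exact (congrArg (fun q => hom _ q default) h1).trans
        ((congrArg (pullback.fst U.hom f) ht).trans hy)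
  have : Mono ((EtCoh.pullPushAdj f).unit.app F).hom := by
    rw [NatTrans.mono_iff_mono_app]
    exact fun U => (AddCommGrpCat.mono_iff_injective _).2 (hinj U.unop)
  exact (sheafToPresheaf Y.smallEtaleTopology AddCommGrpCat.{u + 1}).mono_of_mono_map this

end Groth.Agent.Unr55.EtSh
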