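import Groth.Agent.Unr55.Et.StrictHens
import Groth.Agent.Unr55.Et.PullExact
import Mathlib.Algebra.Homology.DerivedCategory.Ext.EnoughProjectives
import Mathlib.CategoryTheory.Limits.MorphismProperty

/-!
Cohomology of a strictly henselian local ring vanishes in positive degree.
-/

universe u

open CategoryTheory CategoryTheory.Limits AlgebraicGeometry Opposite

namespace Groth.Agent.Unr55.EtSh

set_option backward.isDefEq.respectTransparency.types false

/-- The tautological object is terminal. -/
noncomputable def isTerminalTop (X : Scheme.{u}) : IsTerminal (EtCoh.top X) :=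
  MorphismProperty.Over.mkIdTerminal EtCoh.etaleMP X

variable (R : Type u) [CommRing R] [HenselianLocalRing R] [IsSepClosed (IsLocalRing.ResidueField R)]

theorem app_top_surjective {F G : EtCoh.Ab (Spec (CommRingCat.of R))} (φ : F ⟶ G) [Epi φ] :
    Function.Surjective (φ.hom.app (op (EtCoh.top (Spec (CommRingCat.of R))))) := by
  intro τ
  have : Epi ((EtCoh.stalk (closedPt R)).map φ) := inferInstance
  obtain ⟨a, ha⟩ := (AddCommGrpCat.epi_iff_surjective _).1 this (germ (closedPt R) G (topPt R) τ)
  obtain ⟨σ, rfl⟩ := (germ_top_bijective R F).2 a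
  exact ⟨σ, (germ_top_bijective R G).1 ((stalk_map_germ (closedPt R) φ (topPt R) σ).symm.trans ha)⟩

theorem projective_constant_Z :
    Projective ((constantSheaf (Spec (CommRingCat.of R)).smallEtaleTopology AddCommGrpCat.{u + 1}).obj
      (AddCommGrpCat.of (ULift.{u + 1} ℤ))) := by
  refine ⟨fun {G F} h e _ => ?_⟩
  let adj := constantSheafAdj (Spec (CommRingCat.of R)).smallEtaleTopology AddCommGrpCat.{u + 1}
    (isTerminalTop (Spec (CommRingCat.of R)))
  let h' := adj.homEquiv _ _ h
  obtain ⟨σ, hσ⟩ := app_top_surjective R e (h' (ULift.up 1))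
  let k : AddCommGrpCat.of (ULift.{u + 1} ℤ) ⟶
      ((sheafSections _ AddCommGrpCat.{u + 1}).obj (op (EtCoh.top (Spec (CommRingCat.of R))))).obj G :=
    AddCommGrpCat.ofHom ((zmultiplesHom _ σ).comp AddEquiv.ulift.toAddMonoidHom)
  refine ⟨(adj.homEquiv _ _).symm k, ?_⟩
  apply (adj.homEquiv _ _).injective
  rw [Adjunction.homEquiv_naturality_right, Equiv.apply_symm_apply]
  refine ConcreteCategory.hom_ext _ _ ?_
  rintro ⟨z⟩
  have hz : (⟨z⟩ : ULift.{u + 1} ℤ) = z • ULift.up 1 := ULift.ext _ _ (by simp)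
  rw [hz]
  refine (map_zsmul _ z _).trans (((congrArg (fun q => z • q) ?_)).trans (map_zsmul h'.hom z _).symm)
  change e.hom.app _ ((1 : ℤ) • σ) = h' (ULift.up 1)
  rw [one_smul, hσ]

theorem H_subsingleton (F : EtCoh.Ab (Spec (CommRingCat.of R))) (p : ℕ) (hp : 1 ≤ p) :
    Subsingleton (EtCoh.H (Spec (CommRingCat.of R)) F p) := by
  obtain ⟨q, rfl⟩ := Nat.exists_eq_add_one.2 hp
  have := projective_constant_Z R
  exact Abelian.Ext.subsingleton_of_projective _ _ _

end Groth.Agent.Unr55.EtSh
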