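import Groth.Agent.Unr55.Et.GaCech
import Groth.Agent.Unr55.Et.CechCartan
import Groth.Agent.Unr55.Et.StrictHensH

/-!
`H^p(S, G_a) = 0` for `S` affine and `p ≥ 1`.
-/

set_option autoImplicit false
universe u

open CategoryTheory CategoryTheory.Limits AlgebraicGeometry Opposite

set_option backward.isDefEq.respectTransparency.types false

namespace Groth.Agent.Unr55.EtaleAff

theorem H_Ga_subsingleton (S : Scheme.{u}) [IsAffine S] (p : ℕ) (hp : 1 ≤ p) :
    Subsingleton (EtCoh.H S (EtCoh.Ga S) p) := by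
  obtain ⟨q, rfl⟩ := Nat.exists_eq_add_one.2 hp
  refine CechCartan.subsingleton_H.{u + 1, u, u + 1} (B := {U : S.Etale | IsAffine U.left}) (Cov := Cov) ?_ ?_
    (EtSh.isTerminalTop S) (show IsAffine (EtCoh.top S).left from ‹IsAffine S›) q _ ?_
  · intro U hU Y hY n a
    have : IsAffine U.left := hU
    exact isAffine_pw Y hY.1 n
  · intro U hU F G g _ s
    have : IsAffine U.left := hU
    obtain ⟨Y, hY, hmem⟩ := exists_cov g s
    refine ⟨Y, hY, hmem, EtSh.mem_topology fun x => ?_⟩
    obtain ⟨v, hv⟩ := hY.2.surj x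
    exact ⟨Y.left, Y.hom, v, Sieve.ofArrows_mk (fun _ : PUnit.{u + 2} => Y.left) (fun _ => Y.hom) PUnit.unit, hv⟩
  · intro U hU Y hY q
    have : IsAffine U.left := hU
    exact isZero_cechH_Ga Y hY q

end Groth.Agent.Unr55.EtaleAff
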