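import Groth.Agent.Unr55.Et.ZarCompare
import Groth.Agent.Unr55.Et.GaAffine
import Groth.Prelude.Def_Coh

/-!
Étale cohomology of `G_a` is Zariski cohomology of the structure sheaf.
-/

set_option autoImplicit false
universe u

open CategoryTheory CategoryTheory.Limits AlgebraicGeometry Opposite TopologicalSpace

set_option backward.isDefEq.respectTransparency.types false

namespace Groth.Agent.Unr55.GaZar

variable (X : Scheme.{u})

/-- Čech acyclic on affine étale objects. -/
abbrev Good (F : EtCoh.Ab X) : Prop :=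
  CechCartan.Acyclic.{u + 1, u, u + 1} (J := X.smallEtaleTopology)
    {U : X.Etale | IsAffine U.left} EtaleAff.Cov F

theorem hprod : ∀ U ∈ {U : X.Etale | IsAffine U.left}, ∀ Y : Over U, EtaleAff.Cov U Y →
    ∀ (n : ℕ) (a : Fin (n + 1) → PUnit.{u + 2}),
      (∏ᶜ (CechCartan.fam.{u + 1, u, u + 1} Y ∘ a)).left ∈ {U : X.Etale | IsAffine U.left} := by
  intro U hU Y hY n a
  have : IsAffine U.left := hU
  exact EtaleAff.isAffine_pw Y hY.1 n

theorem href : ∀ U ∈ {U : X.Etale | IsAffine U.left}, ∀ {F G : EtCoh.Ab X} (g : F ⟶ G) [Epi g]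
    (s : G.obj.obj (op U)), ∃ Y : Over U, EtaleAff.Cov U Y ∧
      (Presheaf.imageSieve g.hom s).arrows Y.hom ∧
      Sieve.ofArrows (fun i => (CechCartan.fam.{u + 1, u, u + 1} Y i).left)
        (fun i => (CechCartan.fam.{u + 1, u, u + 1} Y i).hom) ∈ X.smallEtaleTopology U := by
  intro U hU F G g _ s
  have : IsAffine U.left := hU
  obtain ⟨Y, hY, hmem⟩ := EtaleAff.exists_cov g s
  refine ⟨Y, hY, hmem, EtSh.mem_topology fun x => ?_⟩
  obtain ⟨v, hv⟩ := hY.2.surj x
  exact ⟨Y.left, Y.hom, v, Sieve.ofArrows_mk (fun _ : PUnit.{u + 2} => Y.left) (fun _ => Y.hom) PUnit.unit, hv⟩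

theorem good_Ga : Good X (EtCoh.Ga X) := by
  intro U hU Y hY q
  have : IsAffine U.left := hU
  exact EtaleAff.isZero_cechH_Ga Y hY q

/-- The final object coming from the whole space. -/
noncomputable def zarTopTerminal : IsTerminal ((EtZar.zarToEt X).obj ⊤) :=
  (EtSh.isTerminalTop X).ofIso
    { hom := MorphismProperty.Over.homMk X.topIso.inv (X.toIso_inv_ι)
      inv := MorphismProperty.Over.homMk X.topIso.hom (Category.comp_id _)
      hom_inv_id := MorphismProperty.Over.Hom.ext X.topIso.inv_hom_id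
      inv_hom_id := MorphismProperty.Over.Hom.ext X.topIso.hom_inv_id }

instance wEqualsLocallyBijective : (Opens.grothendieckTopology X).WEqualsLocallyBijective AddCommGrpCat.{u + 1} :=
  ZarCmp.wEqualsLocallyBijective X

instance : EtZar.ZarCont X := ZarCmp.zarCont X

instance : (EtZar.resZar X).PreservesZeroMorphisms := ⟨fun _ _ => rfl⟩

theorem shortExact_resZar (S : ShortComplex (EtCoh.Ab X)) (hS : S.ShortExact)
    (h : Good X S.X₁) : (S.map (EtZar.resZar X)).ShortExact := by
  have : Sheaf.IsLocallySurjective (S.map (EtZar.resZar X)).g := by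
    constructor
    intro U s x hx
    obtain ⟨V, hV, hxV, hVU⟩ := exists_isAffineOpen_mem_and_subset (X := X) (x := x) (U := U) hx
    obtain ⟨t, ht⟩ := CechCartan.surjective_sections.{u + 1, u, u + 1} {U : X.Etale | IsAffine U.left}
      EtaleAff.Cov (href X) hS h ((EtZar.zarToEt X).obj V) hV
      (S.X₃.obj.map ((EtZar.zarToEt X).map (homOfLE hVU)).op s)
    exact ⟨V, homOfLE hVU, ⟨t, ht⟩, hxV⟩
  exact ZarCmp.shortExact_of_sections _
    (fun V => (CechFl.exists_sections_preimage S hS ((EtZar.zarToEt X).obj V) 0 (map_zero _)).1)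
    (fun V y hy => (CechFl.exists_sections_preimage S hS ((EtZar.zarToEt X).obj V) y hy).2)

theorem isFlasque_resZar (I : EtCoh.Ab X) [Injective I] :
    TopCat.Sheaf.IsFlasque (X := X.toTopCat) ((EtZar.resZar X).obj I) where
  epi {U V} i := by
    have := CechInjU.injective_presheaf.{u + 1, u + 1, u} I
    have : Mono ((EtZar.zarToEt X).map i.unop) := by
      have : Mono ((EtZar.zarToEt X).map i.unop).left :=
        inferInstanceAs (Mono (X.homOfLE i.unop.le))
      exact ⟨fun a b h => MorphismProperty.Over.Hom.ext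
        ((cancel_mono ((EtZar.zarToEt X).map i.unop).left).1 (congrArg (fun m => m.left) h))⟩
    rw [AddCommGrpCat.epi_iff_surjective]
    exact ZarCmp.injective_map_surjective.{u + 1, u + 1, u} I.obj ((EtZar.zarToEt X).map i.unop)

/-- Étale to Zariski. -/
theorem H_equiv_resZar (F : EtCoh.Ab X) (hF : Good X F) (p : ℕ) :
    Nonempty (EtCoh.H X F p ≃+ EtZar.H ((EtZar.resZar X).obj F) p) :=
  ExtCmp.compare (EtZar.resZar X) _ _ (Good X) (fun S hS _ h => shortExact_resZar X S hS h)
    (fun S hS hI h => @CechCartan.acyclic_cokernel.{u + 1, u, u + 1} _ _ _ _ _ _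
      {U : X.Etale | IsAffine U.left} EtaleAff.Cov (hprod X) (href X) S hS hI h)
    (fun I hI n => ZarCmp.subsingleton_H_of_flasque X _ (@isFlasque_resZar X I hI) n)
    (fun G => (ExtCmp.homTop (zarTopTerminal X) G).trans
      (ExtCmp.homTop (ZarCmp.topTerminal X) ((EtZar.resZar X).obj G)).symm)
    (fun {G G'} g c => (ExtCmp.homTop (ZarCmp.topTerminal X) ((EtZar.resZar X).obj G')).injective (by
      refine ((ExtCmp.homTop (ZarCmp.topTerminal X) ((EtZar.resZar X).obj G')).apply_symm_apply _).trans ?_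
      refine Eq.trans ?_ (ExtCmp.homTop_comp (ZarCmp.topTerminal X) ((EtZar.resZar X).map g) _).symm
      refine Eq.trans ?_ (congrArg (((EtZar.resZar X).map g).hom.app (op ⊤))
        ((ExtCmp.homTop (ZarCmp.topTerminal X) ((EtZar.resZar X).obj G)).apply_symm_apply _)).symm
      rfl))
    p F hF

/-- Lifting the universe of the values. -/
noncomputable abbrev liftU :
    Sheaf (Opens.grothendieckTopology X) AddCommGrpCat.{u} ⥤ EtZar.Ab X :=
  sheafCompose (Opens.grothendieckTopology X) AddCommGrpCat.uliftFunctor.{u + 1, u}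

instance : (liftU X).PreservesZeroMorphisms := ⟨fun _ _ => rfl⟩

theorem shortExact_liftU (S : ShortComplex (Sheaf (Opens.grothendieckTopology X) AddCommGrpCat.{u}))
    (hS : S.ShortExact) : (S.map (liftU X)).ShortExact := by
  have : Epi S.g := hS.epi_g
  have hls : Sheaf.IsLocallySurjective S.g :=
    (Sheaf.isLocallySurjective_iff_epi' AddCommGrpCat.{u} S.g).2 ‹_›
  have : Sheaf.IsLocallySurjective (S.map (liftU X)).g := by
    constructor
    intro U s
    refine (Opens.grothendieckTopology X).superset_covering ?_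
      (Presheaf.imageSieve_mem (Opens.grothendieckTopology X) S.g.hom s.down)
    rintro V i ⟨t, ht⟩
    exact ⟨ULift.up t, congrArg ULift.up ht⟩
  exact ZarCmp.shortExact_of_sections _
    (fun V a b h => ULift.ext _ _ ((CechFl.exists_sections_preimage S hS V 0 (map_zero _)).1
      (congrArg ULift.down h)))
    (fun V y hy => by
      obtain ⟨x, hx⟩ := (CechFl.exists_sections_preimage S hS V y.down (congrArg ULift.down hy)).2
      exact ⟨ULift.up x, congrArg ULift.up hx⟩)

theorem isFlasque_liftU (I : Sheaf (Opens.grothendieckTopology X) AddCommGrpCat.{u}) [Injective I] :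
    TopCat.Sheaf.IsFlasque (X := X.toTopCat) ((liftU X).obj I) where
  epi {U V} i := by
    have := CechInjU.injective_presheaf.{u, u, u} I
    rw [AddCommGrpCat.epi_iff_surjective]
    intro y
    obtain ⟨x, hx⟩ := ZarCmp.injective_map_surjective.{u, u, u} I.obj i.unop y.down
    exact ⟨ULift.up x, congrArg ULift.up hx⟩

/-- Change of universe of the values. -/
theorem H_equiv_liftU (M : Sheaf (Opens.grothendieckTopology X) AddCommGrpCat.{u}) (p : ℕ) :
    Nonempty (Sheaf.H M p ≃+ EtZar.H ((liftU X).obj M) p) :=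
  ExtCmp.compare (liftU X) _ _ (fun _ => True) (fun S hS _ _ => shortExact_liftU X S hS)
    (fun _ _ _ _ => trivial)
    (fun I hI n => ZarCmp.subsingleton_H_of_flasque X _ (@isFlasque_liftU X I hI) n)
    (fun G => ((ExtCmp.homTop (ZarCmp.topTerminal X) G).trans AddEquiv.ulift.symm).trans
      (ExtCmp.homTop (ZarCmp.topTerminal X) ((liftU X).obj G)).symm)
    (fun {G G'} g c => (ExtCmp.homTop (ZarCmp.topTerminal X) ((liftU X).obj G')).injective (by
      refine ((ExtCmp.homTop (ZarCmp.topTerminal X) ((liftU X).obj G')).apply_symm_apply _).trans ?_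
      refine Eq.trans ?_ (ExtCmp.homTop_comp (ZarCmp.topTerminal X) ((liftU X).map g) _).symm
      refine Eq.trans ?_ (congrArg (((liftU X).map g).hom.app (op ⊤))
        ((ExtCmp.homTop (ZarCmp.topTerminal X) ((liftU X).obj G)).apply_symm_apply _)).symm
      rfl))
    p M trivial

/-- Restricting `G_a` gives the structure sheaf. -/
noncomputable def resGaIso :
    (EtZar.resZar X).obj (EtCoh.Ga X) ≅ (liftU X).obj (Coh.toAb (Coh.structureModule X)) :=
  (sheafToPresheaf _ _).preimageIso
    (NatIso.ofComponents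
      (fun U => AddCommGrpCat.uliftFunctor.{u + 1, u}.mapIso
        ((forget₂ CommRingCat RingCat ⋙ forget₂ RingCat AddCommGrpCat).mapIso
          (Scheme.Opens.topIso U.unop)))
      (fun {U V} i => by
        show AddCommGrpCat.uliftFunctor.{u + 1, u}.map _ ≫ AddCommGrpCat.uliftFunctor.{u + 1, u}.map _ =
          AddCommGrpCat.uliftFunctor.{u + 1, u}.map _ ≫ AddCommGrpCat.uliftFunctor.{u + 1, u}.map _
        rw [← Functor.map_comp, ← Functor.map_comp]
        refine congrArg AddCommGrpCat.uliftFunctor.{u + 1, u}.map ?_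
        refine (((forget₂ CommRingCat RingCat ⋙ forget₂ RingCat AddCommGrpCat).map_comp _ _).symm.trans
          (congrArg (forget₂ CommRingCat RingCat ⋙ forget₂ RingCat AddCommGrpCat).map ?_)).trans
          ((forget₂ CommRingCat RingCat ⋙ forget₂ RingCat AddCommGrpCat).map_comp
            (Scheme.Opens.topIso U.unop).hom (X.presheaf.map i))
        show (X.homOfLE i.unop.le).appTop ≫ _ = _
        simp
        exact (X.presheaf.map_comp _ _).symm.trans
          ((congrArg X.presheaf.map (Subsingleton.elim _ _)).trans (X.presheaf.map_comp _ _))))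

theorem H_Ga_equiv (p : ℕ) :
    Nonempty (EtCoh.H X (EtCoh.Ga X) p ≃+ Coh.HH X (Coh.structureModule X) p) := by
  obtain ⟨e₁⟩ := H_equiv_resZar X _ (good_Ga X) p
  obtain ⟨e₂⟩ := H_equiv_liftU X (Coh.toAb (Coh.structureModule X)) p
  exact ⟨(e₁.trans ((Sheaf.functorH (Opens.grothendieckTopology X) p).mapIso
    (resGaIso X)).addCommGroupIsoToAddEquiv).trans e₂.symm⟩

end Groth.Agent.Unr55.GaZar
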