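import Groth.Agent.Unr55.MonogenicEtale

/-!
Artin–Schreier covers: `y ^ p - y = a` has a root after a surjective étale extension.
-/

set_option autoImplicit false
universe u

open Polynomial

namespace Groth.Agent.Unr55.EtAS

theorem exists_etale_as_root {R : Type u} [CommRing R] [Nontrivial R] {p : ℕ} (hp : 2 ≤ p)
    (hpR : (p : R) = 0) (a : R) :
    ∃ (R' : Type u) (_ : CommRing R') (_ : Algebra R R'), Algebra.Etale R R' ∧
      Function.Surjective (PrimeSpectrum.comap (algebraMap R R')) ∧
      ∃ b : R', b ^ p - b = algebraMap R R' a := by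
  let F : R[X] := X ^ p - X - C a
  have hdeg : degree (X + C a) < (p : ℕ) := by
    rw [degree_X_add_C]
    exact_mod_cast hp
  have hF : F = X ^ p - (X + C a) := by simp [F, sub_add_eq_sub_sub]
  have hm : F.Monic := hF ▸ monic_X_pow_sub hdeg
  have hsep : F.Separable := by
    refine ⟨0, -1, ?_⟩
    have hd : derivative F = -1 := by
      simp [F, derivative_sub, derivative_X_pow, hpR]
    rw [hd]; simp
  have hnat : F.natDegree = p := by
    rw [hF]
    exact natDegree_eq_of_degree_eq_some (by
      rw [degree_sub_eq_left_of_degree_lt]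
      · simp
      · simpa using hdeg)
  let Q := R[X] ⧸ Ideal.span ({F} : Set R[X])
  have : Algebra.FormallyEtale R Q := formallyEtale_of_separable_presentation hm hsep AlgEquiv.refl
  have : Algebra.FinitePresentation R Q := .quotient ⟨{F}, by simp⟩
  have : Module.Finite R Q := hm.finite_quotient
  have hinj : Function.Injective (algebraMap R Q) := by
    refine (injective_iff_map_eq_zero _).2 fun r hr => ?_
    by_contra h
    have hd : F ∣ C r := Ideal.mem_span_singleton.1 (Ideal.Quotient.eq_zero_iff_mem.1 hr)
    exact hm.not_dvd_of_natDegree_lt (C_ne_zero.2 h) (by rw [natDegree_C, hnat]; omega) hd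
  have : FaithfulSMul R Q := (faithfulSMul_iff_algebraMap_injective R Q).2 hinj
  refine ⟨Q, inferInstance, inferInstance, ⟨inferInstance, inferInstance⟩,
    Algebra.IsIntegral.comap_surjective R Q, Ideal.Quotient.mk _ X, ?_⟩
  rw [← map_pow, ← map_sub]
  exact (Ideal.Quotient.mk_eq_mk_iff_sub_mem _ _).2 (Ideal.mem_span_singleton_self _)

end Groth.Agent.Unr55.EtAS
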