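import Groth.Agent.Unr55.Et.Stalk
import Mathlib.AlgebraicGeometry.Morphisms.UniversallyOpen

/-!
Open subobjects in the small etale site, vanishing loci of sections.
-/

universe u

open CategoryTheory CategoryTheory.Limits AlgebraicGeometry Opposite

namespace Groth.Agent.Unr55.EtSh

set_option backward.isDefEq.respectTransparency.types false

variable {X : Scheme.{u}}

/-- An open subscheme of an etale scheme, in the small etale site. -/
noncomputable def openSub (U : X.Etale) (O : U.left.Opens) : X.Etale :=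
  have : Etale U.hom := U.prop
  Scheme.Etale.mk (O.ι ≫ U.hom)

/-- The inclusion of an open subscheme. -/
noncomputable def openSubι (U : X.Etale) (O : U.left.Opens) : openSub U O ⟶ U :=
  MorphismProperty.Over.homMk O.ι rfl trivial

theorem openSubι_left (U : X.Etale) (O : U.left.Opens) : (openSubι U O).left = O.ι := rfl

theorem range_openSubι (U : X.Etale) (O : U.left.Opens) :
    Set.range (openSubι U O).left = (O : Set U.left) := O.range_ι

theorem range_subset_of_default {Z : Scheme.{u}} {Ω : Type u} [Field Ω] (O : Z.Opens)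
    (l : Spec (CommRingCat.of Ω) ⟶ Z) (h : l default ∈ O) : Set.range l ⊆ Set.range O.ι := by
  rintro _ ⟨a, rfl⟩
  rw [O.range_ι, Subsingleton.elim a default]
  exact h

/-- Lift of a point into an open containing it. -/
noncomputable def liftOpen {Z : Scheme.{u}} {Ω : Type u} [Field Ω] (O : Z.Opens)
    (l : Spec (CommRingCat.of Ω) ⟶ Z) (h : l default ∈ O) : Spec (CommRingCat.of Ω) ⟶ O.toScheme :=
  IsOpenImmersion.lift O.ι l (range_subset_of_default O l h)

theorem liftOpen_fac {Z : Scheme.{u}} {Ω : Type u} [Field Ω] (O : Z.Opens)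
    (l : Spec (CommRingCat.of Ω) ⟶ Z) (h : l default ∈ O) : liftOpen O l h ≫ O.ι = l :=
  IsOpenImmersion.lift_fac _ _ _

/-- A neighbourhood of a geometric point lifts to an open subscheme containing it. -/
noncomputable def ptOpen {Ω : Type u} [Field Ω] [IsSepClosed Ω]
    {ξ : Spec (CommRingCat.of Ω) ⟶ X} {U : X.Etale} (O : U.left.Opens) (t : Pt ξ U)
    (h : hom ξ t default ∈ O) : Pt ξ (openSub U O) :=
  mkPt _ (liftOpen O (hom ξ t) h)
    ((Category.assoc _ _ _).symm.trans ((congrArg (· ≫ U.hom) (liftOpen_fac O (hom ξ t) h)).trans (Over.w t)))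

theorem map_ptOpen {Ω : Type u} [Field Ω] [IsSepClosed Ω]
    {ξ : Spec (CommRingCat.of Ω) ⟶ X} {U : X.Etale} (O : U.left.Opens) (t : Pt ξ U)
    (h : hom ξ t default ∈ O) :
    (Scheme.pointSmallEtale ξ).fiber.map (openSubι U O) (ptOpen O t h) = t :=
  Over.OverMorphism.ext (liftOpen_fac O (hom ξ t) h)

theorem etale_left {U V : X.Etale} (g : V ⟶ U) : Etale g.left := by
  have h : Etale (g.left ≫ U.hom) := by rw [Over.w g.hom]; exact V.prop
  exact MorphismProperty.of_postcomp @Etale (W' := @Etale) g.left U.hom U.prop h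

theorem isOpen_range_left {U V : X.Etale} (g : V ⟶ U) : IsOpen (Set.range g.left) := by
  have := etale_left g
  exact g.left.isOpenMap.isOpen_range

/-- The largest open on which a section vanishes. -/
def vanishing (F : EtCoh.Ab X) {U : X.Etale} (σ : EtCoh.sect F U) : U.left.Opens :=
  ⟨⋃ (V : X.Etale) (g : V ⟶ U) (_ : F.obj.map g.op σ = 0), Set.range g.left,
    isOpen_iUnion fun _ => isOpen_iUnion fun g => isOpen_iUnion fun _ => isOpen_range_left g⟩

theorem range_le_vanishing (F : EtCoh.Ab X) {U V : X.Etale} (σ : EtCoh.sect F U) (g : V ⟶ U)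
    (h : F.obj.map g.op σ = 0) : Set.range g.left ⊆ (vanishing F σ : Set U.left) :=
  fun x hx => Set.mem_iUnion₂.2 ⟨V, g, Set.mem_iUnion.2 ⟨h, hx⟩⟩

theorem map_eq_zero_iff_range_le (F : EtCoh.Ab X) {U V : X.Etale} (σ : EtCoh.sect F U) (φ : V ⟶ U) :
    F.obj.map φ.op σ = 0 ↔ Set.range φ.left ⊆ (vanishing F σ : Set U.left) := by
  refine ⟨range_le_vanishing F σ φ, fun h => sect_eq_zero_of_local F _ fun x => ?_⟩
  obtain ⟨W, g, hW⟩ := Set.mem_iUnion₂.1 (h ⟨x, rfl⟩)
  obtain ⟨hg, w, hw⟩ := Set.mem_iUnion.1 hW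
  obtain ⟨z, hz1, hz2⟩ := Scheme.Pullback.exists_preimage_pullback (f := φ.left) (g := g.left) x w hw.symm
  have hφ := etale_left φ
  have hge := etale_left g
  have hV : Etale V.hom := V.prop
  let P : X.Etale := Scheme.Etale.mk (pullback.fst φ.left g.left ≫ V.hom)
  let p : P ⟶ V := MorphismProperty.Over.homMk (pullback.fst φ.left g.left) rfl trivial
  let q : P ⟶ W := MorphismProperty.Over.homMk (pullback.snd φ.left g.left) (by
    have e1 : g.left ≫ U.hom = W.hom := Over.w g.hom
    have e2 : φ.left ≫ U.hom = V.hom := Over.w φ.hom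
    show pullback.snd φ.left g.left ≫ W.hom = pullback.fst φ.left g.left ≫ V.hom
    rw [← e1, ← e2, ← Category.assoc, ← Category.assoc, pullback.condition]) trivial
  refine ⟨P, p, z, hz1, ?_⟩
  have hpq : p ≫ φ = q ≫ g := MorphismProperty.Over.Hom.ext pullback.condition
  rw [← ConcreteCategory.comp_apply, ← F.obj.map_comp, ← op_comp, hpq, op_comp, F.obj.map_comp,
    ConcreteCategory.comp_apply, hg, map_zero]

/-- Sections over an empty scheme vanish. -/
theorem sect_eq_zero_of_isEmpty (F : EtCoh.Ab X) {U : X.Etale} [IsEmpty U.left]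
    (σ : EtCoh.sect F U) : σ = 0 :=
  sect_eq_zero_of_local F σ fun x => isEmptyElim x

theorem germ_eq_zero_of_mem_vanishing (F : EtCoh.Ab X) {Ω : Type u} [Field Ω] [IsSepClosed Ω]
    (ξ : Spec (CommRingCat.of Ω) ⟶ X) {U : X.Etale} (t : Pt ξ U) (σ : EtCoh.sect F U)
    (h : hom ξ t default ∈ vanishing F σ) : germ ξ F t σ = 0 :=
  (germ_eq_zero_iff ξ F t σ).2 ⟨_, openSubι U _, ptOpen _ t h, map_ptOpen _ t h,
    (map_eq_zero_iff_range_le F σ _).2 (range_openSubι U _).le⟩

end Groth.Agent.Unr55.EtSh
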