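import Groth.Prelude.Def_EtBase

/-!
Stalks of abelian etale sheaves (valued one universe up): germs, jointly surjective,
separation by stalks, stalkwise criteria for mono / epi / iso.
-/

universe u

open CategoryTheory CategoryTheory.Limits AlgebraicGeometry Opposite

namespace Groth.Agent.Unr55.EtSh

instance preservesFilteredColimits_forget_small :
    PreservesFilteredColimitsOfSize.{u, u} (forget AddCommGrpCat.{u + 1}) :=
  preservesFilteredColimitsOfSize_shrink.{u, u + 1, u, u + 1} _

variable {X : Scheme.{u}} {Ω : Type u} [Field Ω] [IsSepClosed Ω] (ξ : Spec (CommRingCat.of Ω) ⟶ X)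

/-- Etale neighbourhoods of a geometric point. -/
abbrev Pt (U : X.Etale) : Type u := (Scheme.pointSmallEtale ξ).fiber.obj U

/-- The morphism underlying an etale neighbourhood of a geometric point. -/
noncomputable abbrev hom {U : X.Etale} (t : Pt ξ U) : Spec (CommRingCat.of Ω) ⟶ U.left := t.left

/-- Constructor for etale neighbourhoods of a geometric point. -/
noncomputable abbrev mkPt {U : X.Etale} (l : Spec (CommRingCat.of Ω) ⟶ U.left) (h : l ≫ U.hom = ξ) : Pt ξ U :=
  Over.homMk l h

omit [IsSepClosed Ω] in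
theorem default_eq (a : Spec (CommRingCat.of Ω)) : a = default := Subsingleton.elim _ _

/-- Germ of a section at an etale neighbourhood of a geometric point. -/
noncomputable def germ (F : EtCoh.Ab X) {U : X.Etale} (t : Pt ξ U) :
    EtCoh.sect F U →+ ((EtCoh.stalk ξ).obj F : AddCommGrpCat.{u + 1}) :=
  ((Scheme.pointSmallEtale ξ).toPresheafFiber U t F.obj).hom

theorem exists_germ_eq (F : EtCoh.Ab X) (s : ((EtCoh.stalk ξ).obj F : AddCommGrpCat.{u + 1})) :
    ∃ (U : X.Etale) (t : Pt ξ U) (σ : EtCoh.sect F U), germ ξ F t σ = s :=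
  (Scheme.pointSmallEtale ξ).toPresheafFiber_jointly_surjective (P := F.obj) s

theorem germ_map (F : EtCoh.Ab X) {U V : X.Etale} (g : V ⟶ U) (t : Pt ξ V) (σ : EtCoh.sect F U) :
    germ ξ F t (F.obj.map g.op σ) = germ ξ F ((Scheme.pointSmallEtale ξ).fiber.map g t) σ :=
  (Scheme.pointSmallEtale ξ).toPresheafFiber_w_apply g t F.obj σ

theorem germ_eq_zero_iff (F : EtCoh.Ab X) {U : X.Etale} (t : Pt ξ U) (σ : EtCoh.sect F U) :
    germ ξ F t σ = 0 ↔ ∃ (V : X.Etale) (g : V ⟶ U) (t' : Pt ξ V),
      (Scheme.pointSmallEtale ξ).fiber.map g t' = t ∧ F.obj.map g.op σ = 0 := by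
  have h := (Scheme.pointSmallEtale ξ).toPresheafFiber_eq_iff' (P := F.obj) U t σ 0
  rw [map_zero] at h
  refine h.trans ⟨?_, ?_⟩
  · rintro ⟨V, g, t', h1, h2⟩
    exact ⟨V, g, t', h1, by simpa using h2⟩
  · rintro ⟨V, g, t', h1, h2⟩
    exact ⟨V, g, t', h1, by simpa using h2⟩

theorem stalk_map_germ {F G : EtCoh.Ab X} (φ : F ⟶ G) {U : X.Etale} (t : Pt ξ U) (σ : EtCoh.sect F U) :
    (EtCoh.stalk ξ).map φ (germ ξ F t σ) = germ ξ G t (φ.hom.app (op U) σ) :=
  (Scheme.pointSmallEtale ξ).toPresheafFiber_naturality_apply φ.hom U t σ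

theorem isZero_stalk_iff (F : EtCoh.Ab X) :
    IsZero ((EtCoh.stalk ξ).obj F) ↔
      ∀ (U : X.Etale) (t : Pt ξ U) (σ : EtCoh.sect F U), ∃ (V : X.Etale) (g : V ⟶ U) (t' : Pt ξ V),
        (Scheme.pointSmallEtale ξ).fiber.map g t' = t ∧ F.obj.map g.op σ = 0 := by
  refine ⟨fun h U t σ => (germ_eq_zero_iff ξ F t σ).1 ?_, fun h => ?_⟩
  · have := AddCommGrpCat.subsingleton_of_isZero h
    exact Subsingleton.elim _ _
  · refine @AddCommGrpCat.isZero_of_subsingleton _ (subsingleton_of_forall_eq 0 fun s => ?_)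
    obtain ⟨U, t, σ, rfl⟩ := exists_germ_eq ξ F s
    exact (germ_eq_zero_iff ξ F t σ).2 (h U t σ)

omit [IsSepClosed Ω] in
theorem point_over (U : X.Etale) (x : U.left) :
    ∃ (K : Type u) (_ : Field K) (_ : IsSepClosed K) (η : Spec (CommRingCat.of K) ⟶ X)
      (t : Pt η U), hom η t default = x := by
  let l : Spec (CommRingCat.of (SeparableClosure (U.left.residueField x))) ⟶ U.left :=
    Spec.map (CommRingCat.ofHom (algebraMap (U.left.residueField x)
      (SeparableClosure (U.left.residueField x)))) ≫ U.left.fromSpecResidueField x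
  refine ⟨SeparableClosure (U.left.residueField x), inferInstance, inferInstance, l ≫ U.hom,
    mkPt _ l rfl, ?_⟩
  exact U.left.fromSpecResidueField_apply x _

set_option backward.isDefEq.respectTransparency.types false in
/-- A sieve is covering iff its members are jointly surjective. -/
theorem mem_topology {U : X.Etale} {S : Sieve U}
    (h : ∀ x : U.left, ∃ (V : X.Etale) (g : V ⟶ U) (v : V.left), S g ∧ g.left v = x) :
    S ∈ X.smallEtaleTopology U := by
  have e : X.smallEtaleTopology =
      (X.smallPretopology (P := EtCoh.etaleMP) (Q := EtCoh.etaleMP)).toGrothendieck :=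
    Scheme.smallGrothendieckTopology_eq_toGrothendieck_smallPretopology X le_rfl
  rw [e]
  refine (Scheme.mem_toGrothendieck_smallPretopology U S).2 fun x => ?_
  obtain ⟨V, g, v, h1, h2⟩ := h x
  refine ⟨V, g, v, h1, ?_, h2⟩
  have : Etale (g.left ≫ U.hom) := by rw [Over.w g.hom]; exact V.prop
  exact MorphismProperty.of_postcomp @Etale (W' := @Etale) g.left U.hom U.prop this

theorem isSheafFor_forget (F : EtCoh.Ab X) {U : X.Etale} {S : Sieve U}
    (hS : S ∈ X.smallEtaleTopology U) :
    Presieve.IsSheafFor (F.obj ⋙ forget AddCommGrpCat.{u + 1}) S.arrows := by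
  have h := Presheaf.isSheaf_comp_of_isSheaf X.smallEtaleTopology F.obj (forget AddCommGrpCat.{u + 1})
    F.property
  rw [isSheaf_iff_isSheaf_of_type] at h
  exact h S hS

/-- A section vanishing near every point is zero. -/
theorem sect_eq_zero_of_local (F : EtCoh.Ab X) {U : X.Etale} (σ : EtCoh.sect F U)
    (h : ∀ x : U.left, ∃ (V : X.Etale) (g : V ⟶ U) (v : V.left), g.left v = x ∧ F.obj.map g.op σ = 0) :
    σ = 0 := by
  let S : Sieve U :=
    { arrows := fun V g => F.obj.map g.op σ = 0
      downward_closed := fun {V W g} hg k => by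
        change F.obj.map (k ≫ g).op σ = 0
        rw [op_comp, Functor.map_comp, ConcreteCategory.comp_apply, hg, map_zero] }
  have hS : S ∈ X.smallEtaleTopology U := mem_topology fun x => by
    obtain ⟨V, g, v, h1, h2⟩ := h x
    exact ⟨V, g, v, h2, h1⟩
  refine (isSheafFor_forget F hS).isSeparatedFor.ext fun V g hg => ?_
  exact hg.trans (map_zero (F.obj.map g.op).hom).symm

/-- A section with all germs zero is zero. -/
theorem sect_eq_zero_of_germ (F : EtCoh.Ab X) {U : X.Etale} (σ : EtCoh.sect F U)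
    (h : ∀ (K : Type u) [Field K] [IsSepClosed K] (η : Spec (CommRingCat.of K) ⟶ X) (t : Pt η U),
      germ η F t σ = 0) : σ = 0 := by
  refine sect_eq_zero_of_local F σ fun x => ?_
  obtain ⟨K, _, _, η, t, ht⟩ := point_over U x
  obtain ⟨V, g, t', h1, h2⟩ := (germ_eq_zero_iff η F t σ).1 (h K η t)
  refine ⟨V, g, hom η t' default, ?_, h2⟩
  rw [← ht, ← h1]
  rfl

theorem mono_of_stalks {F G : EtCoh.Ab X} (φ : F ⟶ G)
    (h : ∀ (K : Type u) [Field K] [IsSepClosed K] (η : Spec (CommRingCat.of K) ⟶ X),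
      Function.Injective ((EtCoh.stalk η).map φ)) : Mono φ := by
  have hinj : ∀ U, Function.Injective (φ.hom.app (op U)) := fun U => by
    refine (injective_iff_map_eq_zero (φ.hom.app (op U)).hom).2 fun σ hσ => ?_
    refine sect_eq_zero_of_germ F σ fun K _ _ η t => h K η ?_
    rw [stalk_map_germ, map_zero]
    exact (congrArg (germ η G t) hσ).trans (map_zero _)
  have : Mono φ.hom := by
    rw [NatTrans.mono_iff_mono_app]
    exact fun U => (AddCommGrpCat.mono_iff_injective _).2 (hinj U.unop)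
  exact (sheafToPresheaf X.smallEtaleTopology AddCommGrpCat.{u + 1}).mono_of_mono_map this

theorem epi_of_stalks {F G : EtCoh.Ab X} (φ : F ⟶ G)
    (h : ∀ (K : Type u) [Field K] [IsSepClosed K] (η : Spec (CommRingCat.of K) ⟶ X),
      Function.Surjective ((EtCoh.stalk η).map φ)) : Epi φ := by
  have : Sheaf.IsLocallySurjective φ := by
    refine ⟨fun {U} τ => mem_topology fun x => ?_⟩
    obtain ⟨K, _, _, η, t, ht⟩ := point_over U x
    obtain ⟨s, hs⟩ := h K η (germ η G t τ)
    obtain ⟨V, t', σ, rfl⟩ := exists_germ_eq η F s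
    rw [stalk_map_germ] at hs
    obtain ⟨⟨W, w⟩, a, b, -⟩ := IsCofiltered.toIsCofilteredOrEmpty.cone_objs
      (C := (Scheme.pointSmallEtale η).fiber.Elements) ⟨U, t⟩ ⟨V, t'⟩
    have e : germ η G w (G.obj.map a.val.op τ - φ.hom.app (op W) (F.obj.map b.val.op σ)) = 0 := by
      rw [map_sub, germ_map, a.property, sub_eq_zero]
      have : φ.hom.app (op W) (F.obj.map b.val.op σ) = G.obj.map b.val.op (φ.hom.app (op V) σ) :=
        NatTrans.naturality_apply φ.hom b.val.op σ
      rw [this, germ_map, b.property, hs]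
    obtain ⟨W', g, w', h1, h2⟩ := (germ_eq_zero_iff η G w _).1 e
    refine ⟨W', g ≫ a.val, hom η w' default, ⟨F.obj.map g.op (F.obj.map b.val.op σ), ?_⟩, ?_⟩
    · rw [map_sub, sub_eq_zero] at h2
      rw [op_comp, Functor.map_comp, ConcreteCategory.comp_apply, h2]
      exact NatTrans.naturality_apply φ.hom g.op _
    · exact ((congrArg (fun q => hom η q default)
        (congrArg ((Scheme.pointSmallEtale η).fiber.map a.val) h1)).trans
        (congrArg (fun q => hom η q default) a.property)).trans ht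
  infer_instance

theorem isIso_of_stalks {F G : EtCoh.Ab X} (φ : F ⟶ G)
    (h : ∀ (K : Type u) [Field K] [IsSepClosed K] (η : Spec (CommRingCat.of K) ⟶ X),
      Function.Bijective ((EtCoh.stalk η).map φ)) : IsIso φ :=
  have := mono_of_stalks φ fun K _ _ η => (h K η).1
  have := epi_of_stalks φ fun K _ _ η => (h K η).2
  isIso_of_mono_of_epi φ

end Groth.Agent.Unr55.EtSh
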