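import Groth.Agent.Unr55.Et.ExtCompareClass
import Groth.Agent.Unr55.Et.CechInjU
import Groth.Agent.Unr55.Et.FlasqueU
import Groth.Agent.Unr55.Et.Stalk
import Groth.Prelude.Def_EtZar
import Mathlib.CategoryTheory.Adjunction.FullyFaithful
import Mathlib.CategoryTheory.Limits.FunctorCategory.Basic

/-!
Acyclicity of flasque sheaves in `EtZar.Ab`, short exactness from sections, continuity of
`zarToEt`.
-/

set_option autoImplicit false
universe u v w

open CategoryTheory CategoryTheory.Limits AlgebraicGeometry Opposite TopologicalSpace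

set_option backward.isDefEq.respectTransparency.types false

namespace Groth.Agent.Unr55.ZarCmp

section General

variable {C : Type v} [Category.{w} C] {J : GrothendieckTopology C}

/-- Short exactness from sections. -/
theorem shortExact_of_sections [HasSheafify J AddCommGrpCat.{u}]
    [J.WEqualsLocallyBijective AddCommGrpCat.{u}]
    (S : ShortComplex (Sheaf J AddCommGrpCat.{u}))
    (hinj : ∀ V, Function.Injective (S.f.hom.app (op V)))
    (hex : ∀ V y, S.g.hom.app (op V) y = 0 → ∃ x, S.f.hom.app (op V) x = y)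
    [Sheaf.IsLocallySurjective S.g] : S.ShortExact := by
  have hm : Mono S.f := by
    have : ∀ V, Mono (S.f.hom.app V) := fun V => (AddCommGrpCat.mono_iff_injective _).2 (hinj V.unop)
    have : Mono S.f.hom := NatTrans.mono_of_mono_app _
    exact (sheafToPresheaf _ _).mono_of_mono_map this
  refine { exact := ?_, mono_f := hm, epi_g := (Sheaf.isLocallySurjective_iff_epi' AddCommGrpCat.{u} S.g).1 ‹_› }
  let T := sheafToPresheaf J AddCommGrpCat.{u}
  have hT : T.PreservesZeroMorphisms := ⟨fun _ _ => rfl⟩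
  apply ShortComplex.exact_of_f_is_kernel
  refine isLimitOfReflects T ((KernelFork.isLimitMapConeEquiv _ T).symm ?_)
  refine evaluationJointlyReflectsLimits _ fun V => ?_
  refine (KernelFork.isLimitMapConeEquiv _ ((evaluation _ _).obj V)).symm ?_
  let S' : ShortComplex AddCommGrpCat.{u} :=
    (S.map T).map ((evaluation Cᵒᵖ AddCommGrpCat.{u}).obj V)
  have hS' : S'.Exact := (ShortComplex.ab_exact_iff _).2 (hex V.unop)
  have : Mono S'.f := (AddCommGrpCat.mono_iff_injective _).2 (hinj V.unop)
  exact hS'.fIsKernel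

/-- Injective presheaves have surjective restrictions along monomorphisms. -/
theorem injective_map_surjective (I : Cᵒᵖ ⥤ AddCommGrpCat.{max u w}) [Injective I] {V U : C}
    (m : V ⟶ U) [Mono m] : Function.Surjective (I.map m.op) := by
  intro σ
  let Y : C → (Cᵒᵖ ⥤ Type (max u w)) := fun W => yoneda.obj W ⋙ uliftFunctor.{u, w}
  let F : C → (Cᵒᵖ ⥤ AddCommGrpCat.{max u w}) := fun W => Y W ⋙ AddCommGrpCat.free.{max u w}
  let μ : Y V ⟶ Y U := Functor.whiskerRight (yoneda.map m) uliftFunctor.{u, w}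
  let f : F V ⟶ F U := Functor.whiskerRight μ AddCommGrpCat.free.{max u w}
  have hf : Mono f := by
    have : ∀ W, Mono (f.app W) := fun W => (AddCommGrpCat.mono_iff_injective _).2 (by
      have hinj : Function.Injective (μ.app W) := fun a b h =>
        ULift.ext _ _ ((cancel_mono m).1 (congrArg ULift.down h))
      show Function.Injective (FreeAbelianGroup.map (μ.app W))
      rcases isEmpty_or_nonempty ((Y V).obj W) with hE | hN
      · intro a b _
        exact Subsingleton.elim a b
      · refine Function.LeftInverse.injective (g := FreeAbelianGroup.map (Function.invFun (μ.app W))) fun a => ?_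
        rw [← FreeAbelianGroup.map_comp_apply, Function.invFun_comp hinj, FreeAbelianGroup.map_id]
        rfl)
    exact NatTrans.mono_of_mono_app _
  let σ' : Y V ⟶ I ⋙ forget AddCommGrpCat.{max u w} :=
    { app := fun W => ↾fun g : ULift.{u} (W.unop ⟶ V) => I.map g.down.op σ
      naturality := fun W W' h => by
        ext ⟨g⟩
        exact ConcreteCategory.congr_hom (I.map_comp g.op h) σ }
  let φ : F V ⟶ I := ((AddCommGrpCat.adj.whiskerRight Cᵒᵖ).homEquiv _ I).symm σ'
  obtain ⟨ψ, hψ⟩ := Injective.factors φ f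
  let ψ' := (AddCommGrpCat.adj.whiskerRight Cᵒᵖ).homEquiv _ I ψ
  refine ⟨ψ'.app (op U) (show (Y U).obj (op U) from ULift.up (𝟙 U)), ?_⟩
  have e : μ ≫ ψ' = σ' := by
    rw [← Adjunction.homEquiv_naturality_left]
    exact (congrArg _ hψ).trans (Equiv.apply_symm_apply _ _)
  refine ((NatTrans.naturality_apply ψ' m.op (show (Y U).obj (op U) from ULift.up (𝟙 U))).symm).trans ?_
  have e' := ConcreteCategory.congr_hom (NatTrans.congr_app e (op V)) (show (Y V).obj (op V) from ULift.up (𝟙 V))
  refine Eq.trans (congrArg (ψ'.app (op V)) ?_) (e'.trans ?_)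
  · exact ULift.ext _ _ ((Category.comp_id m).trans (Category.id_comp m).symm)
  · exact ConcreteCategory.congr_hom (I.map_id (op V)) σ

end General

variable (X : Scheme.{u})

instance wEqualsLocallyBijective :
    (Opens.grothendieckTopology X.toTopCat).WEqualsLocallyBijective AddCommGrpCat.{u + 1} := by
  have : EssentiallySmall.{u + 1} (Opens X.toTopCat) := EtZar.essSmallOpens X
  exact GrothendieckTopology.WEqualsLocallyBijective.ofEssentiallySmall
    (C := Opens X.toTopCat) (A := AddCommGrpCat.{u + 1}) (Opens.grothendieckTopology X.toTopCat)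

instance hasSheafify : HasSheafify (Opens.grothendieckTopology X.toTopCat) AddCommGrpCat.{u + 1} :=
  EtZar.hasSheafifyZar X

/-- The whole space is the final open. -/
noncomputable def topTerminal : IsTerminal (⊤ : X.Opens) :=
  IsTerminal.ofUniqueHom (fun _ => homOfLE le_top) fun _ _ => Subsingleton.elim _ _

theorem isFlasque_of_injective (I : EtZar.Ab X) [Injective I] :
    TopCat.Sheaf.IsFlasque (X := X.toTopCat) I where
  epi {U V} i := by
    have := CechInjU.injective_presheaf.{u + 1, u, u} I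
    rw [AddCommGrpCat.epi_iff_surjective]
    exact injective_map_surjective.{u + 1, u, u} I.obj i.unop

theorem surjective_of_flasque {S : ShortComplex (EtZar.Ab X)} (hS : S.ShortExact)
    (h : TopCat.Sheaf.IsFlasque (X := X.toTopCat) S.X₁) (U : X.Opens) :
    Function.Surjective (S.g.hom.app (op U)) :=
  (AddCommGrpCat.epi_iff_surjective _).1
    (@FlasqueU.epi_of_shortExact.{u, u + 1} X.toTopCat _ _ U S hS h)

theorem subsingleton_H_of_flasque (F : EtZar.Ab X) (hF : TopCat.Sheaf.IsFlasque (X := X.toTopCat) F)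
    (p : ℕ) : Subsingleton (EtZar.H F (p + 1)) := by
  refine ExtCmp.subsingleton_ext_of_class _
    (fun G : EtZar.Ab X => TopCat.Sheaf.IsFlasque (X := X.toTopCat) G) (fun S hS _ h c => ?_)
    (fun S hS _ h => ?_) p F hF
  · obtain ⟨σ, hσ⟩ := surjective_of_flasque X hS h ⊤ (ExtCmp.homTop (topTerminal X) S.X₃ c)
    obtain ⟨b, rfl⟩ := (ExtCmp.homTop (topTerminal X) S.X₂).surjective σ
    exact ⟨b, (ExtCmp.homTop (topTerminal X) S.X₃).injective hσ⟩
  · have := isFlasque_of_injective X S.X₂
    exact @FlasqueU.of_shortExact_of_isFlasque₁₂.{u, u + 1} X.toTopCat _ _ S hS h this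

theorem coverPreserving_zarToEt :
    CoverPreserving (Opens.grothendieckTopology X) X.smallEtaleTopology (EtZar.zarToEt X) := by
  refine ⟨fun {U S} hS => EtSh.mem_topology fun x => ?_⟩
  obtain ⟨V, i, hi, hxV⟩ := hS ((Scheme.Opens.ι (X := X) U) x) x.2
  refine ⟨(EtZar.zarToEt X).obj V, (EtZar.zarToEt X).map i, ⟨(Scheme.Opens.ι (X := X) U) x, hxV⟩,
    Sieve.image_mem_functorPushforward _ _ hi, ?_⟩
  show X.homOfLE i.le ⟨(Scheme.Opens.ι (X := X) U) x, hxV⟩ = x
  apply (Scheme.Opens.ι (X := X) U).isOpenEmbedding.injective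
  rw [← Scheme.Hom.comp_apply, Scheme.homOfLE_ι]
  rfl

theorem zarCont : EtZar.ZarCont X := by
  refine Functor.isContinuous_of_coverPreserving ⟨?_⟩ (coverPreserving_zarToEt X)
  intro ℱ Z T x hx Y₁ Y₂ W f₁ f₂ g₁ g₂ hg₁ hg₂ heq
  let O : X.Opens := Y₁ ⊓ Y₂
  have : IsOpenImmersion O.ι := inferInstance
  let wh : W.left ⟶ X := W.hom
  have hrange : Set.range wh ⊆ Set.range O.ι := by
    rintro _ ⟨w, rfl⟩
    rw [Scheme.Opens.range_ι]
    constructor
    · rw [show wh = f₁.left ≫ Y₁.ι from (Over.w f₁.hom).symm]; exact (f₁.left w).2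
    · rw [show wh = f₂.left ≫ Y₂.ι from (Over.w f₂.hom).symm]; exact (f₂.left w).2
  let l : W.left ⟶ (O : Scheme.{u}) := IsOpenImmersion.lift O.ι wh hrange
  have hl : l ≫ O.ι = wh := IsOpenImmersion.lift_fac O.ι wh hrange
  let f : W ⟶ (EtZar.zarToEt X).obj (Y₁ ⊓ Y₂) := MorphismProperty.Over.homMk
    l hl
  have hfac : ∀ (Y : X.Opens) (h : Y₁ ⊓ Y₂ ≤ Y) (k : W ⟶ (EtZar.zarToEt X).obj Y),
      f ≫ (EtZar.zarToEt X).map (homOfLE h) = k := fun Y h k =>
    MorphismProperty.Over.Hom.ext ((cancel_mono Y.ι).1 (by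
      show (l ≫ X.homOfLE h) ≫ Y.ι = k.left ≫ Y.ι
      rw [Category.assoc, Scheme.homOfLE_ι]
      refine hl.trans ?_
      exact (Over.w k.hom).symm))
  rw [← hfac Y₁ inf_le_left f₁, ← hfac Y₂ inf_le_right f₂, op_comp, op_comp,
    Functor.map_comp_apply, Functor.map_comp_apply]
  exact congrArg (ℱ.obj.map f.op) (hx (homOfLE inf_le_left) (homOfLE inf_le_right) hg₁ hg₂ (Subsingleton.elim _ _))

end Groth.Agent.Unr55.ZarCmp
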