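import Groth.Prelude.Def_EtGm
import Groth.Agent.Unr55.Et.Open
import Groth.Agent.Unr55.Et.ASRoot
import Groth.Agent.Unr55.Et.ZarCompare
import Groth.Agent.EtCore45.SheafCrit
import Groth.Agent.Sga84.ArtinSchreier

/-!
The Artin–Schreier sequence `0 → ℤ/p → G_a → G_a → 0` on the small étale site.
-/

set_option autoImplicit false
set_option backward.isDefEq.respectTransparency.types false
universe u

open CategoryTheory CategoryTheory.Limits AlgebraicGeometry Opposite

namespace Groth.Agent.Unr55.EtAS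

open Groth.Agent.Sga84

variable {S : Scheme.{u}} {p : ℕ} [hpF : Fact p.Prime] (hp : (p : Γ(S, ⊤)) = 0)

include hp

omit hpF in
theorem hpU (U : S.Etale) : (p : Γ(U.left, ⊤)) = 0 := by
  let r : Γ(S, ⊤) →+* Γ(U.left, ⊤) := U.hom.appTop.hom
  rw [← map_natCast r p, hp, map_zero]

/-- `s ↦ s ^ p - s`. -/
noncomputable def phi : EtCoh.Ga S ⟶ EtCoh.Ga S :=
  ObjectProperty.homMk
    { app := fun U => AddCommGrpCat.ofHom
        { toFun := fun s => show ULift.{u + 1} Γ(U.unop.left, ⊤) from
            ⟨(show ULift.{u + 1} Γ(U.unop.left, ⊤) from s).down ^ p -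
              (show ULift.{u + 1} Γ(U.unop.left, ⊤) from s).down⟩
          map_zero' := ULift.ext _ _ (show (0 : Γ(U.unop.left, ⊤)) ^ p - 0 = 0 by
            rw [zero_pow hpF.out.ne_zero, sub_zero])
          map_add' := fun s t => by
            let a : Γ(U.unop.left, ⊤) := (show ULift.{u + 1} Γ(U.unop.left, ⊤) from s).down
            let b : Γ(U.unop.left, ⊤) := (show ULift.{u + 1} Γ(U.unop.left, ⊤) from t).down
            exact ULift.ext _ _ (show (a + b) ^ p - (a + b) = (a ^ p - a) + (b ^ p - b) by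
              rw [AS.add_pow (hpU hp U.unop) a b]; abel) }
      naturality := fun U V g => by
        ext s
        apply ULift.ext
        let r : Γ(U.unop.left, ⊤) →+* Γ(V.unop.left, ⊤) := g.unop.left.appTop.hom
        let a : Γ(U.unop.left, ⊤) := (show ULift.{u + 1} Γ(U.unop.left, ⊤) from s).down
        change r a ^ p - r a = r (a ^ p - a)
        rw [map_sub, map_pow] }

/-- Constant functions, on presheaves. -/
noncomputable def eta : (Functor.const S.Etaleᵒᵖ).obj (AddCommGrpCat.of (ULift.{u + 1} (ZMod p))) ⟶ (EtCoh.Ga S).obj where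
  app U := AddCommGrpCat.ofHom
    { toFun := fun z => show ULift.{u + 1} Γ(U.unop.left, ⊤) from
        ⟨AS.cast (hpU hp U.unop) (show ULift.{u + 1} (ZMod p) from z).down⟩
      map_zero' := ULift.ext _ _ (show AS.cast (hpU hp U.unop) (0 : ZMod p) = 0 from map_zero _)
      map_add' := fun a b => ULift.ext _ _ (map_add (AS.cast (hpU hp U.unop))
        (show ULift.{u + 1} (ZMod p) from a).down (show ULift.{u + 1} (ZMod p) from b).down) }
  naturality := fun U V g => by
    ext z
    apply ULift.ext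
    let r : Γ(U.unop.left, ⊤) →+* Γ(V.unop.left, ⊤) := g.unop.left.appTop.hom
    exact (congrArg (fun k : ZMod p →+* Γ(V.unop.left, ⊤) => k (show ULift.{u + 1} (ZMod p) from z).down)
      (Subsingleton.elim (r.comp (AS.cast (hpU hp U.unop))) (AS.cast (hpU hp V.unop)))).symm

/-- The inclusion of the prime field. -/
noncomputable def iota : EtCoh.const S (ZMod p) ⟶ EtCoh.Ga S :=
  ObjectProperty.homMk (sheafifyLift S.smallEtaleTopology (eta hp) (EtCoh.Ga S).property)

theorem iota_toSheafify (U : S.Etale) (z : ULift.{u + 1} (ZMod p)) :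
    (iota hp).hom.app (op U)
      ((toSheafify S.smallEtaleTopology ((Functor.const S.Etaleᵒᵖ).obj (AddCommGrpCat.of (ULift.{u + 1} (ZMod p))))).app (op U) z) =
        (eta hp).app (op U) z :=
  congrArg (fun k : (Functor.const S.Etaleᵒᵖ).obj (AddCommGrpCat.of (ULift.{u + 1} (ZMod p))) ⟶ (EtCoh.Ga S).obj => k.app (op U) z)
    (toSheafify_sheafifyLift S.smallEtaleTopology (eta hp) (EtCoh.Ga S).property)

theorem injective_iota (V : S.Etale) : Function.Injective ((iota hp).hom.app (op V)) := by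
  rw [injective_iff_map_eq_zero]
  intro z hz
  refine EtSh.sect_eq_zero_of_local (EtCoh.const S (ZMod p)) z fun x => ?_
  obtain ⟨W, g, w, hw, m, hm⟩ : ∃ (W : S.Etale) (g : W ⟶ V) (w : W.left), g.left w = x ∧
      ∃ m : ULift.{u + 1} (ZMod p), (toSheafify S.smallEtaleTopology ((Functor.const S.Etaleᵒᵖ).obj (AddCommGrpCat.of (ULift.{u + 1} (ZMod p))))).app
        (op W) m = (EtCoh.const S (ZMod p)).obj.map g.op z := by
    have hmem := Presheaf.imageSieve_mem S.smallEtaleTopology
      (toSheafify S.smallEtaleTopology ((Functor.const S.Etaleᵒᵖ).obj (AddCommGrpCat.of (ULift.{u + 1} (ZMod p))))) (U := op V) z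
    obtain ⟨W, g, w, hg, -, hw⟩ := (EtCore45.mem_et _).1 hmem x
    exact ⟨W, g, w, hw, hg⟩
  refine ⟨W, g, w, hw, ?_⟩
  have h0 : (eta hp).app (op W) m = 0 := by
    rw [← iota_toSheafify hp W m, hm, NatTrans.naturality_apply (iota hp).hom g.op, hz, map_zero]
  have : Nontrivial Γ(W.left, ⊤) := (W.left.presheaf.Γgerm w).hom.domain_nontrivial
  have hinj : Function.Injective (AS.cast (hpU hp W)) := (AS.cast (hpU hp W)).injective
  have hm0 : m.down = 0 := hinj ((congrArg ULift.down h0).trans (map_zero _).symm)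
  rw [← hm, show m = 0 from ULift.ext _ _ hm0]
  exact map_zero _

theorem phi_eq_zero {V : S.Etale} (y : (EtCoh.Ga S).obj.obj (op V)) (hy : (phi hp).hom.app (op V) y = 0)
    (x : V.left) : ∃ (O : V.left.Opens) (m : ULift.{u + 1} (ZMod p)), x ∈ O ∧
      (eta hp).app (op (EtCore45.objOf V O.ι)) m =
        (EtCoh.Ga S).obj.map (EtCore45.objOfHom V O.ι).op y := by
  let a : Γ(V.left, ⊤) := (show ULift.{u + 1} Γ(V.left, ⊤) from y).down
  have ha : a ^ p = a := sub_eq_zero.1 (congrArg ULift.down hy)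
  let r : Γ(V.left, ⊤) →+* V.left.presheaf.stalk x := (V.left.presheaf.Γgerm x).hom
  have hx : (p : V.left.presheaf.stalk x) = 0 := by rw [← map_natCast r p, hpU hp V, map_zero]
  obtain ⟨m, hm⟩ := AS.exists_isUnit hx (d := r a) (by rw [← map_pow, ha])
  rw [← AS.idem_map (hpU hp V) hx r a m] at hm
  let O : V.left.Opens := V.left.basicOpen (AS.idem (hpU hp V) a m)
  refine ⟨O, ⟨m⟩, (V.left.mem_basicOpen_top _ x).2 hm, ?_⟩
  apply ULift.ext
  let W := EtCore45.objOf V O.ι
  let ρ : Γ(V.left, ⊤) →+* Γ((O : Scheme.{u}), ⊤) := O.ι.appTop.hom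
  change AS.cast (hpU hp W) m = ρ a
  have hu : IsUnit (AS.idem (hpU hp W) (ρ a) m) := by
    refine (AS.idem_map (hpU hp V) (hpU hp W) ρ a m) ▸ ?_
    exact AS.isUnit_restrict (T := Over.mk V.hom) le_rfl
  exact (AS.eq_of_isUnit (hpU hp W) ((map_pow ρ a p).symm.trans (congrArg ρ ha)) hu).symm

theorem exact_iota_phi (V : S.Etale) (y : (EtCoh.Ga S).obj.obj (op V))
    (hy : (phi hp).hom.app (op V) y = 0) : ∃ z, (iota hp).hom.app (op V) z = y := by
  let O := fun x => (phi_eq_zero hp y hy x).choose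
  let m := fun x => (phi_eq_zero hp y hy x).choose_spec.choose
  have hO : ∀ x, x ∈ O x := fun x => (phi_eq_zero hp y hy x).choose_spec.choose_spec.1
  have hm : ∀ x, (eta hp).app (op (EtCore45.objOf V (O x).ι)) (m x) =
      (EtCoh.Ga S).obj.map (EtCore45.objOfHom V (O x).ι).op y :=
    fun x => (phi_eq_zero hp y hy x).choose_spec.choose_spec.2
  have hcov : Sieve.ofArrows (fun x => EtCore45.objOf V (O x).ι) (fun x => EtCore45.objOfHom V (O x).ι) ∈
      S.smallEtaleTopology V :=
    EtSh.mem_topology fun x => ⟨_, _, (⟨x, hO x⟩ : O x), Sieve.ofArrows_mk _ _ x, rfl⟩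
  have hs : Presieve.IsSheafFor ((EtCoh.const S (ZMod p)).obj ⋙ forget _)
      (Presieve.ofArrows (fun x => EtCore45.objOf V (O x).ι) (fun x => EtCore45.objOfHom V (O x).ι)) :=
    (Presieve.isSheafFor_iff_generate _).2 (EtSh.isSheafFor_forget _ hcov)
  rw [Presieve.isSheafFor_arrows_iff] at hs
  let c := fun x => (toSheafify S.smallEtaleTopology ((Functor.const S.Etaleᵒᵖ).obj (AddCommGrpCat.of (ULift.{u + 1} (ZMod p))))).app
    (op (EtCore45.objOf V (O x).ι)) (m x)
  have hc : ∀ x, (iota hp).hom.app _ (c x) = (EtCoh.Ga S).obj.map (EtCore45.objOfHom V (O x).ι).op y :=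
    fun x => (iota_toSheafify hp _ (m x)).trans (hm x)
  obtain ⟨z, hz, -⟩ := hs c fun i j Z gi gj e => by
    change (EtCoh.const S (ZMod p)).obj.map gi.op (c i) = (EtCoh.const S (ZMod p)).obj.map gj.op (c j)
    apply injective_iota hp Z
    rw [NatTrans.naturality_apply (iota hp).hom gi.op, NatTrans.naturality_apply (iota hp).hom gj.op,
      hc, hc, ← Functor.map_comp_apply, ← Functor.map_comp_apply, ← op_comp, ← op_comp, e]
  refine ⟨z, sub_eq_zero.1 (EtSh.sect_eq_zero_of_local (EtCoh.Ga S) _ fun x => ?_)⟩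
  refine ⟨_, EtCore45.objOfHom V (O x).ι, (⟨x, hO x⟩ : O x), rfl, ?_⟩
  rw [map_sub, ← NatTrans.naturality_apply (iota hp).hom]
  exact sub_eq_zero.2 ((congrArg _ (hz x)).trans (hc x))

theorem isLocallySurjective_phi : Sheaf.IsLocallySurjective (phi hp) := by
  refine ⟨fun {U} τ => EtSh.mem_topology fun x => ?_⟩
  obtain ⟨R, j, hj, ⟨y, hy⟩, -⟩ := Scheme.exists_affine_mem_range_and_range_subset
    (x := x) (U := (⊤ : U.left.Opens)) trivial
  have : Nontrivial R := (PrimeSpectrum.nonempty_iff_nontrivial).1 ⟨y⟩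
  let t : Γ(U.left, ⊤) := (show ULift.{u + 1} Γ(U.left, ⊤) from τ).down
  let ρ : Γ(U.left, ⊤) →+* R := (j.appTop ≫ (Scheme.ΓSpecIso R).hom).hom
  have hpR : (p : R) = 0 := by rw [← map_natCast ρ p, hpU hp U, map_zero]
  obtain ⟨R', _, _, het, hsurj, b, hb⟩ := exists_etale_as_root hpF.out.two_le hpR (ρ t)
  let π : Spec (CommRingCat.of R') ⟶ Spec R := Spec.map (CommRingCat.ofHom (algebraMap R R'))
  have : Etale π := HasRingHomProperty.Spec_iff.2 (RingHom.etale_algebraMap.2 het)
  have : Etale U.hom := U.prop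
  let V : S.Etale := Scheme.Etale.mk ((π ≫ j) ≫ U.hom)
  let g : V ⟶ U := MorphismProperty.Over.homMk (π ≫ j) rfl trivial
  obtain ⟨y', hy'⟩ := hsurj y
  let ε : R' →+* Γ(Spec (CommRingCat.of R'), ⊤) := (Scheme.ΓSpecIso (CommRingCat.of R')).inv.hom
  refine ⟨V, g, y', ⟨(show ULift.{u + 1} Γ(V.left, ⊤) from ⟨ε b⟩), ?_⟩, ?_⟩
  · apply ULift.ext
    change ε b ^ p - ε b = (π ≫ j).appTop.hom t
    rw [← map_pow, ← map_sub, hb]
    have e : ((j.appTop ≫ (Scheme.ΓSpecIso R).hom) ≫ CommRingCat.ofHom (algebraMap R R')) ≫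
        (Scheme.ΓSpecIso (CommRingCat.of R')).inv = (π ≫ j).appTop := by
      rw [Category.assoc, Scheme.ΓSpecIso_inv_naturality]
      simp [π]
    exact congrArg (fun k => k.hom t) e
  · change j (π y') = x
    exact (congrArg j hy').trans hy

/-- The Artin–Schreier sequence. -/
noncomputable abbrev seq : ShortComplex (EtCoh.Ab S) :=
  ShortComplex.mk (iota hp) (phi hp) (by
    apply (sheafToPresheaf _ _).map_injective
    apply sheafify_hom_ext _ _ _ (EtCoh.Ga S).property
    ext U z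
    change (phi hp).hom.app U ((iota hp).hom.app (op U.unop)
      ((toSheafify S.smallEtaleTopology ((Functor.const S.Etaleᵒᵖ).obj (AddCommGrpCat.of (ULift.{u + 1} (ZMod p))))).app (op U.unop) z)) = 0
    rw [iota_toSheafify hp]
    apply ULift.ext
    change AS.cast (hpU hp U.unop) (show ULift.{u + 1} (ZMod p) from z).down ^ p -
      AS.cast (hpU hp U.unop) (show ULift.{u + 1} (ZMod p) from z).down = 0
    rw [AS.cast_pow, sub_self])

theorem shortExact_seq : (seq hp).ShortExact :=
  haveI := isLocallySurjective_phi hp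
  ZarCmp.shortExact_of_sections (seq hp) (injective_iota hp) (exact_iota_phi hp)

end Groth.Agent.Unr55.EtAS
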