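import Groth.Prelude.Def_EtGm
import Groth.Agent.Unr55.Et.Open
import Groth.Agent.Unr55.MonogenicEtale

/-!
The Kummer map is an epimorphism when `n` is invertible.
-/

universe u

open CategoryTheory CategoryTheory.Limits AlgebraicGeometry Opposite Polynomial

namespace Groth.Agent.Unr55.EtSh

theorem exists_etale_root {R : Type u} [CommRing R] [Nontrivial R] (n : ℕ) (hn : IsUnit (n : R))
    (a : Rˣ) :
    ∃ (R' : Type u) (_ : CommRing R') (_ : Algebra R R'), Algebra.Etale R R' ∧
      Function.Surjective (PrimeSpectrum.comap (algebraMap R R')) ∧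
      ∃ b : R'ˣ, b ^ n = Units.map (algebraMap R R').toMonoidHom a := by
  obtain ⟨m, rfl⟩ : ∃ m, n = m + 1 := Nat.exists_eq_add_one.2 (Nat.pos_of_ne_zero fun h => by
    subst h
    exact not_isUnit_zero (M₀ := R) (by simpa using hn))
  let F : R[X] := X ^ (m + 1) - C (a : R)
  have hm : F.Monic := monic_X_pow_sub_C _ m.succ_ne_zero
  obtain ⟨v, hv⟩ := hn
  have hsep : F.Separable := by
    refine ⟨-C (↑a⁻¹ : R), C ((↑a⁻¹ : R) * ↑v⁻¹) * X, ?_⟩
    rw [derivative_sub, derivative_X_pow, derivative_C, sub_zero]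
    have e1 : C (↑a⁻¹ : R) * C (a : R) = 1 := by rw [← C_mul, Units.inv_mul, C_1]
    have e2 : C (↑v⁻¹ : R) * C (((m + 1 : ℕ) : R)) = 1 := by rw [← hv, ← C_mul, Units.inv_mul, C_1]
    rw [Nat.add_sub_cancel, C_mul]
    calc -C (↑a⁻¹ : R) * (X ^ (m + 1) - C (a : R)) +
          C (↑a⁻¹ : R) * C (↑v⁻¹ : R) * X * (C (((m + 1 : ℕ) : R)) * X ^ m)
        = C (↑a⁻¹ : R) * C (a : R) + C (↑a⁻¹ : R) * X ^ (m + 1) *
          (C (↑v⁻¹ : R) * C (((m + 1 : ℕ) : R)) - 1) := by ring
      _ = 1 := by rw [e1, e2, sub_self, mul_zero, add_zero]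
  have hF : (Ideal.span ({F} : Set R[X])) = Ideal.span {F} := rfl
  let Q := R[X] ⧸ Ideal.span ({F} : Set R[X])
  have : Algebra.FormallyEtale R Q := formallyEtale_of_separable_presentation hm hsep AlgEquiv.refl
  have : Algebra.FinitePresentation R Q := .quotient ⟨{F}, by simp⟩
  have : Module.Finite R Q := hm.finite_quotient
  have hinj : Function.Injective (algebraMap R Q) := by
    refine (injective_iff_map_eq_zero _).2 fun r hr => ?_
    by_contra h
    have hd : F ∣ C r := Ideal.mem_span_singleton.1 (Ideal.Quotient.eq_zero_iff_mem.1 hr)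
    exact hm.not_dvd_of_natDegree_lt (C_ne_zero.2 h) (by
      rw [natDegree_C, natDegree_X_pow_sub_C]; exact m.succ_pos) hd
  have : FaithfulSMul R Q := (faithfulSMul_iff_algebraMap_injective R Q).2 hinj
  refine ⟨Q, inferInstance, inferInstance, ⟨inferInstance, inferInstance⟩,
    Algebra.IsIntegral.comap_surjective R Q, ?_⟩
  have e : (Ideal.Quotient.mk (Ideal.span ({F} : Set R[X])) X : Q) ^ (m + 1) = algebraMap R Q a := by
    rw [← map_pow]
    exact (Ideal.Quotient.mk_eq_mk_iff_sub_mem _ _).2 (Ideal.mem_span_singleton_self _)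
  have hu : IsUnit (Ideal.Quotient.mk (Ideal.span ({F} : Set R[X])) X : Q) :=
    (isUnit_pow_iff m.succ_ne_zero).1 (e ▸ a.isUnit.map (algebraMap R Q))
  exact ⟨hu.unit, Units.ext e⟩

set_option backward.isDefEq.respectTransparency.types false

theorem epi_powMap (S : Scheme.{u}) (n : ℕ) (hn : IsUnit (n : Γ(S, ⊤))) :
    Epi (EtCoh.powMap S n) := by
  have : Sheaf.IsLocallySurjective (EtCoh.powMap S n) := by
    refine ⟨fun {U} τ => mem_topology fun x => ?_⟩
    obtain ⟨R, j, hj, ⟨y, hy⟩, -⟩ := Scheme.exists_affine_mem_range_and_range_subset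
      (x := x) (U := (⊤ : U.left.Opens)) trivial
    have : Nontrivial R := (PrimeSpectrum.nonempty_iff_nontrivial).1 ⟨y⟩
    let ρ : Γ(S, ⊤) ⟶ R := (j ≫ U.hom).appTop ≫ (Scheme.ΓSpecIso R).hom
    have hnR : IsUnit (n : R) := by simpa using hn.map ρ.hom
    let w : (Γ(U.left, ⊤))ˣ := Additive.toMul (ULift.down τ)
    let a : (R : Type u)ˣ := Units.map (j.appTop ≫ (Scheme.ΓSpecIso R).hom).hom.toMonoidHom w
    obtain ⟨R', _, _, het, hsurj, b, hb⟩ := exists_etale_root n hnR a
    let π : Spec (CommRingCat.of R') ⟶ Spec R := Spec.map (CommRingCat.ofHom (algebraMap R R'))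
    have : Etale π := HasRingHomProperty.Spec_iff.2 (RingHom.etale_algebraMap.2 het)
    have : Etale U.hom := U.prop
    let V : S.Etale := Scheme.Etale.mk ((π ≫ j) ≫ U.hom)
    let g : V ⟶ U := MorphismProperty.Over.homMk (π ≫ j) rfl trivial
    obtain ⟨y', hy'⟩ := hsurj y
    refine ⟨V, g, y', ⟨ULift.up (Additive.ofMul
      (Units.map (Scheme.ΓSpecIso (CommRingCat.of R')).inv.hom.toMonoidHom b)), ?_⟩, ?_⟩
    · have key : (Units.map (Scheme.ΓSpecIso (CommRingCat.of R')).inv.hom.toMonoidHom b) ^ n =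
          Units.map (π ≫ j).appTop.hom.toMonoidHom w := by
        rw [← map_pow, hb]
        refine Units.ext ?_
        have e : ((j.appTop ≫ (Scheme.ΓSpecIso R).hom) ≫ CommRingCat.ofHom (algebraMap R R')) ≫
            (Scheme.ΓSpecIso (CommRingCat.of R')).inv = (π ≫ j).appTop := by
          rw [Category.assoc, Scheme.ΓSpecIso_inv_naturality]
          simp [π]
        exact congrArg (fun k => k.hom (w : Γ(U.left, ⊤))) e
      exact congrArg (fun z => ULift.up (Additive.ofMul z)) key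
    · change j (π y') = x
      exact (congrArg j hy').trans hy
  infer_instance

end Groth.Agent.Unr55.EtSh
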