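import Groth.Agent.Unr55.Et.FiltColimSite
import Groth.Agent.Unr55.Et.Stalk
import Mathlib.AlgebraicGeometry.Morphisms.QuasiSeparated
import Mathlib.AlgebraicGeometry.Morphisms.UniversallyOpen
import Mathlib.AlgebraicGeometry.Morphisms.Etale

/-!
Quasi-compact quasi-separated objects of the small étale site.
-/

set_option autoImplicit false
universe u

open CategoryTheory CategoryTheory.Limits AlgebraicGeometry Opposite

set_option backward.isDefEq.respectTransparency.types false

namespace Groth.Agent.Unr55.FiltColim

variable {X : Scheme.{u}}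

theorem qc_of_compactSpace (U : X.Etale) [CompactSpace U.left] : QC X.smallEtaleTopology U := by
  intro S hS
  rw [show X.smallEtaleTopology =
    (X.smallPretopology (P := EtCoh.etaleMP) (Q := EtCoh.etaleMP)).toGrothendieck from
    Scheme.smallGrothendieckTopology_eq_toGrothendieck_smallPretopology X le_rfl] at hS
  choose Y f y hf hP hy using (Scheme.mem_toGrothendieck_smallPretopology U S).1 hS
  have hopen : ∀ x, IsOpen (Set.range (f x).left) := fun x => by
    have : Etale (f x).left := hP x
    exact (f x).left.isOpenMap.isOpen_range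
  obtain ⟨t, ht⟩ := isCompact_univ.elim_finite_subcover (fun x => Set.range (f x).left) hopen
    fun x _ => Set.mem_iUnion.2 ⟨x, y x, hy x⟩
  let e := t.equivFin.symm
  refine ⟨t.card, fun k => Y (e k).1, fun k => f (e k).1, fun k => hf _, EtSh.mem_topology fun x => ?_⟩
  obtain ⟨x', hx', v, hv⟩ := Set.mem_iUnion₂.1 (ht (Set.mem_univ x))
  obtain ⟨k, hk⟩ := e.surjective ⟨x', hx'⟩
  have hk' : (e k).1 = x' := congrArg Subtype.val hk
  subst hk'
  exact ⟨_, f (e k).1, v, Sieve.ofArrows_mk (fun k => Y (e k).1) (fun k => f (e k).1) k, hv⟩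

theorem compactSpace_pullback_left {U V V' : X.Etale} (g : V ⟶ U) (g' : V' ⟶ U)
    [CompactSpace V.left] [CompactSpace V'.left] [QuasiSeparatedSpace U.left] :
    CompactSpace (pullback g g').left := by
  have sq : IsPullback (pullback.fst g g').left (pullback.snd g g').left g.left g'.left :=
    ((IsPullback.of_hasPullback g g').map (Scheme.Etale.forget X)).map (Over.forget X)
  have : QuasiCompact g'.left := quasiCompact_of_compactSpace _
  have : QuasiCompact (pullback.fst g g').left :=
    MorphismProperty.of_isPullback (P := @QuasiCompact) sq.flip inferInstance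
  exact QuasiCompact.compactSpace_of_compactSpace (pullback.fst g g').left

theorem qcqs_of_compactSpace (U : X.Etale) [CompactSpace U.left] [QuasiSeparatedSpace U.left] :
    QCQS X.smallEtaleTopology U := by
  intro S hS
  rw [show X.smallEtaleTopology =
    (X.smallPretopology (P := EtCoh.etaleMP) (Q := EtCoh.etaleMP)).toGrothendieck from
    Scheme.smallGrothendieckTopology_eq_toGrothendieck_smallPretopology X le_rfl] at hS
  choose Y f y hf hP hy using (Scheme.mem_toGrothendieck_smallPretopology U S).1 hS
  choose O hO hyO using fun x => exists_isAffineOpen_mem_and_subset (x := y x) (U := ⊤) trivial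
  have hYx : ∀ x, Etale (Y x).hom := fun x => (Y x).prop
  let V : U.left → X.Etale := fun x => Scheme.Etale.mk ((O x).ι ≫ (Y x).hom)
  let g : ∀ x, V x ⟶ U := fun x =>
    MorphismProperty.Over.homMk (O x).ι rfl ≫ f x
  have hg : ∀ x, S (g x) := fun x => S.downward_closed (hf x) _
  have hopen : ∀ x, IsOpen (Set.range (g x).left) := fun x => by
    have : Etale (f x).left := hP x
    have : Etale (g x).left := inferInstanceAs (Etale ((O x).ι ≫ (f x).left))
    exact (g x).left.isOpenMap.isOpen_range
  obtain ⟨t, ht⟩ := isCompact_univ.elim_finite_subcover (fun x => Set.range (g x).left) hopen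
    fun x _ => Set.mem_iUnion.2 ⟨x, ⟨y x, (hyO x).1⟩, hy x⟩
  let e := t.equivFin.symm
  refine ⟨t.card, fun k => V (e k).1, fun k => g (e k).1, fun k => hg _, EtSh.mem_topology fun x => ?_,
    fun k l => ⟨pullback (g (e k).1) (g (e l).1), pullback.fst _ _, pullback.snd _ _,
      IsPullback.of_hasPullback _ _, ?_⟩⟩
  · obtain ⟨x', hx', v, hv⟩ := Set.mem_iUnion₂.1 (ht (Set.mem_univ x))
    obtain ⟨k, hk⟩ := e.surjective ⟨x', hx'⟩
    have hk' : (e k).1 = x' := congrArg Subtype.val hk
    subst hk'
    exact ⟨_, g (e k).1, v, Sieve.ofArrows_mk (fun k => V (e k).1) (fun k => g (e k).1) k, hv⟩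
  · have : CompactSpace (V (e k).1).left := isCompact_iff_compactSpace.1 (hO _).isCompact
    have : CompactSpace (V (e l).1).left := isCompact_iff_compactSpace.1 (hO _).isCompact
    have := compactSpace_pullback_left (g (e k).1) (g (e l).1)
    exact qc_of_compactSpace _

theorem qcqs_etale [CompactSpace X] [QuasiSeparatedSpace X] (U : X.Etale) [QuasiCompact U.hom]
    [QuasiSeparated U.hom] : QCQS X.smallEtaleTopology U := by
  have : CompactSpace U.left :=
    @QuasiCompact.compactSpace_of_compactSpace U.left X U.hom ‹_› ‹_›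
  have : QuasiSeparatedSpace U.left :=
    @quasiSeparatedSpace_of_quasiSeparated U.left X U.hom ‹_› ‹_›
  exact qcqs_of_compactSpace U

end Groth.Agent.Unr55.FiltColim
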