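import Groth.Agent.Unr55.Et.Stalk
import Groth.Agent.Unr55.Et.FiltColimEtale
import Mathlib.AlgebraicGeometry.Limits
import Mathlib.CategoryTheory.Sites.EpiMono

/-!
Local lifts on the small étale site of an affine object live on one affine surjective étale object.
-/

set_option autoImplicit false
universe u

open CategoryTheory CategoryTheory.Limits AlgebraicGeometry Opposite

set_option backward.isDefEq.respectTransparency.types false

namespace Groth.Agent.Unr55.EtaleAff

variable {X : Scheme.{u}}

/-- Affine surjective covers of affine objects. -/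
def Cov (U : X.Etale) (Y : Over U) : Prop := IsAffine Y.left.left ∧ Surjective Y.hom.left

theorem sect_eq_of_isEmpty (F : EtCoh.Ab X) {Z : X.Etale} [IsEmpty Z.left]
    (a b : F.obj.obj (op Z)) : a = b :=
  sub_eq_zero.1 (EtSh.sect_eq_zero_of_local F _ fun x => isEmptyElim x)

theorem mem_topology_iff {U : X.Etale} {S : Sieve U} (h : S ∈ X.smallEtaleTopology U) :
    S ∈ (X.smallPretopology (P := EtCoh.etaleMP) (Q := EtCoh.etaleMP)).toGrothendieck U := by
  rw [show X.smallEtaleTopology =
    (X.smallPretopology (P := EtCoh.etaleMP) (Q := EtCoh.etaleMP)).toGrothendieck from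
    Scheme.smallGrothendieckTopology_eq_toGrothendieck_smallPretopology X le_rfl] at h
  exact h

theorem exists_cov {U : X.Etale} [CompactSpace U.left] {F G : EtCoh.Ab X} (g : F ⟶ G) [Epi g]
    (s : G.obj.obj (op U)) :
    ∃ Y : Over U, Cov U Y ∧ (Presheaf.imageSieve g.hom s).arrows Y.hom := by
  have : Sheaf.IsLocallySurjective g := (Sheaf.isLocallySurjective_iff_epi' AddCommGrpCat.{u + 1} g).2 ‹_›
  have hS := mem_topology_iff (Presheaf.imageSieve_mem X.smallEtaleTopology g.hom s)
  choose Y f y hf hP hy using (Scheme.mem_toGrothendieck_smallPretopology U _).1 hS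
  choose O hO hyO using fun x => exists_isAffineOpen_mem_and_subset (x := y x) (U := ⊤) trivial
  have hYx : ∀ x, Etale (Y x).hom := fun x => (Y x).prop
  let W : U.left → X.Etale := fun x => Scheme.Etale.mk ((O x).ι ≫ (Y x).hom)
  let h : ∀ x, W x ⟶ U := fun x => MorphismProperty.Over.homMk (O x).ι rfl ≫ f x
  have hh : ∀ x, (Presheaf.imageSieve g.hom s).arrows (h x) := fun x =>
    (Presheaf.imageSieve g.hom s).downward_closed (hf x) _
  have hopen : ∀ x, IsOpen (Set.range (h x).left) := fun x => by
    have : Etale (f x).left := hP x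
    have : Etale (h x).left := inferInstanceAs (Etale ((O x).ι ≫ (f x).left))
    exact (h x).left.isOpenMap.isOpen_range
  obtain ⟨T, hT⟩ := isCompact_univ.elim_finite_subcover (fun x => Set.range (h x).left) hopen
    fun x _ => Set.mem_iUnion.2 ⟨x, ⟨y x, (hyO x).1⟩, hy x⟩
  let e : Fin T.card → U.left := fun k => (T.equivFin.symm k).1
  let P : Fin T.card → Scheme.{u} := fun k => (W (e k)).left
  have hPa : ∀ k, IsAffine (P k) := fun k => hO (e k)
  let q : (∐ P) ⟶ X := Sigma.desc fun k => ((W (e k)).hom : P k ⟶ X)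
  have hq : Etale q := IsZariskiLocalAtSource.sigmaDesc fun k => (W (e k)).prop
  let V : X.Etale := Scheme.Etale.mk q
  let inc : ∀ k, W (e k) ⟶ V := fun k =>
    MorphismProperty.Over.homMk (Sigma.ι P k) (Sigma.ι_desc _ k)
  let π : V ⟶ U := MorphismProperty.Over.homMk (Sigma.desc fun k => (h (e k)).left) (by
    refine Sigma.hom_ext _ _ fun k => ?_
    show Sigma.ι P k ≫ Sigma.desc _ ≫ U.hom = Sigma.ι P k ≫ Sigma.desc _
    rw [Sigma.ι_desc_assoc, Sigma.ι_desc]
    exact Over.w (h (e k)).hom)
  have hincπ : ∀ k, inc k ≫ π = h (e k) := fun k =>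
    MorphismProperty.Over.Hom.ext (Sigma.ι_desc _ k)
  refine ⟨Over.mk π, ⟨inferInstanceAs (IsAffine (∐ P)), ⟨fun x => ?_⟩⟩, ?_⟩
  · obtain ⟨x', hx', v, hv⟩ := Set.mem_iUnion₂.1 (hT (Set.mem_univ x))
    obtain ⟨k, hk⟩ : ∃ k, e k = x' := by
      obtain ⟨k, hk⟩ := T.equivFin.symm.surjective ⟨x', hx'⟩
      exact ⟨k, congrArg Subtype.val hk⟩
    subst hk
    refine ⟨Sigma.ι P k v, ?_⟩
    rw [← hv, ← hincπ]
    rfl
  · choose t ht using fun k => hh (e k)
    have hcov : Sieve.ofArrows (fun k => W (e k)) inc ∈ X.smallEtaleTopology V :=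
      EtSh.mem_topology fun p => by
        obtain ⟨v, hv⟩ := (sigmaOpenCover P).covers p
        generalize (sigmaOpenCover P).idx p = k at v hv
        exact ⟨_, inc k, v, Sieve.ofArrows_mk _ inc k, hv⟩
    have hcomp : Presieve.Arrows.Compatible (F.obj ⋙ forget AddCommGrpCat.{u + 1}) inc t := by
      intro i j Z gi gj hij
      by_cases hne : i = j
      · subst hne
        have hmono : gi = gj := MorphismProperty.Over.Hom.ext
          ((cancel_mono (Sigma.ι P i)).1 (congrArg (fun m : Z ⟶ V => m.left) hij))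
        rw [hmono]
      · have : IsEmpty Z.left := isEmpty_of_commSq_sigmaι_of_ne (g := P) (a := gi.left) (b := gj.left)
          ⟨congrArg (fun m : Z ⟶ V => m.left) hij⟩ hne
        exact sect_eq_of_isEmpty F _ _
    obtain ⟨tt, htt, -⟩ := (Presieve.isSheafFor_arrows_iff _ inc).1
      ((Presieve.isSheafFor_iff_generate _).2 (EtSh.isSheafFor_forget F hcov)) t hcomp
    refine ⟨tt, ((Presieve.isSheafFor_iff_generate _).2
      (EtSh.isSheafFor_forget G hcov)).isSeparatedFor.ext ?_⟩
    rintro _ _ ⟨k⟩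
    refine ((NatTrans.naturality_apply g.hom (inc k).op tt).symm).trans ?_
    refine (congrArg (g.hom.app _) (htt k)).trans ((ht k).trans ?_)
    show G.obj.map (h (e k)).op s = G.obj.map (inc k).op (G.obj.map π.op s)
    rw [← ConcreteCategory.comp_apply, ← Functor.map_comp, ← op_comp, hincπ]

end Groth.Agent.Unr55.EtaleAff
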