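import Groth.Agent.Unr55.Et.CechCartan
import Mathlib.GroupTheory.QuotientGroup.Basic

/-!
Sheaf cohomology: sections over a final object, vanishing by dimension shifting, and comparison of
`Ext` along a functor exact on a class of objects.
-/

set_option autoImplicit false

universe v w u v₁ u₁ v₂ u₂ w₁ w₂

open CategoryTheory CategoryTheory.Limits Opposite CategoryTheory.Abelian

namespace Groth.Agent.Unr55.ExtCmp

section Sections

variable {C : Type v} [Category.{w} C] {J : GrothendieckTopology C}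
  [HasSheafify J AddCommGrpCat.{u}] {T : C} (hT : IsTerminal T)

/-- Morphisms out of the constant sheaf `ℤ` are sections over the final object. -/
noncomputable def homTop (F : Sheaf J AddCommGrpCat.{u}) :
    ((constantSheaf J AddCommGrpCat.{u}).obj (AddCommGrpCat.of (ULift.{u} ℤ)) ⟶ F) ≃+
      F.obj.obj (op T) :=
  AddEquiv.ofBijective
    (AddMonoidHom.mk'
      (fun c => (((constantSheafAdj J AddCommGrpCat.{u} hT).unit.app (AddCommGrpCat.of (ULift.{u} ℤ)) ≫
        ((sheafSections J AddCommGrpCat.{u}).obj (op T)).map c) (ULift.up 1) : F.obj.obj (op T)))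
      (fun _ _ => rfl)) (by
    refine ⟨fun a b h => ((constantSheafAdj J AddCommGrpCat.{u} hT).homEquiv _ _).injective ?_,
      fun σ => ?_⟩
    · rw [Adjunction.homEquiv_unit, Adjunction.homEquiv_unit]
      refine ConcreteCategory.hom_ext _ _ ?_
      rintro ⟨z⟩
      rw [show (⟨z⟩ : ULift.{u} ℤ) = z • ULift.up 1 from ULift.ext _ _ (by simp)]
      exact (map_zsmul _ z _).trans ((congrArg (z • ·) h).trans (map_zsmul (((constantSheafAdj J AddCommGrpCat.{u} hT).unit.app (AddCommGrpCat.of (ULift.{u} ℤ)) ≫ ((sheafSections J AddCommGrpCat.{u}).obj (op T)).map b).hom) z _).symm)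
    · let k : AddCommGrpCat.of (ULift.{u} ℤ) ⟶
          ((sheafSections J AddCommGrpCat.{u}).obj (op T)).obj F :=
        AddCommGrpCat.ofHom ((zmultiplesHom _ σ).comp AddEquiv.ulift.toAddMonoidHom)
      refine ⟨((constantSheafAdj J AddCommGrpCat.{u} hT).homEquiv _ _).symm k, ?_⟩
      have e := ((constantSheafAdj J AddCommGrpCat.{u} hT).homEquiv _ _).apply_symm_apply k
      rw [Adjunction.homEquiv_unit] at e
      refine (ConcreteCategory.congr_hom e (ULift.up 1)).trans ?_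
      show (1 : ℤ) • σ = σ
      exact one_smul _ σ)

theorem homTop_comp {F G : Sheaf J AddCommGrpCat.{u}} (g : F ⟶ G)
    (c : (constantSheaf J AddCommGrpCat.{u}).obj (AddCommGrpCat.of (ULift.{u} ℤ)) ⟶ F) :
    homTop hT G (c ≫ g) = g.hom.app (op T) (homTop hT F c) := rfl

end Sections

variable {A : Type u₁} [Category.{v₁} A] [Abelian A] [HasExt.{w₁} A]

/-- Vanishing of `Ext` by dimension shifting in a class. -/
theorem subsingleton_ext_of_class [EnoughInjectives A] (Z : A) (Good : A → Prop)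
    (hsur : ∀ (S : ShortComplex A), S.ShortExact → Injective S.X₂ → Good S.X₁ →
      ∀ c : Z ⟶ S.X₃, ∃ b, b ≫ S.g = c)
    (hgood : ∀ (S : ShortComplex A), S.ShortExact → Injective S.X₂ → Good S.X₁ → Good S.X₃) :
    ∀ (p : ℕ) (F : A), Good F → Subsingleton (Ext.{w₁} Z F (p + 1))
  | p, F, hF => by
    refine subsingleton_of_forall_eq 0 fun x => ?_
    let S : ShortComplex A :=
      ShortComplex.mk (Injective.ι F) (cokernel.π (Injective.ι F)) (cokernel.condition _)
    have hS : S.ShortExact :=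
      { exact := ShortComplex.exact_of_g_is_cokernel _ (cokernelIsCokernel _) }
    have : Injective S.X₂ := inferInstanceAs (Injective (Injective.under F))
    obtain ⟨y, hy⟩ := Ext.covariant_sequence_exact₁ _ hS x
      ((Ext.subsingleton_of_injective _ S.X₂ p).elim _ _) rfl
    cases p with
    | zero =>
      obtain ⟨c, rfl⟩ := (Ext.mk₀_bijective _ _).2 y
      obtain ⟨b, rfl⟩ := hsur S hS ‹_› hF c
      rw [← hy, ← Ext.mk₀_comp_mk₀, Ext.comp_assoc_of_second_deg_zero, hS.comp_extClass,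
        Ext.comp_zero]
    | succ p =>
      have := subsingleton_ext_of_class Z Good hsur hgood p S.X₃ (hgood S hS ‹_› hF)
      rw [← hy, Subsingleton.elim y 0, Ext.zero_comp]

/-- Two surjections with the same kernel. -/
noncomputable def equivOfKer {M N N' : Type*} [AddCommGroup M] [AddCommGroup N] [AddCommGroup N']
    (φ : M →+ N) (ψ : M →+ N') (hφ : Function.Surjective φ) (hψ : Function.Surjective ψ)
    (h : φ.ker = ψ.ker) : N ≃+ N' :=
  ((QuotientAddGroup.quotientKerEquivOfSurjective φ hφ).symm.trans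
    (QuotientAddGroup.quotientAddEquivOfEq h)).trans
      (QuotientAddGroup.quotientKerEquivOfSurjective ψ hψ)

variable {B : Type u₂} [Category.{v₂} B] [Abelian B] [HasExt.{w₂} B]

/-- The connecting map, as an additive map. -/
noncomputable def δ {S : ShortComplex A} (hS : S.ShortExact) (Z : A) (n : ℕ) :
    Ext.{w₁} Z S.X₃ n →+ Ext.{w₁} Z S.X₁ (n + 1) :=
  hS.extClass.postcomp Z rfl

theorem δ_surjective {S : ShortComplex A} (hS : S.ShortExact) (Z : A) (n : ℕ)
    [Subsingleton (Ext.{w₁} Z S.X₂ (n + 1))] : Function.Surjective (δ hS Z n) := fun x =>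
  Ext.covariant_sequence_exact₁ Z hS x (Subsingleton.elim _ _) rfl

theorem δ_injective {S : ShortComplex A} (hS : S.ShortExact) (Z : A) (n : ℕ)
    [Subsingleton (Ext.{w₁} Z S.X₂ n)] : Function.Injective (δ hS Z n) := by
  refine (injective_iff_map_eq_zero _).2 fun x hx => ?_
  obtain ⟨y, rfl⟩ := Ext.covariant_sequence_exact₃ Z hS x rfl hx
  rw [Subsingleton.elim y 0, Ext.zero_comp]

theorem ker_δ_zero {S : ShortComplex A} (hS : S.ShortExact) (Z : A) (c : Z ⟶ S.X₃) :
    δ hS Z 0 (Ext.mk₀ c) = 0 ↔ ∃ b, b ≫ S.g = c := by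
  constructor
  · intro h
    obtain ⟨y, hy⟩ := Ext.covariant_sequence_exact₃ Z hS (Ext.mk₀ c) rfl h
    obtain ⟨b, rfl⟩ := (Ext.mk₀_bijective _ _).2 y
    rw [Ext.mk₀_comp_mk₀] at hy
    exact ⟨b, (Ext.mk₀_bijective _ _).1 hy⟩
  · rintro ⟨b, rfl⟩
    show (Ext.mk₀ (b ≫ S.g)).comp hS.extClass rfl = 0
    rw [← Ext.mk₀_comp_mk₀, Ext.comp_assoc_of_second_deg_zero, hS.comp_extClass, Ext.comp_zero]

/-- Comparison of `Ext` along a functor exact on a class of objects, with acyclic values on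
injectives. -/
theorem compare [EnoughInjectives A] (Φ : A ⥤ B) [Φ.PreservesZeroMorphisms] (Z : A) (Z' : B)
    (Good : A → Prop)
    (hex : ∀ (S : ShortComplex A), S.ShortExact → Injective S.X₂ → Good S.X₁ → (S.map Φ).ShortExact)
    (hgood : ∀ (S : ShortComplex A), S.ShortExact → Injective S.X₂ → Good S.X₁ → Good S.X₃)
    (hacyc : ∀ I : A, Injective I → ∀ n : ℕ, Subsingleton (Ext.{w₂} Z' (Φ.obj I) (n + 1)))
    (e : ∀ F : A, (Z ⟶ F) ≃+ (Z' ⟶ Φ.obj F))
    (he : ∀ {F G : A} (g : F ⟶ G) (c : Z ⟶ F), e G (c ≫ g) = e F c ≫ Φ.map g) :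
    ∀ (p : ℕ) (F : A), Good F → Nonempty (Ext.{w₁} Z F p ≃+ Ext.{w₂} Z' (Φ.obj F) p)
  | 0, F, _ => ⟨(Ext.addEquiv₀.trans (e F)).trans Ext.addEquiv₀.symm⟩
  | p + 1, F, hF => by
    let S : ShortComplex A :=
      ShortComplex.mk (Injective.ι F) (cokernel.π (Injective.ι F)) (cokernel.condition _)
    have hS : S.ShortExact :=
      { exact := ShortComplex.exact_of_g_is_cokernel _ (cokernelIsCokernel _) }
    have hI : Injective S.X₂ := inferInstanceAs (Injective (Injective.under F))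
    have hS' := hex S hS hI hF
    have h2 : ∀ n, Subsingleton (Ext.{w₁} Z S.X₂ (n + 1)) := Ext.subsingleton_of_injective _ _
    have h2' : ∀ n, Subsingleton (Ext.{w₂} Z' (S.map Φ).X₂ (n + 1)) := hacyc _ hI
    cases p with
    | zero =>
      let φ : (Z ⟶ S.X₃) →+ Ext.{w₁} Z F 1 :=
        (δ hS Z 0).comp Ext.addEquiv₀.symm.toAddMonoidHom
      let ψ : (Z ⟶ S.X₃) →+ Ext.{w₂} Z' (Φ.obj F) 1 :=
        (δ hS' Z' 0).comp (((e S.X₃).trans Ext.addEquiv₀.symm).toAddMonoidHom)
      refine ⟨equivOfKer φ ψ ((δ_surjective hS Z 0).comp Ext.addEquiv₀.symm.surjective)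
        ((δ_surjective hS' Z' 0).comp ((e S.X₃).trans Ext.addEquiv₀.symm).surjective)
        (AddSubgroup.ext fun c => ?_)⟩
      rw [AddMonoidHom.mem_ker, AddMonoidHom.mem_ker]
      refine (ker_δ_zero hS Z c).trans ?_
      refine Iff.trans ?_ (ker_δ_zero hS' Z' (e S.X₃ c)).symm
      constructor
      · rintro ⟨b, rfl⟩; exact ⟨e S.X₂ b, (he S.g b).symm⟩
      · rintro ⟨b, hb⟩
        obtain ⟨b, rfl⟩ := (e S.X₂).surjective b
        exact ⟨b, (e S.X₃).injective ((he S.g b).trans hb)⟩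
    | succ q =>
      have := h2 q; have := h2 (q + 1); have := h2' q; have := h2' (q + 1)
      obtain ⟨ε⟩ := compare Φ Z Z' Good hex hgood hacyc e he (q + 1) S.X₃ (hgood S hS hI hF)
      exact ⟨((AddEquiv.ofBijective (δ hS Z (q + 1))
        ⟨δ_injective hS Z _, δ_surjective hS Z _⟩).symm.trans ε).trans
        (AddEquiv.ofBijective (δ hS' Z' (q + 1)) ⟨δ_injective hS' Z' _, δ_surjective hS' Z' _⟩)⟩

/-- Functoriality of the connecting map. -/
theorem δ_natural {S : ShortComplex A} (hS : S.ShortExact) (Z : A) (φ : S ⟶ S) (n : ℕ)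
    (x : Ext.{w₁} Z S.X₃ n) :
    δ hS Z n (x.comp (Ext.mk₀ φ.τ₃) (add_zero n)) =
      (δ hS Z n x).comp (Ext.mk₀ φ.τ₁) (add_zero (n + 1)) := by
  show (x.comp (Ext.mk₀ φ.τ₃) (add_zero n)).comp hS.extClass rfl =
    (x.comp hS.extClass rfl).comp (Ext.mk₀ φ.τ₁) (add_zero (n + 1))
  rw [Ext.comp_assoc_of_second_deg_zero, Ext.comp_assoc_of_third_deg_zero,
    ShortComplex.ShortExact.extClass_naturality hS hS φ]

theorem equivOfKer_apply {M N N' : Type*} [AddCommGroup M] [AddCommGroup N] [AddCommGroup N']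
    (φ : M →+ N) (ψ : M →+ N') (hφ : Function.Surjective φ) (hψ : Function.Surjective ψ)
    (h : φ.ker = ψ.ker) (m : M) : equivOfKer φ ψ hφ hψ h (φ m) = ψ m := by
  unfold equivOfKer
  have e : (QuotientAddGroup.quotientKerEquivOfSurjective φ hφ).symm (φ m) = (m : M ⧸ φ.ker) :=
    (QuotientAddGroup.quotientKerEquivOfSurjective φ hφ).injective
      ((AddEquiv.apply_symm_apply _ _).trans rfl)
  rw [AddEquiv.trans_apply, AddEquiv.trans_apply, e]
  rfl

/-- Comparison of `Ext` along a functor exact on a class of objects, compatibly with endomorphisms. -/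
theorem compare_end [EnoughInjectives A] (Φ : A ⥤ B) [Φ.PreservesZeroMorphisms] (Z : A) (Z' : B)
    (Good : A → Prop)
    (hex : ∀ (S : ShortComplex A), S.ShortExact → Injective S.X₂ → Good S.X₁ → (S.map Φ).ShortExact)
    (hgood : ∀ (S : ShortComplex A), S.ShortExact → Injective S.X₂ → Good S.X₁ → Good S.X₃)
    (hacyc : ∀ I : A, Injective I → ∀ n : ℕ, Subsingleton (Ext.{w₂} Z' (Φ.obj I) (n + 1)))
    (e : ∀ F : A, (Z ⟶ F) ≃+ (Z' ⟶ Φ.obj F))
    (he : ∀ {F G : A} (g : F ⟶ G) (c : Z ⟶ F), e G (c ≫ g) = e F c ≫ Φ.map g) :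
    ∀ (p : ℕ) (F : A), Good F → ∃ ε : Ext.{w₁} Z F p ≃+ Ext.{w₂} Z' (Φ.obj F) p,
      ∀ (g : F ⟶ F) (x : Ext.{w₁} Z F p),
        ε (x.comp (Ext.mk₀ g) (add_zero p)) = (ε x).comp (Ext.mk₀ (Φ.map g)) (add_zero p)
  | 0, F, _ => by
    refine ⟨(Ext.addEquiv₀.trans (e F)).trans Ext.addEquiv₀.symm, fun g x => ?_⟩
    obtain ⟨c, rfl⟩ := (Ext.mk₀_bijective _ _).2 x
    have key : ∀ d : Z ⟶ F, ((Ext.addEquiv₀.trans (e F)).trans Ext.addEquiv₀.symm) (Ext.mk₀ d) =
        Ext.mk₀ (e F d) := fun d => by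
      show Ext.addEquiv₀.symm (e F (Ext.addEquiv₀ (Ext.addEquiv₀.symm d))) = Ext.mk₀ (e F d)
      rw [AddEquiv.apply_symm_apply]; rfl
    rw [Ext.mk₀_comp_mk₀, key, key, he, Ext.mk₀_comp_mk₀]
  | p + 1, F, hF => by
    let S : ShortComplex A :=
      ShortComplex.mk (Injective.ι F) (cokernel.π (Injective.ι F)) (cokernel.condition _)
    have hS : S.ShortExact :=
      { exact := ShortComplex.exact_of_g_is_cokernel _ (cokernelIsCokernel _) }
    have hI : Injective S.X₂ := inferInstanceAs (Injective (Injective.under F))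
    have hS' := hex S hS hI hF
    have h2 : ∀ n, Subsingleton (Ext.{w₁} Z S.X₂ (n + 1)) := Ext.subsingleton_of_injective _ _
    have h2' : ∀ n, Subsingleton (Ext.{w₂} Z' (S.map Φ).X₂ (n + 1)) := hacyc _ hI
    have hlift : ∀ g : F ⟶ F, ∃ φ : S ⟶ S, φ.τ₁ = g := fun g =>
      ⟨{ τ₁ := g
         τ₂ := Injective.factorThru (g ≫ Injective.ι F) (Injective.ι F)
         τ₃ := cokernel.map _ _ g (Injective.factorThru (g ≫ Injective.ι F) (Injective.ι F))
           (Injective.comp_factorThru _ _)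
         comm₁₂ := (Injective.comp_factorThru _ _).symm
         comm₂₃ := (cokernel.π_desc _ _ _).symm }, rfl⟩
    choose lift hl using hlift
    cases p with
    | zero =>
      let φ : (Z ⟶ S.X₃) →+ Ext.{w₁} Z F 1 :=
        (δ hS Z 0).comp Ext.addEquiv₀.symm.toAddMonoidHom
      let ψ : (Z ⟶ S.X₃) →+ Ext.{w₂} Z' (Φ.obj F) 1 :=
        (δ hS' Z' 0).comp (((e S.X₃).trans Ext.addEquiv₀.symm).toAddMonoidHom)
      have hker : φ.ker = ψ.ker := AddSubgroup.ext fun c => by
        rw [AddMonoidHom.mem_ker, AddMonoidHom.mem_ker]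
        refine (ker_δ_zero hS Z c).trans ?_
        refine Iff.trans ?_ (ker_δ_zero hS' Z' (e S.X₃ c)).symm
        constructor
        · rintro ⟨b, rfl⟩; exact ⟨e S.X₂ b, (he S.g b).symm⟩
        · rintro ⟨b, hb⟩
          obtain ⟨b, rfl⟩ := (e S.X₂).surjective b
          exact ⟨b, (e S.X₃).injective ((he S.g b).trans hb)⟩
      have hφs : Function.Surjective φ := (δ_surjective hS Z 0).comp Ext.addEquiv₀.symm.surjective
      refine ⟨equivOfKer φ ψ hφs
        ((δ_surjective hS' Z' 0).comp ((e S.X₃).trans Ext.addEquiv₀.symm).surjective) hker,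
        fun g x => ?_⟩
      obtain ⟨c, rfl⟩ := hφs x
      have h1 : φ (c ≫ (lift g).τ₃) = (φ c).comp (Ext.mk₀ g) (add_zero 1) := by
        have h := δ_natural hS Z (lift g) 0 (Ext.mk₀ c)
        rw [Ext.mk₀_comp_mk₀, hl g] at h
        exact h
      rw [← h1, equivOfKer_apply, equivOfKer_apply]
      have h := δ_natural hS' Z' (Φ.mapShortComplex.map (lift g)) 0 (Ext.mk₀ (e S.X₃ c))
      rw [Ext.mk₀_comp_mk₀] at h
      show δ hS' Z' 0 (Ext.mk₀ (e S.X₃ (c ≫ (lift g).τ₃))) = _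
      rw [he]
      refine h.trans ?_
      show (δ hS' Z' 0 (Ext.mk₀ (e S.X₃ c))).comp (Ext.mk₀ (Φ.map (lift g).τ₁)) _ = _
      rw [hl g]; rfl
    | succ q =>
      have := h2 q; have := h2 (q + 1); have := h2' q; have := h2' (q + 1)
      obtain ⟨ε, hε⟩ := compare_end Φ Z Z' Good hex hgood hacyc e he (q + 1) S.X₃ (hgood S hS hI hF)
      let d := AddEquiv.ofBijective (δ hS Z (q + 1)) ⟨δ_injective hS Z _, δ_surjective hS Z _⟩
      let d' := AddEquiv.ofBijective (δ hS' Z' (q + 1)) ⟨δ_injective hS' Z' _, δ_surjective hS' Z' _⟩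
      refine ⟨(d.symm.trans ε).trans d', fun g x => ?_⟩
      obtain ⟨y, rfl⟩ := d.surjective x
      have h1 : d (y.comp (Ext.mk₀ (lift g).τ₃) (add_zero (q + 1))) =
          (d y).comp (Ext.mk₀ g) (add_zero (q + 2)) := by
        have h := δ_natural hS Z (lift g) (q + 1) y
        rw [hl g] at h
        exact h
      show d' (ε (d.symm ((d y).comp (Ext.mk₀ g) (add_zero (q + 2))))) =
        (d' (ε (d.symm (d y)))).comp (Ext.mk₀ (Φ.map g)) (add_zero (q + 2))
      rw [← h1, AddEquiv.symm_apply_apply, AddEquiv.symm_apply_apply, hε]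
      have h := δ_natural hS' Z' (Φ.mapShortComplex.map (lift g)) (q + 1) (ε y)
      refine h.trans ?_
      show (δ hS' Z' (q + 1) (ε y)).comp (Ext.mk₀ (Φ.map (lift g).τ₁)) _ = _
      rw [hl g]; rfl

end Groth.Agent.Unr55.ExtCmp
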