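import Groth.Agent.Unr55.Et.CechFiltColim
import Groth.Agent.Unr55.Et.AffineRefine
import Groth.Agent.Unr55.Et.CechCartan
import Groth.Agent.Unr55.Et.ExtCompareClass
import Groth.Agent.Unr55.Et.FiltColimEtale
import Groth.Agent.Unr55.Et.StrictHensH
import Groth.Agent.CohColim46.ExtColim

/-!
Étale cohomology of a qcqs scheme commutes with filtered colimits.
-/

set_option autoImplicit false
set_option backward.isDefEq.respectTransparency.types false
universe u

open CategoryTheory CategoryTheory.Limits AlgebraicGeometry Opposite CategoryTheory.Abelian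

namespace Groth.Agent.Unr55.HColim

open Groth.Agent.CohColim46

variable (X : Scheme.{u}) [CompactSpace X] [QuasiSeparatedSpace X]

/-- Quasi-compact quasi-separated objects. -/
abbrev B : Set X.Etale := {U | CompactSpace U.left ∧ QuasiSeparatedSpace U.left}

/-- Surjective coverings by one quasi-compact quasi-separated object. -/
def Cov (U : X.Etale) (Y : Over U) : Prop := FiltColim.Qcqs Y ∧ Surjective Y.hom.left

variable {X}

omit [CompactSpace X] in
theorem quasiCompact_hom (U : X.Etale) (h : CompactSpace U.left) : QuasiCompact U.hom :=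
  @quasiCompact_of_compactSpace U.left X U.hom h ‹_›

omit [CompactSpace X] [QuasiSeparatedSpace X] in
theorem quasiSeparated_hom (U : X.Etale) (h : QuasiSeparatedSpace U.left) : QuasiSeparated U.hom := by
  have : QuasiSeparated (terminal.from U.left) :=
    (quasiSeparatedSpace_iff_quasiSeparated _).1 h
  refine @QuasiSeparated.of_comp U.left X (⊤_ Scheme.{u}) U.hom (terminal.from X) ?_
  convert this
  exact terminal.hom_ext _ _

variable (I : Type (u + 1)) [SmallCategory I] [IsFiltered I]

/-- A colimit of injectives is Čech acyclic. -/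
theorem acyclic_colimit (K : I ⥤ EtCoh.Ab X) (hK : ∀ i, Injective (K.obj i)) :
    CechCartan.Acyclic.{u + 1, u, u + 1} (B X) (Cov X) (colimit K) := by
  intro U hU Y hY q
  obtain ⟨h1, h2⟩ := hU
  obtain ⟨⟨h3, h4⟩, -⟩ := hY
  have := quasiCompact_hom U h1
  have := quasiSeparated_hom U h2
  have hx : ∀ i : PUnit.{u + 2}, QuasiCompact (CechCartan.fam.{u + 1, u, u + 1} Y i).left.hom := fun _ => quasiCompact_hom Y.left h3
  have hy : ∀ i : PUnit.{u + 2}, QuasiSeparated (CechCartan.fam.{u + 1, u, u + 1} Y i).left.hom := fun _ => quasiSeparated_hom Y.left h4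
  have hp := FiltColim.preservesColimitsOfShape_cech (X := X) (U := U) (ι := PUnit.{u + 2})
    (Uf := CechCartan.fam.{u + 1, u, u + 1} Y) (I := I)
  have := hp (q + 1)
  have hc := isColimitOfPreserves (sheafToPresheaf X.smallEtaleTopology AddCommGrpCat.{u + 1} ⋙
    EtCech.cechHFunctor (CechCartan.fam.{u + 1, u, u + 1} Y) (q + 1)) (colimit.isColimit K)
  have hz : ∀ i, IsZero ((sheafToPresheaf X.smallEtaleTopology AddCommGrpCat.{u + 1} ⋙
      EtCech.cechHFunctor (CechCartan.fam.{u + 1, u, u + 1} Y) (q + 1)).obj (K.obj i)) := fun i => by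
    have := hK i
    exact CechInjU.isZero_cechH.{u + 1, u + 1, u} (CechCartan.fam.{u + 1, u, u + 1} Y) (K.obj i) q
  exact (IsZero.iff_id_eq_zero _).2 (hc.hom_ext fun i => (hz i).eq_of_src _ _)

/-- Colimits of injectives are acyclic. -/
theorem subsingleton_H_colimit (K : I ⥤ EtCoh.Ab X) (hK : ∀ i, Injective (K.obj i)) (q : ℕ) :
    Subsingleton (EtCoh.H X (colimit K) (q + 1)) := by
  refine CechCartan.subsingleton_H.{u + 1, u, u + 1} (B := B X) (Cov := Cov X) ?_ ?_
    (EtSh.isTerminalTop X) ⟨‹CompactSpace X›, ‹QuasiSeparatedSpace X›⟩ q _ (acyclic_colimit I K hK)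
  · intro U hU Y hY n a
    have := hU.1
    have := hU.2
    exact FiltColim.qcqs_pi (n + 1) (CechCartan.fam.{u + 1, u, u + 1} Y ∘ a) (fun _ => hY.1)
      (limit.cone _) (limit.isLimit _)
  · intro U hU F G g _ s
    have := hU.1
    have := hU.2
    obtain ⟨Y, hY, hmem⟩ := EtaleAff.exists_cov g s
    have : IsAffine Y.left.left := hY.1
    refine ⟨Y, ⟨⟨inferInstance, inferInstance⟩, hY.2⟩, hmem, EtSh.mem_topology fun x => ?_⟩
    obtain ⟨v, hv⟩ := hY.2.surj x
    exact ⟨Y.left, Y.hom, v,
      Sieve.ofArrows_mk (fun _ : PUnit.{u + 2} => Y.left) (fun _ => Y.hom) PUnit.unit, hv⟩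

/-- The source object of cohomology. -/
noncomputable abbrev src (X : Scheme.{u}) : EtCoh.Ab X :=
  (constantSheaf X.smallEtaleTopology AddCommGrpCat.{u + 1}).obj (AddCommGrpCat.of (ULift.{u + 1} ℤ))

theorem extComm_zero : ExtComm.{u + 1} I (src X) 0 := by
  intro K
  let T := EtCoh.top X
  have := quasiCompact_hom T ‹CompactSpace X›
  have := quasiSeparated_hom T ‹QuasiSeparatedSpace X›
  let G := sheafToPresheaf X.smallEtaleTopology AddCommGrpCat.{u + 1} ⋙
    (evaluation _ AddCommGrpCat.{u + 1}).obj (op T)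
  have : PreservesColimitsOfShape I G :=
    FiltColim.preservesColimitsOfShape_sections.{u + 2, u, u + 1} (D := AddCommGrpCat.{u + 1})
      X.smallEtaleTopology I (FiltColim.qcqs_etale T)
  let hc := isColimitOfPreserves (G ⋙ forget AddCommGrpCat.{u + 1}) (colimit.isColimit K)
  let e := fun F : EtCoh.Ab X => (ExtCmp.homTop (EtSh.isTerminalTop X) F : (src X ⟶ F) ≃+ F.obj.obj (op T))
  refine ⟨fun y => ?_, fun i x hx => ?_⟩
  · obtain ⟨c, rfl⟩ := (Ext.mk₀_bijective _ _).2 y
    obtain ⟨i, s, hs⟩ := Types.jointly_surjective _ hc (e _ c)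
    refine ⟨i, Ext.mk₀ ((e _).symm s), ?_⟩
    rw [Ext.mk₀_comp_mk₀]
    refine congrArg Ext.mk₀ ((e _).injective ?_)
    rw [ExtCmp.homTop_comp, AddEquiv.apply_symm_apply]
    exact hs
  · obtain ⟨c, rfl⟩ := (Ext.mk₀_bijective _ _).2 x
    rw [Ext.mk₀_comp_mk₀] at hx
    have h0 := congrArg (e _) ((Ext.mk₀_bijective _ _).1 (hx.trans (Ext.mk₀_zero _ _).symm))
    rw [ExtCmp.homTop_comp, map_zero] at h0
    obtain ⟨j, f, g, hfg⟩ := (Types.FilteredColimit.isColimit_eq_iff _ hc
      (xi := (e _ c : (K.obj i).obj.obj (op T))) (xj := (0 : (K.obj i).obj.obj (op T)))).1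
      (h0.trans (map_zero ((colimit.ι K i).hom.app (op T)).hom).symm)
    refine ⟨j, f, ?_⟩
    rw [Ext.mk₀_comp_mk₀, show c ≫ K.map f = 0 from (e _).injective ?_, Ext.mk₀_zero]
    rw [ExtCmp.homTop_comp, map_zero]
    exact hfg.trans (map_zero ((K.map g).hom.app (op T)).hom)

theorem preservesColimitsOfShape_HF (n : ℕ) : PreservesColimitsOfShape I (EtCoh.HF X n) :=
  (extComm_of_acyclic.{u + 1} (extComm_zero I)
    (fun K hK q => subsingleton_H_colimit I K hK q) n).preservesColimitsOfShape

end Groth.Agent.Unr55.HColim
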