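import Groth.Agent.Unr55.Et.FinitePush
import Mathlib.Algebra.Homology.ShortComplex.ExactFunctor
import Mathlib.Algebra.Homology.ShortComplex.PreservesHomology
import Mathlib.CategoryTheory.Abelian.RightDerived

/-!
Direct image along finite morphisms: stalk formula, exactness, vanishing of higher direct images.
-/

universe u

open CategoryTheory CategoryTheory.Limits AlgebraicGeometry Opposite Groth.Agent.FlatMor66

namespace Groth.Agent.Unr55.EtSh

set_option backward.isDefEq.respectTransparency.types false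

variable {X Y : Scheme.{u}} (f : X ⟶ Y) [IsFinite f]

/-- The stalk formula for direct images along finite morphisms. -/
theorem nonempty_stalk_push_finite_iso {Ω : Type u} [Field Ω] [IsAlgClosed Ω]
    (η : Spec (CommRingCat.of Ω) ⟶ Y) (F : EtCoh.Ab X) :
    Nonempty ((EtCoh.stalk η).obj ((EtCoh.push f).obj F) ≅
      ∐ fun ξ : {ξ : Spec (CommRingCat.of Ω) ⟶ X // ξ ≫ f = η} => (EtCoh.stalk ξ.1).obj F) := by
  have : Finite (GPt f η) := finite_GPt f η (f.finite_preimage_singleton _)
  have : IsIso (pushMapPi f η F) := (ConcreteCategory.isIso_iff_bijective _).2 (pushMapPi_bijective f η F)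
  exact ⟨asIso (pushMapPi f η F) ≪≫ (biproduct.isoProduct _).symm ≪≫ biproduct.isoCoproduct _⟩

theorem stalk_push_map_surjective {Ω : Type u} [Field Ω] [IsAlgClosed Ω]
    (η : Spec (CommRingCat.of Ω) ⟶ Y) {F G : EtCoh.Ab X} (φ : F ⟶ G) [Epi φ] :
    Function.Surjective ((EtCoh.stalk η).map ((EtCoh.push f).map φ)) := by
  intro b
  have : Finite (GPt f η) := finite_GPt f η (f.finite_preimage_singleton _)
  let S := fun ξ : GPt f η => (EtCoh.stalk ξ.1).obj F
  let e := Concrete.productEquiv S
  have hs : ∀ ξ : GPt f η, ∃ a, (EtCoh.stalk ξ.1).map φ a = pushMapAt f ξ.2 G b := fun ξ =>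
    (AddCommGrpCat.epi_iff_surjective ((EtCoh.stalk ξ.1).map φ)).1 inferInstance _
  choose a ha using hs
  obtain ⟨c, hc⟩ := (pushMapPi_bijective f η F).2 (e.symm a)
  have hca : ∀ ξ : GPt f η, pushMapAt f ξ.2 F c = a ξ := fun ξ => by
    refine (ConcreteCategory.congr_hom (Pi.lift_π (f := S) (fun ξ : GPt f η => pushMapAt f ξ.2 F) ξ) c).symm.trans ?_
    refine (congrArg (Pi.π S ξ) hc).trans ((Concrete.productEquiv_apply_apply S _ ξ).symm.trans ?_)
    exact congrFun (e.apply_symm_apply a) ξ
  have nat : ∀ (ξ : GPt f η) (x : ((EtCoh.stalk η).obj ((EtCoh.push f).obj F) : AddCommGrpCat.{u + 1})),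
      pushMapAt f ξ.2 G ((EtCoh.stalk η).map ((EtCoh.push f).map φ) x) =
        (EtCoh.stalk ξ.1).map φ (pushMapAt f ξ.2 F x) := by
    intro ξ x
    obtain ⟨V, s, σ, rfl⟩ := exists_germ_eq η ((EtCoh.push f).obj F) x
    rw [stalk_map_germ, pushMapAt_germ, pushMapAt_germ, stalk_map_germ]
    rfl
  refine ⟨c, sub_eq_zero.1 (pushMapAt_injective f G _ fun ξ h => ?_)⟩
  rw [map_sub, nat ⟨ξ, h⟩, hca ⟨ξ, h⟩, ha ⟨ξ, h⟩, sub_self]

theorem point_over_algClosed {X : Scheme.{u}} (U : X.Etale) (x : U.left) :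
    ∃ (K : Type u) (_ : Field K) (_ : IsAlgClosed K) (η : Spec (CommRingCat.of K) ⟶ X)
      (t : Pt η U), hom η t default = x := by
  obtain ⟨K, _, _, l, hl⟩ := exists_gpt (V := U.left) x
  exact ⟨K, inferInstance, inferInstance, l ≫ U.hom, mkPt _ l rfl,
    (congrArg l (Subsingleton.elim _ _)).trans hl⟩

theorem epi_push_map_of_finite {F G : EtCoh.Ab X} (φ : F ⟶ G) [Epi φ] : Epi ((EtCoh.push f).map φ) := by
  let ψ := (EtCoh.push f).map φ
  have : Sheaf.IsLocallySurjective ψ := by
    refine ⟨fun {U} τ => mem_topology fun x => ?_⟩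
    obtain ⟨K, _, _, η, t, ht⟩ := point_over_algClosed U x
    obtain ⟨s, hs⟩ := stalk_push_map_surjective f η φ (germ η ((EtCoh.push f).obj G) t τ)
    obtain ⟨V, t', σ, rfl⟩ := exists_germ_eq η ((EtCoh.push f).obj F) s
    rw [stalk_map_germ] at hs
    obtain ⟨⟨W, w⟩, a, b, -⟩ := IsCofiltered.toIsCofilteredOrEmpty.cone_objs
      (C := (Scheme.pointSmallEtale η).fiber.Elements) ⟨U, t⟩ ⟨V, t'⟩
    have e : germ η ((EtCoh.push f).obj G) w (((EtCoh.push f).obj G).obj.map a.val.op τ -
        ψ.hom.app (op W) (((EtCoh.push f).obj F).obj.map b.val.op σ)) = 0 := by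
      rw [map_sub, germ_map, a.property, sub_eq_zero]
      have : ψ.hom.app (op W) (((EtCoh.push f).obj F).obj.map b.val.op σ) =
          ((EtCoh.push f).obj G).obj.map b.val.op (ψ.hom.app (op V) σ) :=
        NatTrans.naturality_apply ψ.hom b.val.op σ
      rw [this, germ_map, b.property, hs]
    obtain ⟨W', g, w', h1, h2⟩ := (germ_eq_zero_iff η ((EtCoh.push f).obj G) w _).1 e
    refine ⟨W', g ≫ a.val, hom η w' default,
      ⟨((EtCoh.push f).obj F).obj.map g.op (((EtCoh.push f).obj F).obj.map b.val.op σ), ?_⟩, ?_⟩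
    · rw [map_sub, sub_eq_zero] at h2
      rw [op_comp, Functor.map_comp, ConcreteCategory.comp_apply, h2]
      exact NatTrans.naturality_apply ψ.hom g.op _
    · exact ((congrArg (fun q => hom η q default)
        (congrArg ((Scheme.pointSmallEtale η).fiber.map a.val) h1)).trans
        (congrArg (fun q => hom η q default) a.property)).trans ht
  infer_instance

theorem preservesFiniteColimits_push_of_finite : PreservesFiniteColimits (EtCoh.push f) := by
  have := (EtCoh.pullPushAdj f).rightAdjoint_preservesLimits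
  refine (Functor.preservesFiniteColimits_iff_forall_exact_map_and_epi (EtCoh.push f)).2 fun S hS => ?_
  have := hS.epi_g
  exact ⟨((Functor.preservesFiniteLimits_iff_forall_exact_map_and_mono (EtCoh.push f)).1
    inferInstance S hS).1, epi_push_map_of_finite f S.g⟩

theorem isZero_Rpush_of_finite (F : EtCoh.Ab X) (q : ℕ) (hq : 1 ≤ q) :
    IsZero ((EtCoh.Rpush f q).obj F) := by
  obtain ⟨q, rfl⟩ := Nat.exists_eq_add_one.2 hq
  have := (EtCoh.pullPushAdj f).rightAdjoint_preservesLimits
  have : PreservesFiniteColimits (EtCoh.push f) := preservesFiniteColimits_push_of_finite f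
  let I := injectiveResolution F
  refine IsZero.of_iso ?_ (I.isoRightDerivedObj (EtCoh.push f) (q + 1))
  refine (HomologicalComplex.exactAt_iff_isZero_homology _ _).1 ?_
  exact (I.cocomplex_exactAt_succ q).map (EtCoh.push f)

end Groth.Agent.Unr55.EtSh
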