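import Groth.Agent.Unr55.Et.Push
import Groth.Agent.Ind91.Lift
import Mathlib.AlgebraicGeometry.Morphisms.ClosedImmersion
import Mathlib.AlgebraicGeometry.Pullbacks

/-!
Etale schemes lift locally along closed immersions.
-/

universe u

open CategoryTheory CategoryTheory.Limits AlgebraicGeometry Opposite

namespace Groth.Agent.Unr55.EtSh

set_option backward.isDefEq.respectTransparency.types false

theorem isPushout_of_surjective_ker {A W B : Type u} [CommRing A] [CommRing W] [CommRing B]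
    (I : Ideal A) (ψ : A →+* W) (π : W →+* B) (φ : A ⧸ I →+* B)
    (w : π.comp ψ = φ.comp (Ideal.Quotient.mk I)) (hπ : Function.Surjective π)
    (hker : RingHom.ker π = I.map ψ) :
    IsPushout (CommRingCat.ofHom ψ) (CommRingCat.ofHom (Ideal.Quotient.mk I))
      (CommRingCat.ofHom π) (CommRingCat.ofHom φ) := by
  have h : CommRingCat.ofHom ψ ≫ CommRingCat.ofHom π =
      CommRingCat.ofHom (Ideal.Quotient.mk I) ≫ CommRingCat.ofHom φ := CommRingCat.hom_ext w
  have hkill : ∀ s : PushoutCocone (CommRingCat.ofHom ψ) (CommRingCat.ofHom (Ideal.Quotient.mk I)),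
      RingHom.ker π ≤ RingHom.ker s.inl.hom := fun s => by
    rw [hker, Ideal.map_le_iff_le_comap]
    intro a ha
    have := congrArg (fun k => k.hom a) s.condition
    change s.inl.hom (ψ a) = 0
    refine (show s.inl.hom (ψ a) = s.inr.hom (Ideal.Quotient.mk I a) from this).trans ?_
    rw [Ideal.Quotient.eq_zero_iff_mem.2 ha, map_zero]
  refine IsPushout.of_isColimit' ⟨h⟩ (PushoutCocone.IsColimit.mk _
    (fun s => CommRingCat.ofHom (π.liftOfSurjective hπ ⟨s.inl.hom, hkill s⟩))
    (fun s => CommRingCat.hom_ext (RingHom.ext fun x => π.liftOfSurjective_comp_apply hπ ⟨s.inl.hom, hkill s⟩ x))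
    (fun s => ?_) (fun s m h₁ _ => ?_))
  · refine CommRingCat.hom_ext (RingHom.ext fun a => ?_)
    obtain ⟨a, rfl⟩ := Ideal.Quotient.mk_surjective a
    change π.liftOfSurjective hπ ⟨s.inl.hom, hkill s⟩ (φ (Ideal.Quotient.mk I a)) =
      s.inr.hom (Ideal.Quotient.mk I a)
    rw [← RingHom.comp_apply φ, ← w, RingHom.comp_apply, RingHom.liftOfSurjective_comp_apply]
    exact congrArg (fun k => k.hom a) s.condition
  · refine CommRingCat.hom_ext (RingHom.ext fun b => ?_)
    obtain ⟨x, rfl⟩ := hπ b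
    exact (congrArg (fun k => k.hom x) h₁).trans (π.liftOfSurjective_comp_apply hπ ⟨s.inl.hom, hkill s⟩ x).symm

/-- An etale scheme over a closed subscheme is, near any point, the trace of an etale scheme. -/
theorem exists_etale_lift_closed {Z X : Scheme.{u}} (i : Z ⟶ X) [IsClosedImmersion i]
    {U : Scheme.{u}} (p : U ⟶ Z) [Etale p] (x : U) :
    ∃ (V : Scheme.{u}) (q : V ⟶ X) (P : Scheme.{u}) (k : P ⟶ U) (a : P ⟶ V), Etale q ∧
      IsOpenImmersion k ∧ x ∈ Set.range k ∧ IsPullback a (k ≫ p) q i := by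
  obtain ⟨A, jA, hjA, hxA, -⟩ := AlgebraicGeometry.Scheme.exists_affine_mem_range_and_range_subset
    (x := i (p x)) (U := (⊤ : X.Opens)) trivial
  obtain ⟨I, e, he⟩ := IsClosedImmersion.Spec_iff.1 (inferInstance : IsClosedImmersion (pullback.snd i jA))
  let z : Spec (CommRingCat.of (A ⧸ I)) ⟶ Z := e.inv ≫ pullback.fst i jA
  have hz : IsPullback (Spec.map (CommRingCat.ofHom (Ideal.Quotient.mk I))) z jA i :=
    ((IsPullback.of_hasPullback i jA).flip).of_iso e (Iso.refl _) (Iso.refl _) (Iso.refl _)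
      (by simp [he]) (by simp [z]) (by simp) (by simp)
  obtain ⟨y, hy⟩ : p x ∈ Set.range z := by
    obtain ⟨a, ha⟩ := hxA
    obtain ⟨w, hw1, hw2⟩ := Scheme.Pullback.exists_preimage_pullback (f := i) (g := jA) (p x) a ha.symm
    refine ⟨e.hom w, ?_⟩
    change (e.hom ≫ z) w = p x
    simp [z, hw1]
  obtain ⟨u, hu1, -⟩ := Scheme.Pullback.exists_preimage_pullback (f := p) (g := z) x y hy.symm
  obtain ⟨B, jB, hjB, huB, -⟩ := AlgebraicGeometry.Scheme.exists_affine_mem_range_and_range_subset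
    (x := u) (U := (⊤ : (pullback p z).Opens)) trivial
  let c : Spec B ⟶ Spec (CommRingCat.of (A ⧸ I)) := jB ≫ pullback.snd p z
  have hc : Etale c := inferInstance
  obtain ⟨φ, hφ⟩ := Spec.map_surjective c
  have hφe : φ.hom.Etale := by
    rw [← hφ] at hc
    exact HasRingHomProperty.Spec_iff.1 hc
  let φ' : (A ⧸ I) →+* (B : Type u) := φ.hom
  letI : Algebra (A ⧸ I) B := φ'.toAlgebra
  letI : Algebra A B := (φ'.comp (Ideal.Quotient.mk I)).toAlgebra
  have : IsScalarTower A (A ⧸ I) B := IsScalarTower.of_algebraMap_eq fun _ => rfl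
  have : Algebra.Etale (A ⧸ I) B := hφe
  obtain ⟨W, _, _, π, hWe, hπs, hπk⟩ := Groth.Agent.Ind91.exists_etale_lift A I B
  let q : Spec (CommRingCat.of W) ⟶ X := Spec.map (CommRingCat.ofHom (algebraMap A W)) ≫ jA
  have : Etale (Spec.map (CommRingCat.ofHom (algebraMap A W))) :=
    HasRingHomProperty.Spec_iff.2 (RingHom.etale_algebraMap.2 hWe)
  have hq : Etale q := inferInstance
  have hpo : IsPushout (CommRingCat.ofHom (algebraMap A W)) (CommRingCat.ofHom (Ideal.Quotient.mk I))
      (CommRingCat.ofHom π.toRingHom) φ :=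
    isPushout_of_surjective_ker I (algebraMap A W) π.toRingHom φ' π.comp_algebraMap hπs hπk
  have hsq := ((isPullback_SpecMap_of_isPushout _ _ _ _ hpo).paste_vert hz)
  refine ⟨_, q, Spec B, jB ≫ pullback.fst p z, Spec.map (CommRingCat.ofHom π.toRingHom), hq,
    inferInstance, ?_, ?_⟩
  · obtain ⟨b, hb⟩ := huB
    exact ⟨b, by rw [Scheme.Hom.comp_apply, hb, hu1]⟩
  · have : (jB ≫ pullback.fst p z) ≫ p = Spec.map φ ≫ z := by
      rw [hφ, Category.assoc, pullback.condition]
      exact (Category.assoc _ _ _).symm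
    rw [this]
    exact hsq

variable {Z X : Scheme.{u}} (i : Z ⟶ X) [IsClosedImmersion i] {Ω : Type u} [Field Ω] [IsSepClosed Ω]

theorem dominated_of_isClosedImmersion (ξ : Spec (CommRingCat.of Ω) ⟶ Z) : Dominated i ξ := by
  intro U t
  have : Etale U.hom := U.prop
  obtain ⟨V, q, P, k, a, hq, hk, hx, hP⟩ := exists_etale_lift_closed i U.hom (hom ξ t default)
  let l : Spec (CommRingCat.of Ω) ⟶ P := IsOpenImmersion.lift k (hom ξ t) (by
    rintro _ ⟨b, rfl⟩
    rw [default_eq b]
    exact hx)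
  have hl : l ≫ k = hom ξ t := IsOpenImmersion.lift_fac _ _ _
  have ht : hom ξ t ≫ U.hom = ξ := Over.w t
  have hlξ : l ≫ k ≫ U.hom = ξ := by rw [← Category.assoc, hl, ht]
  let V' : X.Etale := Scheme.Etale.mk q
  let s : Pt (ξ ≫ i) V' := mkPt _ (l ≫ a) (by
    change (l ≫ a) ≫ q = ξ ≫ i
    rw [Category.assoc, hP.w, ← Category.assoc, hlξ])
  let g : (EtCoh.bc i).obj V' ⟶ U := MorphismProperty.Over.homMk (hP.isoPullback.inv ≫ k) (by
    change (hP.isoPullback.inv ≫ k) ≫ U.hom = pullback.snd q i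
    rw [Category.assoc, IsPullback.isoPullback_inv_snd]) trivial
  refine ⟨V', s, g, hom_ext _ ?_⟩
  have w : (l ≫ a) ≫ q = ξ ≫ i := Over.w s
  have e : pullback.lift (l ≫ a) ξ w = l ≫ hP.isoPullback.hom := by
    refine pullback.hom_ext ?_ ?_
    · rw [pullback.lift_fst, Category.assoc, IsPullback.isoPullback_hom_fst]
    · rw [pullback.lift_snd, Category.assoc, IsPullback.isoPullback_hom_snd, hlξ]
  change pullback.lift (l ≫ a) ξ w ≫ hP.isoPullback.inv ≫ k = hom ξ t
  rw [e, Category.assoc, Iso.hom_inv_id_assoc, hl]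

/-- Stalks of direct images along closed immersions. -/
theorem pushStalkMap_bijective_closed (ξ : Spec (CommRingCat.of Ω) ⟶ Z) (G : EtCoh.Ab Z) :
    Function.Bijective (pushStalkMap i ξ G) :=
  pushStalkMap_bijective i ξ (dominated_of_isClosedImmersion i ξ) (openRefined_of_isClosedImmersion i ξ) G

omit [IsSepClosed Ω] in
theorem exists_point_lift (η : Spec (CommRingCat.of Ω) ⟶ X) (h : η default ∈ Set.range i) :
    ∃ ξ : Spec (CommRingCat.of Ω) ⟶ Z, ξ ≫ i = η := by
  obtain ⟨z, hz⟩ := h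
  obtain ⟨w, -, -⟩ := Scheme.Pullback.exists_preimage_pullback (f := η) (g := i) default z hz.symm
  have : Surjective (pullback.fst η i) := ⟨fun b => ⟨w, Subsingleton.elim _ b⟩⟩
  have := isIso_of_isClosedImmersion_of_surjective (pullback.fst η i)
  refine ⟨inv (pullback.fst η i) ≫ pullback.snd η i, ?_⟩
  rw [Category.assoc, ← pullback.condition, IsIso.inv_hom_id_assoc]

end Groth.Agent.Unr55.EtSh
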