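import Groth.Agent.Unr55.Et.Stalk
import Mathlib.CategoryTheory.Sites.Point.Comap

/-!
Stalks of inverse images of etale sheaves.
-/

universe u

open CategoryTheory CategoryTheory.Limits AlgebraicGeometry Opposite

namespace Groth.Agent.Unr55.EtSh

variable {X Y : Scheme.{u}} (f : X ⟶ Y) {Ω : Type u} [Field Ω] [IsSepClosed Ω]
  (ξ : Spec (CommRingCat.of Ω) ⟶ X)

set_option backward.isDefEq.respectTransparency.types false in
/-- Image of a neighbourhood in the base-changed scheme. -/
noncomputable def ptDown {V : Y.Etale} (t : Pt ξ ((EtCoh.bc f).obj V)) : Pt (ξ ≫ f) V :=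
  mkPt _ (hom ξ t ≫ pullback.fst V.hom f) (by
    have h : hom ξ t ≫ pullback.snd V.hom f = ξ := Over.w t
    exact (Category.assoc _ _ _).trans ((congrArg (hom ξ t ≫ ·) pullback.condition).trans
      ((Category.assoc _ _ _).symm.trans (congrArg (· ≫ f) h))))

set_option backward.isDefEq.respectTransparency.types false in
/-- Lift of a neighbourhood to the base-changed scheme. -/
noncomputable def ptUp {V : Y.Etale} (t : Pt (ξ ≫ f) V) : Pt ξ ((EtCoh.bc f).obj V) :=
  mkPt _ (pullback.lift (hom _ t) ξ (Over.w t)) (pullback.lift_snd _ _ _)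

theorem hom_ext {U : X.Etale} {t t' : Pt ξ U} (h : hom ξ t = hom ξ t') : t = t' :=
  Over.OverMorphism.ext h

set_option backward.isDefEq.respectTransparency.types false in
theorem ptDown_ptUp {V : Y.Etale} (t : Pt (ξ ≫ f) V) : ptDown f ξ (ptUp f ξ t) = t :=
  hom_ext _ (pullback.lift_fst _ _ _)

set_option backward.isDefEq.respectTransparency.types false in
theorem ptUp_ptDown {V : Y.Etale} (t : Pt ξ ((EtCoh.bc f).obj V)) : ptUp f ξ (ptDown f ξ t) = t := by
  refine hom_ext _ (pullback.hom_ext ?_ ?_)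
  · exact pullback.lift_fst _ _ _
  · exact (pullback.lift_snd _ _ _).trans (Over.w t).symm

set_option backward.isDefEq.respectTransparency.types false in
theorem ptDown_map {V W : Y.Etale} (g : V ⟶ W) (t : Pt ξ ((EtCoh.bc f).obj V)) :
    ptDown f ξ ((Scheme.pointSmallEtale ξ).fiber.map ((EtCoh.bc f).map g) t) =
      (Scheme.pointSmallEtale (ξ ≫ f)).fiber.map g (ptDown f ξ t) :=
  hom_ext _ ((Category.assoc _ _ _).trans
    ((congrArg (hom ξ t ≫ ·) (EtCoh.isPullback_bc_map f g).w).trans (Category.assoc _ _ _).symm))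

/-- Lifting neighbourhoods is a bijection. -/
noncomputable def ptEquiv (V : Y.Etale) : Pt ξ ((EtCoh.bc f).obj V) ≃ Pt (ξ ≫ f) V where
  toFun := ptDown f ξ
  invFun := ptUp f ξ
  left_inv := ptUp_ptDown f ξ
  right_inv := ptDown_ptUp f ξ

set_option backward.isDefEq.respectTransparency.types false in
/-- Fibre functors of image points. -/
noncomputable def fiberIso : EtCoh.bc f ⋙ (Scheme.pointSmallEtale ξ).fiber ≅
    (Scheme.pointSmallEtale (ξ ≫ f)).fiber :=
  NatIso.ofComponents (fun V => Equiv.toIso (ptEquiv f ξ V))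
    (fun g => ConcreteCategory.hom_ext _ _ fun t => ptDown_map f ξ g t)

theorem ptUp_map {V W : Y.Etale} (g : V ⟶ W) (t : Pt (ξ ≫ f) V) :
    ptUp f ξ ((Scheme.pointSmallEtale (ξ ≫ f)).fiber.map g t) =
      (Scheme.pointSmallEtale ξ).fiber.map ((EtCoh.bc f).map g) (ptUp f ξ t) :=
  (ptEquiv f ξ W).injective (((ptDown_ptUp f ξ _).trans
    (congrArg ((Scheme.pointSmallEtale (ξ ≫ f)).fiber.map g) (ptDown_ptUp f ξ t).symm)).trans
      (ptDown_map f ξ g (ptUp f ξ t)).symm)

/-- Natural isomorphisms of functors to types give equivalences of categories of elements. -/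
theorem initiallySmall_elements_of_iso {C : Type*} [Category C] {F G : C ⥤ Type u} (e : F ≅ G)
    [InitiallySmall.{u} G.Elements] : InitiallySmall.{u} F.Elements := by
  have h1 : ∀ x : F.Elements, (CategoryOfElements.map e.inv).obj
      ((CategoryOfElements.map e.hom).obj x) = x := fun ⟨c, x⟩ => by
    refine Sigma.ext rfl (heq_of_eq ?_)
    exact e.hom_inv_id_app_apply c x
  let A := CategoryOfElements.map e.inv
  have : A.Faithful := ⟨fun h => by
    have h' := congrArg Subtype.val h
    exact Subtype.ext h'⟩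
  have : A.Full := ⟨fun {x y} g => ⟨CategoryOfElements.homMk x y g.val (by
    have h := g.property
    have h2 := congrArg (e.hom.app y.1) h
    have n := e.hom.naturality_apply g.val ((A.obj x).2)
    exact (congrArg (G.map g.val) (e.inv_hom_id_app_apply x.1 x.2)).symm.trans
      (n.symm.trans (h2.trans (e.inv_hom_id_app_apply y.1 y.2)))), rfl⟩⟩
  have : A.EssSurj := ⟨fun x => ⟨_, ⟨eqToIso (h1 x)⟩⟩⟩
  have : A.IsEquivalence := { }
  exact initiallySmall_of_initial_of_initiallySmall A

instance initiallySmall_bc_fiber :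
    InitiallySmall.{u} (EtCoh.bc f ⋙ (Scheme.pointSmallEtale ξ).fiber).Elements :=
  initiallySmall_elements_of_iso (fiberIso f ξ)

/-- The stalk of an inverse image is the stalk at the image point. -/
noncomputable def stalkPullIso : EtCoh.pull f ⋙ EtCoh.stalk ξ ≅ EtCoh.stalk (ξ ≫ f) := by
  let Ψ := (Scheme.pointSmallEtale ξ).comap (EtCoh.bc f) (EtCoh.coverPreserving_bc f)
  let α : Ψ ⟶ Scheme.pointSmallEtale (ξ ≫ f) := ⟨(fiberIso f ξ).inv⟩
  let β : Scheme.pointSmallEtale (ξ ≫ f) ⟶ Ψ := ⟨(fiberIso f ξ).hom⟩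
  have hαβ : α ≫ β = 𝟙 _ := GrothendieckTopology.Point.hom_ext (fiberIso f ξ).hom_inv_id
  have hβα : β ≫ α = 𝟙 _ := GrothendieckTopology.Point.hom_ext (fiberIso f ξ).inv_hom_id
  exact ((Scheme.pointSmallEtale ξ).sheafFiberComapIso (EtCoh.bc f) (EtCoh.coverPreserving_bc f)
      AddCommGrpCat.{u + 1}).symm ≪≫
    { hom := β.sheafFiber
      inv := α.sheafFiber
      hom_inv_id := by
        rw [← GrothendieckTopology.Point.Hom.sheafFiber_comp, hαβ,
          GrothendieckTopology.Point.Hom.sheafFiber_id]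
      inv_hom_id := by
        rw [← GrothendieckTopology.Point.Hom.sheafFiber_comp, hβα,
          GrothendieckTopology.Point.Hom.sheafFiber_id] }

end Groth.Agent.Unr55.EtSh
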