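import Groth.Agent.Unr55.Et.Push
import Groth.Agent.Unr55.Et.PullExact

/-!
Unit and counit of the inverse / direct image adjunction on stalks.
-/

universe u

open CategoryTheory CategoryTheory.Limits AlgebraicGeometry Opposite

namespace Groth.Agent.Unr55.EtSh

set_option backward.isDefEq.respectTransparency.types false

variable {X Y : Scheme.{u}} (f : X ⟶ Y) {Ω : Type u} [Field Ω] [IsSepClosed Ω]
  (ξ : Spec (CommRingCat.of Ω) ⟶ X)

/-- The canonical map from a stalk to the stalk of the inverse image. -/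
noncomputable def theta (F : EtCoh.Ab Y) :
    (EtCoh.stalk (ξ ≫ f)).obj F ⟶ (EtCoh.stalk ξ).obj ((EtCoh.pull f).obj F) :=
  (EtCoh.stalk (ξ ≫ f)).map ((EtCoh.pullPushAdj f).unit.app F) ≫
    pushStalkMap f ξ ((EtCoh.pull f).obj F)

theorem theta_germ (F : EtCoh.Ab Y) {V : Y.Etale} (s : Pt (ξ ≫ f) V) (σ : EtCoh.sect F V) :
    theta f ξ F (germ (ξ ≫ f) F s σ) = germ ξ ((EtCoh.pull f).obj F) (ptUp f ξ s)
      (((EtCoh.pullPushAdj f).unit.app F).hom.app (op V) σ) := by
  refine (congrArg (pushStalkMap f ξ ((EtCoh.pull f).obj F))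
    (stalk_map_germ (ξ ≫ f) ((EtCoh.pullPushAdj f).unit.app F) s σ)).trans ?_
  exact pushStalkMap_germ f ξ _ s _

theorem theta_cancel (F : EtCoh.Ab Y) {M : AddCommGrpCat.{u + 1}}
    {h₁ h₂ : (EtCoh.stalk ξ).obj ((EtCoh.pull f).obj F) ⟶ M}
    (h : theta f ξ F ≫ h₁ = theta f ξ F ≫ h₂) : h₁ = h₂ := by
  let Φ := Scheme.pointSmallEtale ξ
  apply (Φ.skyscraperSheafAdjunction.homEquiv ((EtCoh.pull f).obj F) M).injective
  apply ((EtCoh.pullPushAdj f).homEquiv F (Φ.skyscraperSheaf M)).injective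
  have key : ∀ (k : (EtCoh.stalk ξ).obj ((EtCoh.pull f).obj F) ⟶ M) (V : Y.Etale)
      (t : Pt ξ ((EtCoh.bc f).obj V)) (σ : EtCoh.sect F V),
      Pi.π (fun _ : Pt ξ ((EtCoh.bc f).obj V) => M) t
        ((((EtCoh.pullPushAdj f).homEquiv F (Φ.skyscraperSheaf M))
          ((Φ.skyscraperSheafAdjunction.homEquiv ((EtCoh.pull f).obj F) M) k)).hom.app (op V) σ) =
      k (theta f ξ F (germ (ξ ≫ f) F (ptDown f ξ t) σ)) := by
    intro k V t σ
    rw [theta_germ, ptUp_ptDown, Adjunction.homEquiv_unit]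
    have h1 := Φ.skyscraperSheafAdjunction_homEquiv_apply_hom (F := (EtCoh.pull f).obj F) (M := M) k
    have h2 : ((Φ.skyscraperSheafAdjunction.homEquiv ((EtCoh.pull f).obj F) M) k).hom.app
        (op ((EtCoh.bc f).obj V)) ≫ Pi.π (fun _ : Pt ξ ((EtCoh.bc f).obj V) => M) t =
        Φ.toPresheafFiber ((EtCoh.bc f).obj V) t ((EtCoh.pull f).obj F).obj ≫ k := by
      exact (congrArg (fun (N : _ ⟶ Φ.skyscraperPresheaf M) =>
        N.app (op ((EtCoh.bc f).obj V)) ≫ Pi.π (fun _ : Pt ξ ((EtCoh.bc f).obj V) => M) t) h1).trans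
        (Φ.skyscraperPresheafHomEquiv_app_π k _ t)
    exact ConcreteCategory.congr_hom h2 (((EtCoh.pullPushAdj f).unit.app F).hom.app (op V) σ)
  refine ObjectProperty.hom_ext _ (NatTrans.ext (funext fun V => ?_))
  refine Pi.hom_ext _ _ fun t => ConcreteCategory.hom_ext _ _ fun σ => ?_
  rw [ConcreteCategory.comp_apply, ConcreteCategory.comp_apply]
  exact (key h₁ V.unop t σ).trans
    ((ConcreteCategory.congr_hom h (germ (ξ ≫ f) F (ptDown f ξ t) σ)).trans (key h₂ V.unop t σ).symm)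

theorem exists_theta_retraction (F : EtCoh.Ab Y) :
    ∃ r : (EtCoh.stalk ξ).obj ((EtCoh.pull f).obj F) ⟶ (EtCoh.stalk (ξ ≫ f)).obj F,
      theta f ξ F ≫ r = 𝟙 _ := by
  let Φ := Scheme.pointSmallEtale ξ
  let M := (EtCoh.stalk (ξ ≫ f)).obj F
  let φ := toPushSky f ξ F
  let ψ := ((EtCoh.pullPushAdj f).homEquiv F (Φ.skyscraperSheaf M)).symm φ
  let r := (Φ.skyscraperSheafAdjunction.homEquiv ((EtCoh.pull f).obj F) M).symm ψ
  refine ⟨r, ConcreteCategory.hom_ext _ _ fun a => ?_⟩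
  obtain ⟨V, s, σ, rfl⟩ := exists_germ_eq (ξ ≫ f) F a
  rw [ConcreteCategory.comp_apply, theta_germ]
  have h : (EtCoh.pullPushAdj f).unit.app F ≫ (EtCoh.push f).map ψ = φ :=
    ((EtCoh.pullPushAdj f).homEquiv_unit _ _ ψ).symm.trans (Equiv.apply_symm_apply _ _)
  have hr : Φ.toPresheafFiber ((EtCoh.bc f).obj V) (ptUp f ξ s) ((EtCoh.pull f).obj F).obj ≫ r =
      ψ.hom.app (op ((EtCoh.bc f).obj V)) ≫
        Pi.π (fun _ : Pt ξ ((EtCoh.bc f).obj V) => M) (ptUp f ξ s) :=
    (congrArg (Φ.toPresheafFiber ((EtCoh.bc f).obj V) (ptUp f ξ s) ((EtCoh.pull f).obj F).obj ≫ ·)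
      (Φ.skyscraperSheafAdjunction_homEquiv_symm_apply ψ)).trans
      (Φ.toPresheafFiber_skyscraperPresheafHomEquiv_symm ψ.hom _ _)
  refine (ConcreteCategory.congr_hom hr (((EtCoh.pullPushAdj f).unit.app F).hom.app (op V) σ)).trans ?_
  have h' : φ.hom.app (op V) ≫ Pi.π (fun _ : Pt ξ ((EtCoh.bc f).obj V) => M) (ptUp f ξ s) =
      (Scheme.pointSmallEtale (ξ ≫ f)).toPresheafFiber V (ptDown f ξ (ptUp f ξ s)) F.obj :=
    Pi.lift_π _ _
  rw [← h, ptDown_ptUp] at h'
  exact ConcreteCategory.congr_hom h' σ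

theorem theta_bijective (F : EtCoh.Ab Y) : Function.Bijective (theta f ξ F) := by
  obtain ⟨r, hr⟩ := exists_theta_retraction f ξ F
  have hr' : r ≫ theta f ξ F = 𝟙 _ := theta_cancel f ξ F
    ((Category.assoc _ _ _).symm.trans (((congrArg (· ≫ theta f ξ F) hr).trans
      (Category.id_comp _)).trans (Category.comp_id _).symm))
  exact Function.bijective_iff_has_inverse.2
    ⟨r, fun a => ConcreteCategory.congr_hom hr a, fun a => ConcreteCategory.congr_hom hr' a⟩

/-- On a point where `pushStalkMap` is bijective, so is the counit. -/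
theorem counit_stalk_bijective (G : EtCoh.Ab X)
    (h : Function.Bijective (pushStalkMap f ξ G)) :
    Function.Bijective ((EtCoh.stalk ξ).map ((EtCoh.pullPushAdj f).counit.app G)) := by
  have e : ∀ a, (EtCoh.stalk ξ).map ((EtCoh.pullPushAdj f).counit.app G)
      (theta f ξ ((EtCoh.push f).obj G) a) = pushStalkMap f ξ G a := by
    intro a
    obtain ⟨V, s, σ, rfl⟩ := exists_germ_eq (ξ ≫ f) ((EtCoh.push f).obj G) a
    refine (congrArg ((EtCoh.stalk ξ).map _) (theta_germ f ξ ((EtCoh.push f).obj G) s σ)).trans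
      ((stalk_map_germ ξ _ (ptUp f ξ s) _).trans (Eq.trans ?_ (pushStalkMap_germ f ξ G s σ).symm))
    exact congrArg (germ ξ G (ptUp f ξ s)) (ConcreteCategory.congr_hom (congrArg (fun k => k.hom.app (op V))
      ((EtCoh.pullPushAdj f).right_triangle_components G)) σ)
  refine (Function.Bijective.of_comp_iff _ (theta_bijective f ξ ((EtCoh.push f).obj G))).1 ?_
  exact (congrArg Function.Bijective (funext e : _ = ⇑(pushStalkMap f ξ G))).mpr h

/-- On a point where `pushStalkMap` is bijective, so is the unit. -/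
theorem unit_stalk_bijective (F : EtCoh.Ab Y)
    (h : Function.Bijective (pushStalkMap f ξ ((EtCoh.pull f).obj F))) :
    Function.Bijective ((EtCoh.stalk (ξ ≫ f)).map ((EtCoh.pullPushAdj f).unit.app F)) :=
  (Function.Bijective.of_comp_iff' h _).1 (theta_bijective f ξ F)

/-- Equal stalk maps after direct image give equal stalk maps. -/
theorem stalk_map_eq_of_push_map_eq {F G : EtCoh.Ab X} (α β : F ⟶ G)
    (h : (EtCoh.push f).map α = (EtCoh.push f).map β) (hs : Function.Surjective (pushStalkMap f ξ F)) :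
    ∀ a, (EtCoh.stalk ξ).map α a = (EtCoh.stalk ξ).map β a := by
  intro a
  obtain ⟨b, rfl⟩ := hs a
  obtain ⟨V, s, σ, rfl⟩ := exists_germ_eq (ξ ≫ f) ((EtCoh.push f).obj F) b
  rw [pushStalkMap_germ, stalk_map_germ, stalk_map_germ]
  congr 1
  exact ConcreteCategory.congr_hom (congrArg (fun k => k.hom.app (op V)) h) σ

end Groth.Agent.Unr55.EtSh
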