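import Groth.Agent.Unr55.Et.Lift
import Groth.Agent.Unr55.Et.Unit

/-!
Direct image along closed immersions: fully faithful, essential image.
-/

universe u

open CategoryTheory CategoryTheory.Limits AlgebraicGeometry Opposite

namespace Groth.Agent.Unr55.EtSh

set_option backward.isDefEq.respectTransparency.types false

variable {Z X : Scheme.{u}} (i : Z ⟶ X) [IsClosedImmersion i]

theorem isIso_counit_closed (G : EtCoh.Ab Z) : IsIso ((EtCoh.pullPushAdj i).counit.app G) :=
  isIso_of_stalks _ fun K _ _ ξ => counit_stalk_bijective i ξ G (pushStalkMap_bijective_closed i ξ G)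

theorem push_closed_full_faithful : (EtCoh.push i).Full ∧ (EtCoh.push i).Faithful := by
  have : ∀ G, IsIso ((EtCoh.pullPushAdj i).counit.app G) := isIso_counit_closed i
  have : IsIso (EtCoh.pullPushAdj i).counit := NatIso.isIso_of_isIso_app _
  exact ⟨(EtCoh.pullPushAdj i).fullyFaithfulROfIsIsoCounit.full,
    (EtCoh.pullPushAdj i).fullyFaithfulROfIsIsoCounit.faithful⟩

omit [IsClosedImmersion i] in
theorem isEmpty_bc_of_disjoint {U : X.Etale} (h : Disjoint (Set.range U.hom) (Set.range i)) :
    IsEmpty ((EtCoh.bc i).obj U).left := by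
  refine ⟨fun p => ?_⟩
  let p' : (pullback U.hom i : Scheme.{u}) := p
  have h1 : (pullback.fst U.hom i ≫ U.hom) p' = (pullback.snd U.hom i ≫ i) p' := by
    rw [pullback.condition]
  exact Set.disjoint_left.1 h ⟨_, h1⟩ ⟨_, rfl⟩

theorem essImage_push_closed (F : EtCoh.Ab X) :
    (EtCoh.push i).essImage F ↔
      ∀ U : X.Etale, Disjoint (Set.range U.hom.base) (Set.range i.base) → IsZero (F.obj.obj (op U)) := by
  constructor
  · rintro ⟨G, ⟨e⟩⟩ U hU
    have := isEmpty_bc_of_disjoint i hU
    have hz : IsZero (((EtCoh.push i).obj G).obj.obj (op U)) :=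
      @AddCommGrpCat.isZero_of_subsingleton _ (subsingleton_of_forall_eq 0 fun σ =>
        sect_eq_zero_of_isEmpty G σ)
    exact hz.of_iso (((sheafToPresheaf _ _).mapIso e).app (op U)).symm
  · intro h
    suffices IsIso ((EtCoh.pullPushAdj i).unit.app F) from
      ⟨_, ⟨(asIso ((EtCoh.pullPushAdj i).unit.app F)).symm⟩⟩
    refine isIso_of_stalks _ fun K _ _ η => ?_
    by_cases hη : η default ∈ Set.range i
    · obtain ⟨ξ, rfl⟩ := exists_point_lift i η hη
      exact unit_stalk_bijective i ξ F (pushStalkMap_bijective_closed i ξ _)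
    · have h1 : IsZero ((EtCoh.stalk η).obj F) := by
        refine (isZero_stalk_iff η F).2 fun U t σ => ?_
        let O : U.left.Opens := U.hom ⁻¹ᵁ ⟨(Set.range i)ᶜ, i.isClosedEmbedding.isClosed_range.isOpen_compl⟩
        have ht : hom η t default ∈ O := by
          have e : hom η t ≫ U.hom = η := Over.w t
          change U.hom (hom η t default) ∉ Set.range i
          rw [← Scheme.Hom.comp_apply, e]
          exact hη
        have hd : Disjoint (Set.range (openSub U O).hom) (Set.range i) := by
          refine Set.disjoint_left.2 ?_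
          rintro _ ⟨q, rfl⟩
          let q' : O.toScheme := q
          exact (O.range_ι.le ⟨q', rfl⟩ : O.ι q' ∈ O)
        have := AddCommGrpCat.subsingleton_of_isZero (h (openSub U O) hd)
        exact ⟨_, openSubι U O, ptOpen O t ht, map_ptOpen O t ht, Subsingleton.elim _ _⟩
      have h2 : IsZero ((EtCoh.stalk η).obj ((EtCoh.push i).obj ((EtCoh.pull i).obj F))) :=
        isZero_stalk_push_of_disjoint i _ η i.isClosedEmbedding.isClosed_range hη
      exact ⟨fun a b _ => (AddCommGrpCat.subsingleton_of_isZero h1).elim a b,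
        fun b => ⟨0, (AddCommGrpCat.subsingleton_of_isZero h2).elim _ b⟩⟩

end Groth.Agent.Unr55.EtSh
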