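import Groth.Agent.Unr55.Et.Open
import Groth.Agent.Unr55.Et.Pull

/-!
Stalks of direct images: the canonical map and a bijectivity criterion.
-/

universe u

open CategoryTheory CategoryTheory.Limits AlgebraicGeometry Opposite

namespace Groth.Agent.Unr55.EtSh

set_option backward.isDefEq.respectTransparency.types false

variable {X Y : Scheme.{u}} (f : X ⟶ Y) {Ω : Type u} [Field Ω] [IsSepClosed Ω]
  (ξ : Spec (CommRingCat.of Ω) ⟶ X)

/-- The canonical map from the stalk of a direct image. -/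
noncomputable def pushStalkMap (F : EtCoh.Ab X) :
    (EtCoh.stalk (ξ ≫ f)).obj ((EtCoh.push f).obj F) ⟶ (EtCoh.stalk ξ).obj F :=
  (Scheme.pointSmallEtale (ξ ≫ f)).presheafFiberDesc (P := ((EtCoh.push f).obj F).obj)
    (fun V s => (Scheme.pointSmallEtale ξ).toPresheafFiber ((EtCoh.bc f).obj V) (ptUp f ξ s) F.obj)
    (fun V W g s => by
      refine ((Scheme.pointSmallEtale ξ).toPresheafFiber_w ((EtCoh.bc f).map g) (ptUp f ξ s) F.obj).trans ?_
      rw [ptUp_map])

theorem pushStalkMap_germ (F : EtCoh.Ab X) {V : Y.Etale} (s : Pt (ξ ≫ f) V)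
    (σ : EtCoh.sect F ((EtCoh.bc f).obj V)) :
    pushStalkMap f ξ F (germ (ξ ≫ f) ((EtCoh.push f).obj F) s σ) = germ ξ F (ptUp f ξ s) σ :=
  ConcreteCategory.congr_hom ((Scheme.pointSmallEtale (ξ ≫ f)).toPresheafFiber_presheafFiberDesc
    (P := ((EtCoh.push f).obj F).obj) (fun V s =>
      (Scheme.pointSmallEtale ξ).toPresheafFiber ((EtCoh.bc f).obj V) (ptUp f ξ s) F.obj) _ V s) σ

/-- Neighbourhoods pulled back from the target are cofinal. -/
def Dominated : Prop :=
  ∀ (U : X.Etale) (t : Pt ξ U), ∃ (V : Y.Etale) (s : Pt (ξ ≫ f) V) (g : (EtCoh.bc f).obj V ⟶ U),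
    (Scheme.pointSmallEtale ξ).fiber.map g (ptUp f ξ s) = t

/-- Open neighbourhoods in pulled back neighbourhoods come from the target. -/
def OpenRefined : Prop :=
  ∀ (V : Y.Etale) (s : Pt (ξ ≫ f) V) (O : ((EtCoh.bc f).obj V).left.Opens),
    hom ξ (ptUp f ξ s) default ∈ O → ∃ (V' : Y.Etale) (h : V' ⟶ V) (s' : Pt (ξ ≫ f) V'),
      (Scheme.pointSmallEtale (ξ ≫ f)).fiber.map h s' = s ∧
        Set.range ((EtCoh.bc f).map h).left ⊆ (O : Set ((EtCoh.bc f).obj V).left)

theorem pushStalkMap_bijective (hd : Dominated f ξ) (ho : OpenRefined f ξ) (F : EtCoh.Ab X) :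
    Function.Bijective (pushStalkMap f ξ F) := by
  constructor
  · refine (injective_iff_map_eq_zero (pushStalkMap f ξ F).hom).2 fun a ha => ?_
    obtain ⟨V, s, σ, rfl⟩ := exists_germ_eq (ξ ≫ f) ((EtCoh.push f).obj F) a
    obtain ⟨U, g, t, h1, h2⟩ := (germ_eq_zero_iff ξ F (ptUp f ξ s) σ).1
      ((pushStalkMap_germ f ξ F s σ).symm.trans ha)
    have hmem : hom ξ (ptUp f ξ s) default ∈ vanishing F σ :=
      range_le_vanishing F σ g h2 ⟨hom ξ t default, congrArg (fun q => hom ξ q default) h1⟩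
    obtain ⟨V', h, s', hs', hr⟩ := ho V s _ hmem
    exact (germ_eq_zero_iff (ξ ≫ f) ((EtCoh.push f).obj F) s σ).2
      ⟨V', h, s', hs', (map_eq_zero_iff_range_le F σ _).2 hr⟩
  · intro a
    obtain ⟨U, t, τ, rfl⟩ := exists_germ_eq ξ F a
    obtain ⟨V, s, g, hg⟩ := hd U t
    refine ⟨germ (ξ ≫ f) ((EtCoh.push f).obj F) s (F.obj.map g.op τ), ?_⟩
    rw [pushStalkMap_germ, germ_map, hg]

/-- The stalk of a direct image, when the neighbourhoods are cofinal. -/
noncomputable def pushStalkIso (hd : Dominated f ξ) (ho : OpenRefined f ξ) (F : EtCoh.Ab X) :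
    (EtCoh.stalk (ξ ≫ f)).obj ((EtCoh.push f).obj F) ≅ (EtCoh.stalk ξ).obj F :=
  haveI : IsIso (pushStalkMap f ξ F) :=
    (ConcreteCategory.isIso_iff_bijective _).2 (pushStalkMap_bijective f ξ hd ho F)
  asIso (pushStalkMap f ξ F)

/-- The stalk of a direct image at a geometric point outside the image of a closed map is zero. -/
theorem isZero_stalk_push_of_disjoint (F : EtCoh.Ab X) (η : Spec (CommRingCat.of Ω) ⟶ Y)
    (hf : IsClosed (Set.range f)) (hη : η default ∉ Set.range f) :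
    IsZero ((EtCoh.stalk η).obj ((EtCoh.push f).obj F)) := by
  refine (isZero_stalk_iff η _).2 fun V s σ => ?_
  let O : V.left.Opens := V.hom ⁻¹ᵁ ⟨(Set.range f)ᶜ, hf.isOpen_compl⟩
  have hs : hom η s default ∈ O := by
    have h : hom η s ≫ V.hom = η := Over.w s
    change V.hom (hom η s default) ∉ Set.range f
    rw [← Scheme.Hom.comp_apply, h]
    exact hη
  refine ⟨_, openSubι V O, ptOpen O s hs, map_ptOpen O s hs, ?_⟩
  have : IsEmpty ((EtCoh.bc f).obj (openSub V O)).left := ⟨fun p => by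
    let p' : (pullback (openSub V O).hom f : Scheme.{u}) := p
    have h1 : (pullback.fst (openSub V O).hom f ≫ (openSub V O).hom) p' =
        (pullback.snd (openSub V O).hom f ≫ f) p' := by rw [pullback.condition]
    let q : O.toScheme := pullback.fst (openSub V O).hom f p'
    exact (show O.ι q ∈ O from O.range_ι.le ⟨q, rfl⟩) ⟨_, h1.symm⟩⟩
  exact sect_eq_zero_of_isEmpty F _

theorem dominated_of_isOpenImmersion [IsOpenImmersion f] : Dominated f ξ := by
  intro U t
  have : Etale U.hom := U.prop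
  let V : Y.Etale := Scheme.Etale.mk (U.hom ≫ f)
  have w : hom ξ t ≫ V.hom = ξ ≫ f := by
    have h : hom ξ t ≫ U.hom = ξ := Over.w t
    exact (Category.assoc _ _ _).symm.trans (congrArg (· ≫ f) h)
  let g : (EtCoh.bc f).obj V ⟶ U := MorphismProperty.Over.homMk (pullback.fst V.hom f) (by
    refine (cancel_mono f).1 ((Category.assoc _ _ _).trans ?_)
    exact pullback.condition) trivial
  exact ⟨V, mkPt _ (hom ξ t) w, g, hom_ext _ (pullback.lift_fst _ _ _)⟩

theorem openRefined_of_isInducing (hf : ∀ V : Y.Etale, ∀ O : ((EtCoh.bc f).obj V).left.Opens,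
    ∃ W : V.left.Opens, (O : Set ((EtCoh.bc f).obj V).left) = pullback.fst V.hom f ⁻¹' (W : Set V.left)) :
    OpenRefined f ξ := by
  intro V s O hO
  obtain ⟨W, hW⟩ := hf V O
  have hs : hom (ξ ≫ f) s default ∈ W := by
    have h := hW.le hO
    have e : hom ξ (ptUp f ξ s) ≫ pullback.fst V.hom f = hom (ξ ≫ f) s := pullback.lift_fst _ _ _
    rw [← e]
    exact h
  refine ⟨_, openSubι V W, ptOpen W s hs, map_ptOpen W s hs, ?_⟩
  rintro _ ⟨p, rfl⟩
  refine hW.ge ?_
  have e : ((EtCoh.bc f).map (openSubι V W)).left ≫ pullback.fst V.hom f =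
      pullback.fst (openSub V W).hom f ≫ W.ι := (EtCoh.isPullback_bc_map f (openSubι V W)).w
  change (((EtCoh.bc f).map (openSubι V W)).left ≫ pullback.fst V.hom f) p ∈ W
  rw [e]
  exact W.range_ι.le ⟨_, rfl⟩

theorem openRefined_of_isEmbedding (hf : ∀ V : Y.Etale, Topology.IsInducing (pullback.fst V.hom f)) :
    OpenRefined f ξ :=
  openRefined_of_isInducing f ξ fun V O => by
    obtain ⟨W, hW, e⟩ := (hf V).isOpen_iff.1 O.2
    exact ⟨⟨W, hW⟩, e.symm⟩

theorem openRefined_of_isOpenImmersion [IsOpenImmersion f] : OpenRefined f ξ :=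
  openRefined_of_isEmbedding f ξ fun V => (pullback.fst V.hom f).isOpenEmbedding.isInducing

theorem openRefined_of_isClosedImmersion [IsClosedImmersion f] : OpenRefined f ξ :=
  openRefined_of_isEmbedding f ξ fun V =>
    (pullback.fst V.hom f).isClosedEmbedding.isInducing

end Groth.Agent.Unr55.EtSh
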