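import Groth.Agent.Unr55.Et.FiniteSplit
import Groth.Agent.Unr55.Et.Push

/-!
Stalks of direct images along finite morphisms.
-/

universe u

open CategoryTheory CategoryTheory.Limits AlgebraicGeometry Opposite Groth.Agent.FlatMor66

namespace Groth.Agent.Unr55.EtSh

set_option backward.isDefEq.respectTransparency.types false

variable {X Y : Scheme.{u}} (f : X ⟶ Y) {Ω : Type u} [Field Ω] [IsSepClosed Ω]
  {η : Spec (CommRingCat.of Ω) ⟶ Y} {ξ : Spec (CommRingCat.of Ω) ⟶ X} (h : ξ ≫ f = η)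

/-- Lift of a neighbourhood of a point to a point above it. -/
noncomputable def ptUpAt {V : Y.Etale} (s : Pt η V) : Pt ξ ((EtCoh.bc f).obj V) :=
  mkPt _ (pullback.lift (hom η s) ξ ((Over.w s).trans h.symm)) (pullback.lift_snd _ _ _)

/-- The component map at a point above `η`. -/
noncomputable def pushMapAt (F : EtCoh.Ab X) :
    (EtCoh.stalk η).obj ((EtCoh.push f).obj F) ⟶ (EtCoh.stalk ξ).obj F :=
  eqToHom (by rw [h]) ≫ pushStalkMap f ξ F

theorem pushMapAt_germ (F : EtCoh.Ab X) {V : Y.Etale} (s : Pt η V)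
    (σ : EtCoh.sect F ((EtCoh.bc f).obj V)) :
    pushMapAt f h F (germ η ((EtCoh.push f).obj F) s σ) = germ ξ F (ptUpAt f h s) σ := by
  subst h
  exact pushStalkMap_germ f ξ F s σ

/-- A neighbourhood of `η` over a point of a base change gives a point above `η`. -/
theorem exists_point_of_fibre [IsFinite f] [IsAlgClosed Ω] {V : Y.Etale} (s : Pt η V)
    (z : ((EtCoh.bc f).obj V).left) (hz : pullback.fst V.hom f z = hom η s default) :
    ∃ (ξ : Spec (CommRingCat.of Ω) ⟶ X) (h : ξ ≫ f = η), hom ξ (ptUpAt f h s) default = z := by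
  have : IsFinite (pullback.fst V.hom f) := MorphismProperty.pullback_fst _ _ inferInstance
  obtain ⟨⟨c, hc⟩, hcz⟩ := exists_lift (pullback.fst V.hom f) (hom η s) z
    (hz.trans (congrArg (hom η s) (Subsingleton.elim _ _)))
  have hs : hom η s ≫ V.hom = η := Over.w s
  have hξ : (c ≫ pullback.snd V.hom f) ≫ f = η := by
    rw [Category.assoc, ← pullback.condition, reassoc_of% hc, hs]
  refine ⟨_, hξ, ?_⟩
  have : hom _ (ptUpAt f hξ s) = c := pullback.hom_ext
    ((pullback.lift_fst _ _ _).trans hc.symm) (pullback.lift_snd _ _ _)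
  rw [this, ← hcz]
  exact congrArg c (Subsingleton.elim _ _)

theorem pushMapAt_injective [IsFinite f] [IsAlgClosed Ω] (F : EtCoh.Ab X)
    (a : ((EtCoh.stalk η).obj ((EtCoh.push f).obj F) : AddCommGrpCat.{u + 1}))
    (ha : ∀ (ξ : Spec (CommRingCat.of Ω) ⟶ X) (h : ξ ≫ f = η), pushMapAt f h F a = 0) : a = 0 := by
  obtain ⟨V, s, σ, rfl⟩ := exists_germ_eq η ((EtCoh.push f).obj F) a
  have : IsFinite (pullback.fst V.hom f) := MorphismProperty.pullback_fst _ _ inferInstance
  let C : Set V.left := pullback.fst V.hom f '' (vanishing F σ : Set ((EtCoh.bc f).obj V).left)ᶜ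
  have hC : IsClosed C := (pullback.fst V.hom f).isClosedMap _ (vanishing F σ).2.isClosed_compl
  let O : V.left.Opens := ⟨Cᶜ, hC.isOpen_compl⟩
  have hs : hom η s default ∈ O := by
    rintro ⟨z, hz, hzs⟩
    obtain ⟨ξ, h, hξz⟩ := exists_point_of_fibre f s z hzs
    obtain ⟨U, g, t, h1, h2⟩ := (germ_eq_zero_iff ξ F (ptUpAt f h s) σ).1
      ((pushMapAt_germ f h F s σ).symm.trans (ha ξ h))
    exact hz (range_le_vanishing F σ g h2 ⟨hom ξ t default,
      (congrArg (fun q => hom ξ q default) h1).trans hξz⟩)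
  refine (germ_eq_zero_iff η ((EtCoh.push f).obj F) s σ).2
    ⟨_, openSubι V O, ptOpen O s hs, map_ptOpen O s hs, (map_eq_zero_iff_range_le F σ _).2 ?_⟩
  rintro _ ⟨p, rfl⟩
  by_contra hp
  have e : ((EtCoh.bc f).map (openSubι V O)).left ≫ pullback.fst V.hom f =
      pullback.fst (openSub V O).hom f ≫ O.ι := (EtCoh.isPullback_bc_map f (openSubι V O)).w
  have hO : (((EtCoh.bc f).map (openSubι V O)).left ≫ pullback.fst V.hom f) p ∈ O := by
    rw [e]
    exact O.range_ι.le ⟨_, rfl⟩
  exact hO ⟨_, hp, rfl⟩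

/-- Gluing a section on a clopen piece with zero. -/
theorem exists_extend_zero (F : EtCoh.Ab X) {Q U : X.Etale} (j : Q ⟶ U) [IsOpenImmersion j.left]
    [IsClosedImmersion j.left] (τ : EtCoh.sect F Q) :
    ∃ σ : EtCoh.sect F U, F.obj.map j.op σ = τ ∧
      ∀ (V : X.Etale) (g : V ⟶ U), Disjoint (Set.range g.left) (Set.range j.left) → F.obj.map g.op σ = 0 := by
  let S : Sieve U :=
    { arrows := fun V g => Set.range g.left ⊆ Set.range j.left ∨ Disjoint (Set.range g.left) (Set.range j.left)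
      downward_closed := fun {V W g} hg k => by
        have hk : Set.range (k ≫ g).left ⊆ Set.range g.left := by
          rintro _ ⟨w, rfl⟩; exact ⟨k.left w, rfl⟩
        exact hg.imp hk.trans fun h => h.mono_left hk }
  have hS : S ∈ X.smallEtaleTopology U := mem_topology fun x => by
    by_cases hx : x ∈ Set.range j.left
    · obtain ⟨q, rfl⟩ := hx
      exact ⟨Q, j, q, .inl le_rfl, rfl⟩
    · let O : U.left.Opens := ⟨(Set.range j.left)ᶜ, j.left.isClosedEmbedding.isClosed_range.isOpen_compl⟩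
      obtain ⟨o, ho⟩ := O.range_ι.ge (show x ∈ O from hx)
      refine ⟨_, openSubι U O, o, .inr ?_, ho⟩
      rw [range_openSubι]
      exact disjoint_compl_left
  let lift : ∀ (V : X.Etale) (g : V ⟶ U), Set.range g.left ⊆ Set.range j.left → (V ⟶ Q) := fun V g h =>
    MorphismProperty.Over.homMk (IsOpenImmersion.lift j.left g.left h) (by
      have e1 : j.left ≫ U.hom = Q.hom := Over.w j.hom
      have e2 : g.left ≫ U.hom = V.hom := Over.w g.hom
      rw [← e1, ← Category.assoc, IsOpenImmersion.lift_fac, e2]) trivial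
  classical
  let x : Presieve.FamilyOfElements (F.obj ⋙ forget AddCommGrpCat.{u + 1}) S.arrows := fun V g _ =>
    if h : Set.range g.left ⊆ Set.range j.left then F.obj.map (lift V g h).op τ else (0 : EtCoh.sect F V)
  have hx : x.Compatible := by
    intro V₁ V₂ W g₁ g₂ f₁ f₂ h₁ h₂ w
    change F.obj.map g₁.op (x f₁ h₁) = F.obj.map g₂.op (x f₂ h₂)
    have hw : ∀ p : W.left, f₁.left (g₁.left p) = f₂.left (g₂.left p) := fun p =>
      congrArg (fun k : W ⟶ U => k.left p) w
    by_cases c₁ : Set.range f₁.left ⊆ Set.range j.left <;>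
      by_cases c₂ : Set.range f₂.left ⊆ Set.range j.left <;> simp only [x, dif_pos, dif_neg, c₁, c₂,
        not_false_eq_true]
    · rw [← ConcreteCategory.comp_apply, ← ConcreteCategory.comp_apply, ← Functor.map_comp,
        ← Functor.map_comp, ← op_comp, ← op_comp]
      congr 4
      refine MorphismProperty.Over.Hom.ext ((cancel_mono j.left).1 ?_)
      have := congrArg (fun k : W ⟶ U => k.left) w
      show (g₁.left ≫ IsOpenImmersion.lift j.left f₁.left c₁) ≫ j.left =
        (g₂.left ≫ IsOpenImmersion.lift j.left f₂.left c₂) ≫ j.left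
      rw [Category.assoc, Category.assoc, IsOpenImmersion.lift_fac, IsOpenImmersion.lift_fac]
      exact this
    · have : IsEmpty W.left := ⟨fun p => Set.disjoint_left.1 (h₂.resolve_left c₂)
        ⟨g₂.left p, (hw p).symm⟩ (c₁ ⟨_, rfl⟩)⟩
      exact (sect_eq_zero_of_isEmpty F _).trans (sect_eq_zero_of_isEmpty F _).symm
    · have : IsEmpty W.left := ⟨fun p => Set.disjoint_left.1 (h₁.resolve_left c₁)
        ⟨g₁.left p, rfl⟩ (hw p ▸ c₂ ⟨_, rfl⟩)⟩
      exact (sect_eq_zero_of_isEmpty F _).trans (sect_eq_zero_of_isEmpty F _).symm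
    · rw [map_zero, map_zero]
  obtain ⟨σ, hσ, -⟩ := isSheafFor_forget F hS x hx
  refine ⟨σ, ?_, fun V g hg => ?_⟩
  · refine (hσ j (.inl le_rfl)).trans ?_
    change (if h : Set.range j.left ⊆ Set.range j.left then F.obj.map (lift Q j h).op τ else 0) = τ
    rw [dif_pos le_rfl]
    have : lift Q j le_rfl = 𝟙 Q := MorphismProperty.Over.Hom.ext ((cancel_mono j.left).1 (by
      show IsOpenImmersion.lift j.left j.left le_rfl ≫ j.left = 𝟙 Q.left ≫ j.left
      rw [IsOpenImmersion.lift_fac, Category.id_comp]))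
    rw [this, op_id, CategoryTheory.Functor.map_id, ConcreteCategory.id_apply]
  · refine (hσ g (.inr hg)).trans ?_
    by_cases c : Set.range g.left ⊆ Set.range j.left
    · have : IsEmpty V.left := ⟨fun p => Set.disjoint_left.1 hg ⟨p, rfl⟩ (c ⟨p, rfl⟩)⟩
      exact (sect_eq_zero_of_isEmpty F _).trans (sect_eq_zero_of_isEmpty F _).symm
    · exact dif_neg c

theorem exists_delta [IsFinite f] [IsAlgClosed Ω] (F : EtCoh.Ab X)
    (b : ((EtCoh.stalk ξ).obj F : AddCommGrpCat.{u + 1})) :
    ∃ a : ((EtCoh.stalk η).obj ((EtCoh.push f).obj F) : AddCommGrpCat.{u + 1}),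
      pushMapAt f h F a = b ∧
      ∀ (ξ' : Spec (CommRingCat.of Ω) ⟶ X) (h' : ξ' ≫ f = η), ξ' ≠ ξ → pushMapAt f h' F a = 0 := by
  obtain ⟨U, t, τ, rfl⟩ := exists_germ_eq ξ F b
  have : Etale U.hom := U.prop
  have ht : hom ξ t ≫ U.hom = ξ := Over.w t
  obtain ⟨W, b', r', P, Q, pr₁, pr₂, j, g, m, hb, hr', hP, hjo, hjc, hg, hmg, hmr, hu⟩ :=
    exists_clopen_piece f U.hom η (hom ξ t) (by rw [← Category.assoc, ht, h])
  let V : Y.Etale := Scheme.Etale.mk b'
  let s : Pt η V := mkPt _ r' hr'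
  let j' : Q ⟶ pullback b' f := j ≫ hP.flip.isoPullback.hom
  have : IsOpenImmersion j' := inferInstance
  have : IsClosedImmersion j' := MorphismProperty.comp_mem _ _ _ hjc inferInstance
  have : Etale (pullback.snd b' f) := MorphismProperty.pullback_snd _ _ hb
  have : Etale (j' ≫ pullback.snd b' f) := MorphismProperty.comp_mem _ _ _ (inferInstance : Etale j') ‹_›
  let Qo : X.Etale := Scheme.Etale.mk (j' ≫ pullback.snd b' f)
  let ι : Qo ⟶ (EtCoh.bc f).obj V := MorphismProperty.Over.homMk j' rfl trivial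
  have hj'snd : j' ≫ pullback.snd b' f = j ≫ pr₁ := by
    rw [Category.assoc, IsPullback.isoPullback_hom_snd]
  have hj'fst : j' ≫ pullback.fst b' f = j ≫ pr₂ := by
    rw [Category.assoc, IsPullback.isoPullback_hom_fst]
  let gQ : Qo ⟶ U := MorphismProperty.Over.homMk g (hg.trans hj'snd.symm) trivial
  have : IsOpenImmersion ι.left := ‹IsOpenImmersion j'›
  have : IsClosedImmersion ι.left := ‹IsClosedImmersion j'›
  obtain ⟨σ, hσ, hσ0⟩ := exists_extend_zero F ι (F.obj.map gQ.op τ)
  have hmξ : (m ≫ j') ≫ pullback.snd b' f = ξ := by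
    rw [Category.assoc, hj'snd, ← hg, ← Category.assoc, hmg, ht]
  let mQ : Pt ξ Qo := mkPt _ m ((Category.assoc _ _ _).symm.trans hmξ)
  have hmfst : (m ≫ j') ≫ pullback.fst b' f = r' := by rw [Category.assoc, hj'fst, hmr]
  refine ⟨germ η ((EtCoh.push f).obj F) s σ, ?_, fun ξ' h' hne => ?_⟩
  · have e1 : (Scheme.pointSmallEtale ξ).fiber.map ι mQ = ptUpAt f h s := by
      refine Over.OverMorphism.ext (pullback.hom_ext ?_ ?_)
      · exact hmfst.trans (pullback.lift_fst _ _ _).symm
      · exact hmξ.trans (pullback.lift_snd _ _ _).symm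
    have e2 : (Scheme.pointSmallEtale ξ).fiber.map gQ mQ = t := Over.OverMorphism.ext hmg
    rw [pushMapAt_germ, ← e1, ← germ_map, hσ, germ_map, e2]
  · rw [pushMapAt_germ]
    let c : Spec (CommRingCat.of Ω) ⟶ pullback b' f := hom ξ' (ptUpAt f h' s)
    have hc : c default ∉ Set.range j' := by
      intro hmem
      let m' := IsOpenImmersion.lift j' c (by
        rintro _ ⟨a, rfl⟩
        rw [default_eq a]
        exact hmem)
      have hm' : m' ≫ j' = c := IsOpenImmersion.lift_fac _ _ _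
      have := hu m' (by
        rw [← hj'fst, ← Category.assoc, hm']
        exact pullback.lift_fst _ _ _)
      refine hne ?_
      have hc2 : c ≫ pullback.snd b' f = ξ' := pullback.lift_snd _ _ _
      exact hc2.symm.trans ((congrArg (fun q => q ≫ pullback.snd b' f)
        (hm'.symm.trans (congrArg (fun q => q ≫ j') this))).trans hmξ)
    let O : ((EtCoh.bc f).obj V).left.Opens :=
      ⟨(Set.range j')ᶜ, j'.isClosedEmbedding.isClosed_range.isOpen_compl⟩
    refine (germ_eq_zero_iff ξ' F (ptUpAt f h' s) σ).2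
      ⟨_, openSubι _ O, ptOpen O _ hc, map_ptOpen O _ hc, hσ0 _ _ ?_⟩
    rw [range_openSubι]
    exact disjoint_compl_left

/-- All components at once. -/
noncomputable def pushMapPi (η : Spec (CommRingCat.of Ω) ⟶ Y) (F : EtCoh.Ab X) :
    (EtCoh.stalk η).obj ((EtCoh.push f).obj F) ⟶
      ∏ᶜ fun ξ : {ξ : Spec (CommRingCat.of Ω) ⟶ X // ξ ≫ f = η} => (EtCoh.stalk ξ.1).obj F :=
  Pi.lift fun ξ => pushMapAt f ξ.2 F

theorem pushMapPi_bijective [IsFinite f] [IsAlgClosed Ω] (η : Spec (CommRingCat.of Ω) ⟶ Y)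
    (F : EtCoh.Ab X) : Function.Bijective (pushMapPi f η F) := by
  have : Finite (GPt f η) := finite_GPt f η (f.finite_preimage_singleton _)
  have : Fintype (GPt f η) := Fintype.ofFinite _
  let S := fun ξ : GPt f η => (EtCoh.stalk ξ.1).obj F
  let e := Concrete.productEquiv S
  have he : ∀ a ξ, e (pushMapPi f η F a) ξ = pushMapAt f ξ.2 F a := fun a ξ =>
    (Concrete.productEquiv_apply_apply S _ ξ).trans (ConcreteCategory.congr_hom (Pi.lift_π _ ξ) a)
  constructor
  · refine (injective_iff_map_eq_zero (pushMapPi f η F).hom).2 fun a ha => ?_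
    refine pushMapAt_injective f F a fun ξ h => ?_
    refine (he a ⟨ξ, h⟩).symm.trans ?_
    refine (Concrete.productEquiv_apply_apply S _ _).trans ?_
    exact (congrArg (Pi.π S ⟨ξ, h⟩) ha).trans (map_zero _)
  · intro v
    choose a ha ha' using fun ξ : GPt f η => exists_delta f ξ.2 F (e v ξ)
    refine ⟨∑ ξ, a ξ, e.injective (funext fun ξ => ?_)⟩
    rw [he, map_sum, Finset.sum_eq_single ξ (fun ξ' _ hne => ha' ξ' ξ.1 ξ.2
      fun he => hne (Subtype.ext he).symm) (fun hξ => absurd (Finset.mem_univ ξ) hξ), ha]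

end Groth.Agent.Unr55.EtSh
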