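import Groth.Agent.Unr55.Et.SplitPush

/-!
The trivialisation of a pushforward along a split finite étale morphism.
-/

set_option autoImplicit false
set_option backward.isDefEq.respectTransparency.types false
universe u

open CategoryTheory CategoryTheory.Limits AlgebraicGeometry Opposite

namespace Groth.Agent.Unr55.SplitEt

open Groth.Agent.EtCore45 (objOf objOfHom etale_left)
open Groth.Agent.Unr55.LC

/-- Locally constant functions into a finite product. -/
noncomputable def piEquiv {ι : Type u} [Finite ι] (T : Type u) [TopologicalSpace T] (A : ι → Type (u + 1))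
    [∀ k, AddCommGroup (A k)] : (∀ k, LocallyConstant T (A k)) ≃+ LocallyConstant T (∀ k, A k) where
  toFun φ := ⟨fun w k => φ k w, by
    rw [IsLocallyConstant.iff_eventually_eq]
    intro x
    have h : ∀ k, ∀ᶠ y in nhds x, φ k y = φ k x := fun k => (φ k).isLocallyConstant.eventually_eq x
    exact (Filter.eventually_all.2 h).mono fun y hy => funext hy⟩
  invFun ψ k := ψ.map fun m => m k
  left_inv _ := rfl
  right_inv _ := rfl
  map_add' _ _ := rfl

variable {X Y : Scheme.{u}} {f : X ⟶ Y} [Etale f] {V : Y.Etale} {ι : Type u} [Finite ι]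
  {t : ι → (V.left ⟶ X)} (h : IsSplitBy f V t) {U : ι → X.Etale}
  (g : ∀ k, V.left ⟶ (U k).left) (hg : ∀ k, g k ≫ (U k).hom = t k)

/-- A piece maps to the corresponding member of the family. -/
noncomputable def pieceTo {W : Y.Etale} (a : W ⟶ V) (k : ι) : piece h a k ⟶ U k :=
  MorphismProperty.Over.homMk (a.left ≫ g k)
    ((Category.assoc _ _ _).trans (congrArg (a.left ≫ ·) (hg k)))

/-- Functoriality of the pieces. -/
noncomputable def pieceMapOfHom {W W' : Y.Etale} (a : W ⟶ V) (a' : W' ⟶ V) (c : W' ⟶ W)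
    (hc : c ≫ a = a') (k : ι) : piece h a' k ⟶ piece h a k :=
  MorphismProperty.Over.homMk c.left
    ((Category.assoc _ _ _).symm.trans (congrArg (· ≫ t k) (congrArg (fun e : W' ⟶ V => e.left) hc)))

theorem pieceMapOfHom_to {W W' : Y.Etale} (a : W ⟶ V) (a' : W' ⟶ V) (c : W' ⟶ W) (hc : c ≫ a = a')
    (k : ι) : pieceMapOfHom h a a' c hc k ≫ pieceTo h g hg a k = pieceTo h g hg a' k :=
  MorphismProperty.Over.Hom.ext
    ((Category.assoc _ _ _).symm.trans (congrArg (· ≫ g k) (congrArg (fun e : W' ⟶ V => e.left) hc)))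

omit [Finite ι] in
theorem pieceMapOfHom_in {W W' : Y.Etale} (a : W ⟶ V) (a' : W' ⟶ V) (c : W' ⟶ W) (hc : c ≫ a = a')
    (k : ι) : pieceMapOfHom h a a' c hc k ≫ pieceIn h a k = pieceIn h a' k ≫ (EtCoh.bc f).map c := by
  apply MorphismProperty.Over.Hom.ext
  let m : pullback W'.hom f ⟶ pullback W.hom f := ((EtCoh.bc f).map c).left
  have hm1 : m ≫ pullback.fst W.hom f = pullback.fst W'.hom f ≫ c.left := (EtCoh.isPullback_bc_map f c).w
  have hm2 : m ≫ pullback.snd W.hom f = pullback.snd W'.hom f := MorphismProperty.Over.w ((EtCoh.bc f).map c)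
  change c.left ≫ pieceMap h a k = pieceMap h a' k ≫ m
  apply pullback.hom_ext
  · rw [Category.assoc, Category.assoc, pieceMap_fst, hm1, ← Category.assoc, pieceMap_fst,
      Category.comp_id, Category.id_comp]
  · rw [Category.assoc, Category.assoc, pieceMap_snd, hm2, pieceMap_snd, ← Category.assoc]
    exact congrArg (· ≫ t k) (congrArg (fun e : W' ⟶ V => e.left) hc)

variable {F : EtCoh.Ab X} {A : ι → AddCommGrpCat.{u + 1}} (ψ : ∀ k, Triv F (U k) (A k))

/-- Sections of the pushforward as functions. -/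
noncomputable def pushEquiv {W : Y.Etale} (a : W ⟶ V) :
    ((EtCoh.push f).obj F).obj.obj (op W) ≃+ LocallyConstant W.left (∀ k, A k) :=
  ((AddEquiv.ofBijective (AddMonoidHom.pi fun k => (F.obj.map (pieceIn h a k).op).hom)
      (bijective_pieces h a F)).trans
    (AddEquiv.piCongrRight fun k => ((ψ k).sec (pieceTo h g hg a k)).addCommGroupIsoToAddEquiv)).trans
    (piEquiv W.left fun k => A k)

theorem pushEquiv_natural {W W' : Y.Etale} (a : W ⟶ V) (a' : W' ⟶ V) (c : W' ⟶ W) (hc : c ≫ a = a')
    (s : ((EtCoh.push f).obj F).obj.obj (op W)) (w : W'.left) :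
    pushEquiv h g hg ψ a' (((EtCoh.push f).obj F).obj.map c.op s) w =
      pushEquiv h g hg ψ a s (c.left w) := by
  funext k
  change (show LocallyConstant W'.left (A k) from ((ψ k).sec (pieceTo h g hg a' k)).hom
      (F.obj.map (pieceIn h a' k).op (F.obj.map ((EtCoh.bc f).map c).op s))) w =
    (show LocallyConstant W.left (A k) from ((ψ k).sec (pieceTo h g hg a k)).hom
      (F.obj.map (pieceIn h a k).op s)) (c.left w)
  rw [← Functor.map_comp_apply, ← op_comp, ← pieceMapOfHom_in h a a' c hc k, op_comp, Functor.map_comp_apply]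
  exact (ψ k).sec_natural_apply (pieceTo h g hg a k) (pieceMapOfHom h a a' c hc k) _
    (pieceMapOfHom_to h g hg a a' c hc k) _ w

/-- The trivialisation of the pushforward. -/
noncomputable def pushTriv : Triv ((EtCoh.push f).obj F) V (AddCommGrpCat.of (∀ k, A k)) :=
  (fullyFaithfulSheafToPresheaf _ _).preimageIso
    (NatIso.ofComponents (fun W => (pushEquiv h g hg ψ W.unop.hom).toAddCommGrpIso) fun {W W'} c => by
      ext s
      refine LocallyConstant.ext fun w => ?_
      exact pushEquiv_natural h g hg ψ W.unop.hom W'.unop.hom c.unop.left (Over.w c.unop) s w)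

end Groth.Agent.Unr55.SplitEt
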