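import Groth.Agent.Unr55.Et.RepLocal
import Groth.Agent.Desc59.DDFppf
import Groth.Agent.Desc59.DDOfTheta
import Groth.Agent.Desc59.DDAffine
import Groth.Agent.Unr55.DescProps
import Mathlib.AlgebraicGeometry.Morphisms.LocalFlatDescent

/-!
A sheaf on the small étale site represented over an étale covering by a finite scheme is representable
by a scheme finite étale over the base.
-/

set_option autoImplicit false
set_option backward.isDefEq.respectTransparency.types false
universe u

open CategoryTheory CategoryTheory.Limits AlgebraicGeometry Opposite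

namespace Groth.Agent.Unr55.FLC

open Groth.Agent.EtCore45 (objOf objOfHom etale_left)
open Desc Groth.Agent.Desc59

/-- A property descending along quasi-compact faithfully flat maps descends from a cartesian square
over a one-member fpqc covering. -/
theorem of_isPullback_fpqcMor (P : MorphismProperty Scheme.{u}) [P.IsStableUnderBaseChange]
    [IsZariskiLocalAtTarget P] (hP : P.DescendsAlong Unr55.fpqc.{u})
    {S X G E : Scheme.{u}} {g : G ⟶ S} {p : X ⟶ S} [Flat p] [IsFpqcMor p] {π : E ⟶ G} {q : E ⟶ X}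
    (hpb : IsPullback π q g p) (hq : P q) : P g := by
  rw [IsZariskiLocalAtTarget.iff_of_iSup_eq_top (P := P) (fun W : S.affineOpens => W.1)
    (iSup_affineOpens_eq_top S)]
  rintro ⟨W, hW⟩
  have : IsAffine W.toScheme := hW
  obtain ⟨X', h, hX', hh, hsurj⟩ := IsFpqcMor.exists_affine_subcover p hW
  let k : X' ⟶ W.toScheme := h ≫ p ∣_ W
  have : Flat (p ∣_ W) := MorphismProperty.of_isPullback (isPullback_morphismRestrict p W).flip inferInstance
  have hk : Unr55.fpqc k := ⟨⟨hsurj, inferInstanceAs (Flat (h ≫ p ∣_ W))⟩, inferInstance⟩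
  refine MorphismProperty.of_pullback_fst_of_descendsAlong (P := P) (Q := Unr55.fpqc.{u}) (f := k) hk ?_
  let s : X' ⟶ X := h ≫ (p ⁻¹ᵁ W).ι
  have hs : s ≫ p = k ≫ W.ι := by rw [Category.assoc, ← morphismRestrict_ι, ← Category.assoc]
  have hbig : IsPullback (pullback.fst k (g ∣_ W))
      (pullback.snd k (g ∣_ W) ≫ (g ⁻¹ᵁ W).ι) (k ≫ W.ι) g :=
    (IsPullback.of_hasPullback k (g ∣_ W)).paste_vert (isPullback_morphismRestrict g W)
  rw [← hs] at hbig
  let l := hpb.lift (pullback.snd k (g ∣_ W) ≫ (g ⁻¹ᵁ W).ι) (pullback.fst k (g ∣_ W) ≫ s)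
    (hbig.w.symm.trans (Category.assoc _ _ _).symm)
  have hl : IsPullback l (pullback.fst k (g ∣_ W)) q s := by
    refine IsPullback.of_right (h₁₂ := π) (v₁₃ := g) (h₂₂ := p) ?_ (hpb.lift_snd _ _ _) hpb
    rw [hpb.lift_fst]
    exact hbig.flip
  exact MorphismProperty.of_isPullback hl hq

theorem exists_isQuot_of_isFinite {X S : Scheme.{u}} {p : X ⟶ S} [Surjective p] [Flat p] [IsFpqcMor p]
    (D : SchDD p) [IsFinite D.obj.hom] [AlgebraicGeometry.Etale D.obj.hom] :
    ∃ (U : Over S) (π : D.obj.left ⟶ U.left), IsQuot D U π ∧ IsFinite U.hom ∧ AlgebraicGeometry.Etale U.hom := by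
  obtain ⟨U, hU⟩ := effective_of_affine_case_fpqcMor @IsAffineHom
    (fun X S p _ _ _ _ D hD => by
      have : IsAffineHom D.obj.hom := hD
      have : IsAffine D.obj.left := isAffine_of_isAffineHom D.obj.hom
      exact exists_isQuot_iff.mp (exists_isQuot_of_isAffine D)) p D inferInstance
  obtain ⟨U', π, hπ⟩ := exists_isQuot_iff.mpr ⟨U, hU⟩
  exact ⟨U', π, hπ, of_isPullback_fpqcMor @IsFinite Unr55.isFinite hπ.isPullback inferInstance,
    of_isPullback_fpqcMor @AlgebraicGeometry.Etale inferInstance hπ.isPullback inferInstance⟩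

variable {X : Scheme.{u}} {F : EtCoh.Ab X} {E U' : X.Etale} (q : E ⟶ U') (σ : F.obj.obj (op E))

/-- `U' ×_X E` as an étale `X`-scheme. -/
noncomputable def prodObj : X.Etale :=
  haveI : AlgebraicGeometry.Etale U'.hom := U'.prop
  haveI : AlgebraicGeometry.Etale (q.left ≫ U'.hom) := by
    rw [MorphismProperty.Over.w q]; exact E.prop
  MorphismProperty.Over.mk _ (pullback.fst U'.hom (q.left ≫ U'.hom) ≫ U'.hom) inferInstance

/-- First projection. -/
noncomputable def prodFst : prodObj q ⟶ U' :=
  MorphismProperty.Over.homMk (pullback.fst U'.hom (q.left ≫ U'.hom)) rfl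

/-- Second projection. -/
noncomputable def prodSnd : prodObj q ⟶ E :=
  MorphismProperty.Over.homMk (pullback.snd U'.hom (q.left ≫ U'.hom))
    ((congrArg (pullback.snd U'.hom (q.left ≫ U'.hom) ≫ ·) (MorphismProperty.Over.w q)).symm.trans
      pullback.condition.symm)

theorem over_q : q.left ≫ U'.hom = E.hom := MorphismProperty.Over.w q

/-- Pairing into `U' ×_X E`. -/
noncomputable def prodLift {W : X.Etale} (x : W ⟶ U') (v : W ⟶ E) : W ⟶ prodObj q :=
  MorphismProperty.Over.homMk
    (pullback.lift x.left v.left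
      ((MorphismProperty.Over.w x).trans ((MorphismProperty.Over.w v).symm.trans
        (congrArg (v.left ≫ ·) (over_q q).symm))))
    ((pullback.lift_fst_assoc _ _ _ _).trans (MorphismProperty.Over.w x))

theorem prodLift_fst {W : X.Etale} (x : W ⟶ U') (v : W ⟶ E) : prodLift q x v ≫ prodFst q = x :=
  MorphismProperty.Over.Hom.ext (pullback.lift_fst _ _ _)

theorem prodLift_snd {W : X.Etale} (x : W ⟶ U') (v : W ⟶ E) : prodLift q x v ≫ prodSnd q = v :=
  MorphismProperty.Over.Hom.ext (pullback.lift_snd _ _ _)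

variable (h : IsRepOver F q σ)

/-- The gluing morphism: the point over the first projection with the same section as the second. -/
noncomputable def glue : prodObj q ⟶ E :=
  (h (prodObj q) (prodFst q) (F.obj.map (prodSnd q).op σ)).exists.choose

theorem glue_spec : glue q σ h ≫ q = prodFst q ∧
    F.obj.map (glue q σ h).op σ = F.obj.map (prodSnd q).op σ :=
  (h (prodObj q) (prodFst q) (F.obj.map (prodSnd q).op σ)).exists.choose_spec

/-- The transported point is characterised by its base and its section. -/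
theorem lift_glue {W : X.Etale} (x : W ⟶ U') (v w : W ⟶ E) (hw : w ≫ q = x)
    (hs : F.obj.map w.op σ = F.obj.map v.op σ) : prodLift q x v ≫ glue q σ h = w := by
  refine (h W x (F.obj.map v.op σ)).unique ⟨?_, ?_⟩ ⟨hw, hs⟩
  · rw [Category.assoc, (glue_spec q σ h).1, prodLift_fst]
  · rw [op_comp, Functor.map_comp_apply, (glue_spec q σ h).2, ← Functor.map_comp_apply, ← op_comp,
      prodLift_snd]

theorem lift_glue_trans {W : X.Etale} (x₁ x₂ : W ⟶ U') (v : W ⟶ E) :
    prodLift q x₂ (prodLift q x₁ v ≫ glue q σ h) ≫ glue q σ h = prodLift q x₂ v ≫ glue q σ h := by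
  refine lift_glue q σ h x₂ _ _ ?_ ?_
  · rw [Category.assoc, (glue_spec q σ h).1, prodLift_fst]
  · simp only [op_comp, Functor.map_comp_apply, (glue_spec q σ h).2]
    simp only [← Functor.map_comp_apply, ← op_comp, prodLift_snd]

/-- The descent datum. -/
noncomputable def descDatum : SchDD U'.hom :=
  ofθ (Over.mk q.left) (glue q σ h).left
    (congrArg (fun m : prodObj q ⟶ U' => m.left) (glue_spec q σ h).1)
    (by
      have e := congrArg (fun m : E ⟶ E => m.left) (lift_glue q σ h q (𝟙 E) (𝟙 E) (Category.id_comp q) rfl)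
      exact e)
    (by
      intro T v x₁ x₂ h₁ h₂
      let E' : Scheme.{u} := E.left
      let d := pullback.fst U'.hom (q.left ≫ U'.hom) ≫ U'.hom
      have : AlgebraicGeometry.Etale U'.hom := U'.prop
      have hd : AlgebraicGeometry.Etale (pullback.fst d U'.hom) :=
        MorphismProperty.pullback_fst _ _ inferInstance
      let W : X.Etale := @objOf _ (prodObj q) _ (pullback.fst d U'.hom) hd
      let f₁ : W ⟶ prodObj q := @objOfHom _ (prodObj q) _ _ hd
      let a₂ : W ⟶ U' := MorphismProperty.Over.homMk (pullback.snd d U'.hom) pullback.condition.symm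
      let m : T ⟶ W.left := pullback.lift (pullback.lift x₁ v h₁) x₂ (by
        refine (pullback.lift_fst_assoc _ _ _ _).trans ?_
        exact h₁.trans h₂.symm)
      have hm₁ : m ≫ f₁.left = pullback.lift x₁ v h₁ := pullback.lift_fst _ _ _
      have hm₂ : m ≫ a₂.left = x₂ := pullback.lift_snd _ _ _
      have key := congrArg (fun g : W ⟶ E => m ≫ g.left)
        (lift_glue_trans q σ h (f₁ ≫ prodFst q) a₂ (f₁ ≫ prodSnd q))
      let θ₀ : pullback U'.hom (q.left ≫ U'.hom) ⟶ E.left := (glue q σ h).left
      let f₁' : W.left ⟶ pullback U'.hom (q.left ≫ U'.hom) := f₁.left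
      let a₂' : W.left ⟶ U'.left := a₂.left
      let L : ∀ (x : W ⟶ U') (w : W ⟶ E) (z : T ⟶ U'.left) (y : T ⟶ E.left) (hz : z ≫ U'.hom = y ≫ q.left ≫ U'.hom),
          m ≫ x.left = z → m ≫ w.left = y →
            m ≫ ((prodLift q x w).left : W.left ⟶ pullback U'.hom (q.left ≫ U'.hom)) = pullback.lift z y hz :=
        fun x w z y hz e₁ e₂ => pullback.hom_ext
          ((Category.assoc _ _ _).trans ((congrArg (m ≫ ·) (pullback.lift_fst _ _ _)).trans
            (e₁.trans (pullback.lift_fst _ _ _).symm)))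
          ((Category.assoc _ _ _).trans ((congrArg (m ≫ ·) (pullback.lift_snd _ _ _)).trans
            (e₂.trans (pullback.lift_snd _ _ _).symm)))
      have ev : m ≫ (f₁ ≫ prodSnd q).left = v :=
        (Category.assoc m f₁' (pullback.snd U'.hom (q.left ≫ U'.hom))).symm.trans
          ((congrArg (· ≫ pullback.snd _ _) hm₁).trans (pullback.lift_snd _ _ _))
      have ex : m ≫ (f₁ ≫ prodFst q).left = x₁ :=
        (Category.assoc m f₁' (pullback.fst U'.hom (q.left ≫ U'.hom))).symm.trans
          ((congrArg (· ≫ pullback.fst _ _) hm₁).trans (pullback.lift_fst _ _ _))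
      have eglue : m ≫ (prodLift q (f₁ ≫ prodFst q) (f₁ ≫ prodSnd q) ≫ glue q σ h).left =
          pullback.lift x₁ v h₁ ≫ θ₀ :=
        (Category.assoc _ _ _).symm.trans (congrArg (· ≫ θ₀) (L _ _ _ _ h₁ ex ev))
      refine Eq.trans ?_ (key.trans ?_)
      · refine Eq.trans ?_ (Category.assoc _ _ _)
        exact congrArg (· ≫ θ₀) (L _ _ _ _ _ hm₂ eglue).symm
      · exact (Category.assoc _ _ _).symm.trans (congrArg (· ≫ θ₀) (L _ _ _ _ h₂ hm₂ ev)))

include h in
/-- Representability by a scheme finite étale over the base. -/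
theorem exists_representable [IsFinite q.left] [Surjective U'.hom] :
    ∃ (G : X.Etale) (_ : IsFinite G.hom),
      Nonempty (F.obj ⋙ forget AddCommGrpCat.{u + 1} ≅ yoneda.obj G ⋙ uliftFunctor.{u + 1}) := by
  have : AlgebraicGeometry.Etale U'.hom := U'.prop
  have : IsFinite (descDatum q σ h).obj.hom := inferInstanceAs (IsFinite q.left)
  have : AlgebraicGeometry.Etale (descDatum q σ h).obj.hom := etale_left q
  obtain ⟨U₀, π₀, hπ, hfin, het⟩ := exists_isQuot_of_isFinite (descDatum q σ h)
  let G : X.Etale := MorphismProperty.Over.mk _ U₀.hom het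
  let π : E ⟶ G := MorphismProperty.Over.homMk π₀ (hπ.isPullback.w.trans (over_q q))
  have hsq : IsPullback π.left q.left G.hom U'.hom := hπ.isPullback
  have hinv : glue q σ h ≫ π = prodSnd q ≫ π := by
    apply MorphismProperty.Over.Hom.ext
    have e : θ (descDatum q σ h) = (glue q σ h).left := by
      let P := pullback U'.hom (q.left ≫ U'.hom)
      let g₀ : P ⟶ E.left := (glue q σ h).left
      have hid : pullback.lift (pullback.fst U'.hom (q.left ≫ U'.hom)) (pullback.snd U'.hom (q.left ≫ U'.hom))
          pullback.condition = 𝟙 P :=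
        pullback.hom_ext ((pullback.lift_fst _ _ _).trans (Category.id_comp _).symm)
          ((pullback.lift_snd _ _ _).trans (Category.id_comp _).symm)
      exact (congrArg (· ≫ g₀) hid).trans (Category.id_comp g₀)
    have hi := hπ.invariant
    rw [IsInvariant, e] at hi
    exact hi
  -- points with equal sections have equal images in `G`
  have eq_of_sect : ∀ {W : X.Etale} (b b' : W ⟶ E), F.obj.map b.op σ = F.obj.map b'.op σ →
      b ≫ π = b' ≫ π := fun b b' hs => by
    rw [← lift_glue q σ h (b' ≫ q) b b' rfl hs.symm, Category.assoc, hinv, ← Category.assoc, prodLift_snd]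
  -- points with equal images in `G` have equal sections
  have sect_of_eq : ∀ {W : X.Etale} (b b' : W ⟶ E), b ≫ π = b' ≫ π →
      F.obj.map b.op σ = F.obj.map b'.op σ := fun {W} b b' hb => by
    have e : prodLift q (b' ≫ q) b ≫ glue q σ h = b' := by
      apply MorphismProperty.Over.Hom.ext
      apply hsq.hom_ext
      · have e1 := congrArg (fun m : W ⟶ G => m.left)
          (show (prodLift q (b' ≫ q) b ≫ glue q σ h) ≫ π = b' ≫ π by
            rw [Category.assoc, hinv, ← Category.assoc, prodLift_snd, hb])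
        exact e1
      · have e2 := congrArg (fun m : W ⟶ U' => m.left)
          (show (prodLift q (b' ≫ q) b ≫ glue q σ h) ≫ q = b' ≫ q by
            rw [Category.assoc, (glue_spec q σ h).1, prodLift_fst])
        exact e2
    rw [← e, op_comp, Functor.map_comp_apply, (glue_spec q σ h).2, ← Functor.map_comp_apply, ← op_comp,
      prodLift_snd]
  have hπs : Surjective π.left := MorphismProperty.of_isPullback hsq.flip inferInstance
  -- the universal section on `G`
  have hcov : Sieve.ofArrows (fun _ : PUnit.{u + 1} => E) (fun _ => π) ∈ X.smallEtaleTopology G :=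
    EtSh.mem_topology fun x => by
      obtain ⟨y, hy⟩ := π.left.surjective x
      exact ⟨E, π, y, Sieve.ofArrows_mk (fun _ : PUnit.{u + 1} => E) (fun _ => π) ⟨⟩, hy⟩
  have hs : Presieve.IsSheafFor (F.obj ⋙ forget _)
      (Presieve.ofArrows (fun _ : PUnit.{u + 1} => E) (fun _ => π)) :=
    (Presieve.isSheafFor_iff_generate _).2 (EtSh.isSheafFor_forget F hcov)
  rw [Presieve.isSheafFor_arrows_iff] at hs
  obtain ⟨τ, hτ, -⟩ := hs (fun _ => σ) fun _ _ Z g g' e => sect_of_eq g g' e
  have hτ' : F.obj.map π.op τ = σ := hτ ⟨⟩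
  -- every object is covered by its base change to `U'`
  have bij : ∀ W : X.Etale, Function.Bijective fun b : W ⟶ G => F.obj.map b.op τ := by
    intro W
    have : AlgebraicGeometry.Etale W.hom := W.prop
    have hd : AlgebraicGeometry.Etale (pullback.fst W.hom U'.hom) :=
      MorphismProperty.pullback_fst _ _ inferInstance
    have hsr : Surjective (pullback.fst W.hom U'.hom) := MorphismProperty.pullback_fst _ _ inferInstance
    let W₁ : X.Etale := @objOf _ W _ (pullback.fst W.hom U'.hom) hd
    let pr : W₁ ⟶ W := @objOfHom _ W _ _ hd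
    let a : W₁ ⟶ U' := MorphismProperty.Over.homMk (pullback.snd W.hom U'.hom) pullback.condition.symm
    have hepi : Epi (pullback.fst W.hom U'.hom) := Flat.epi_of_flat_of_surjective _
    refine ⟨fun b b' e => ?_, fun s => ?_⟩
    · let l : ∀ c : W ⟶ G, W₁ ⟶ E := fun c =>
        MorphismProperty.Over.homMk
          (hsq.lift (pr.left ≫ c.left) a.left
            (by rw [Category.assoc, MorphismProperty.Over.w c, MorphismProperty.Over.w a]
                exact MorphismProperty.Over.w pr))
          (by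
            rw [← over_q q, ← Category.assoc, hsq.lift_snd]
            exact MorphismProperty.Over.w a)
      have hl : ∀ c : W ⟶ G, l c ≫ π = pr ≫ c ∧ l c ≫ q = a := fun c =>
        ⟨MorphismProperty.Over.Hom.ext (hsq.lift_fst _ _ _), MorphismProperty.Over.Hom.ext (hsq.lift_snd _ _ _)⟩
      have hl' : ∀ c : W ⟶ G, F.obj.map (l c).op σ = F.obj.map pr.op (F.obj.map c.op τ) := fun c => by
        rw [← hτ', ← Functor.map_comp_apply, ← op_comp, (hl c).1, op_comp, Functor.map_comp_apply]
      have e1 : l b = l b' := (h W₁ a _).unique ⟨(hl b).2, hl' b⟩ ⟨(hl b').2, (hl' b').trans (congrArg _ e.symm)⟩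
      apply MorphismProperty.Over.Hom.ext
      apply (cancel_epi (pullback.fst W.hom U'.hom)).1
      have e2 := congrArg (fun m : W₁ ⟶ G => m.left)
        (show pr ≫ b = pr ≫ b' by rw [← (hl b).1, ← (hl b').1, e1])
      exact e2
    · obtain ⟨e, ⟨-, he⟩, -⟩ := h W₁ a (F.obj.map pr.op s)
      let c : W₁.left ⟶ G.left := (e ≫ π).left
      let pr₀ : W₁.left ⟶ W.left := pullback.fst W.hom U'.hom
      have : IsFpqcMor pr₀ := @IsFpqcMor.of_lfp _ _ (pullback.fst W.hom U'.hom) inferInstance hsr inferInstance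
      have heff : EffectiveEpi pr₀ := IsFpqcMor.effectiveEpi _
      have hcompat : ∀ {T : Scheme.{u}} (g₁ g₂ : T ⟶ W₁.left), g₁ ≫ pr₀ = g₂ ≫ pr₀ → g₁ ≫ c = g₂ ≫ c := by
        intro T g₁ g₂ hg
        have hd₂ : AlgebraicGeometry.Etale (pullback.fst pr₀ pr₀) :=
          MorphismProperty.pullback_fst _ _ hd
        let W₂ : X.Etale := @objOf _ W₁ _ (pullback.fst pr₀ pr₀) hd₂
        let r₁ : W₂ ⟶ W₁ := @objOfHom _ W₁ _ _ hd₂
        let r₂ : W₂ ⟶ W₁ := MorphismProperty.Over.homMk (pullback.snd pr₀ pr₀)
          (pullback.condition_assoc W.hom).symm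
        have hr : r₁ ≫ pr = r₂ ≫ pr := MorphismProperty.Over.Hom.ext pullback.condition
        have key := congrArg (fun m : W₂ ⟶ G => m.left)
          (show r₁ ≫ e ≫ π = r₂ ≫ e ≫ π by
            rw [← Category.assoc, ← Category.assoc]
            refine eq_of_sect _ _ ?_
            rw [op_comp, op_comp, Functor.map_comp_apply, Functor.map_comp_apply, he,
              ← Functor.map_comp_apply, ← Functor.map_comp_apply, ← op_comp, ← op_comp, hr])
        have k2 := congrArg (pullback.lift g₁ g₂ hg ≫ ·)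
          (show pullback.fst pr₀ pr₀ ≫ c = pullback.snd pr₀ pr₀ ≫ c from key)
        simp only [pullback.lift_fst_assoc, pullback.lift_snd_assoc] at k2
        exact k2
      let b₀ : W.left ⟶ G.left := EffectiveEpi.desc pr₀ c (fun g₁ g₂ hg => hcompat g₁ g₂ hg)
      have hb₀ : pr₀ ≫ b₀ = c := EffectiveEpi.fac _ _ _
      let b : W ⟶ G := MorphismProperty.Over.homMk b₀ ((cancel_epi (pullback.fst W.hom U'.hom)).1 (by
        refine (Category.assoc _ _ _).symm.trans ((congrArg (· ≫ G.hom) hb₀).trans ?_)
        exact (MorphismProperty.Over.w (e ≫ π)).trans (MorphismProperty.Over.w pr).symm))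
      have hb : pr ≫ b = e ≫ π := MorphismProperty.Over.Hom.ext hb₀
      refine ⟨b, sub_eq_zero.1 (EtSh.sect_eq_zero_of_local F _ fun p => ?_)⟩
      obtain ⟨y, hy⟩ := (pullback.fst W.hom U'.hom).surjective p
      refine ⟨W₁, pr, y, hy, ?_⟩
      rw [map_sub, ← Functor.map_comp_apply, ← op_comp, hb, op_comp, Functor.map_comp_apply, hτ', he, sub_self]
  refine ⟨G, hfin, ⟨(NatIso.ofComponents (F := yoneda.obj G ⋙ uliftFunctor.{u + 1})
    (G := F.obj ⋙ forget AddCommGrpCat.{u + 1})
    (fun W => (Equiv.ulift.trans (Equiv.ofBijective _ (bij W.unop))).toIso) fun {W W'} g => ?_).symm⟩⟩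
  ext ⟨b⟩
  change F.obj.map (g.unop ≫ b).op τ = F.obj.map g (F.obj.map b.op τ)
  rw [op_comp, Functor.map_comp_apply]
  rfl

end Groth.Agent.Unr55.FLC
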