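import Groth.Agent.Unr55.Et.MilnorEtale
import Groth.Agent.Ind91.Lift
import Groth.Agent.FrobAlg53.RelFrobEtale
import Groth.Agent.UH57.Cl
import Mathlib.RingTheory.Smooth.NoetherianDescent

/-!
Etale algebras descend along universal homeomorphisms of rings (topological invariance, ring level).
-/

set_option autoImplicit false
set_option linter.style.haveILetI false
universe u

open TensorProduct

namespace Groth.Agent.Unr55.UHLift

/-- Every etale `A'`-algebra comes from an etale `A`-algebra. -/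
def HasLift (A A' : Type u) [CommRing A] [CommRing A'] [Algebra A A'] : Prop :=
  ∀ (B' : Type u) [CommRing B'] [Algebra A' B'], Algebra.Etale A' B' →
    ∃ (C : Type u) (_ : CommRing C) (_ : Algebra A C),
      Algebra.Etale A C ∧ Nonempty (A' ⊗[A] C ≃ₐ[A'] B')

variable {A A' A'' : Type u} [CommRing A] [CommRing A'] [CommRing A''] [Algebra A A'] [Algebra A' A'']

theorem HasLift.comp [Algebra A A''] [IsScalarTower A A' A''] (h : HasLift A A') (h' : HasLift A' A'') :
    HasLift A A'' := by
  intro B' _ _ hB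
  obtain ⟨C', _, _, hC', ⟨e'⟩⟩ := h' B' hB
  obtain ⟨C, _, _, hC, ⟨e⟩⟩ := h C' hC'
  exact ⟨C, inferInstance, inferInstance, hC,
    ⟨((Algebra.TensorProduct.cancelBaseChange A A' A'' A'' C).symm.trans
      (Algebra.TensorProduct.congr AlgEquiv.refl e)).trans e'⟩⟩

theorem hasLift_of_surjective (hs : Function.Surjective (algebraMap A A')) : HasLift A A' := by
  intro B' _ _ hB
  let q : (A ⧸ RingHom.ker (algebraMap A A')) ≃+* A' := RingHom.quotientKerEquivOfSurjective hs
  letI : Algebra (A ⧸ RingHom.ker (algebraMap A A')) B' :=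
    ((algebraMap A' B').comp (q : _ →+* A')).toAlgebra
  letI : Algebra A B' := ((algebraMap A' B').comp (algebraMap A A')).toAlgebra
  haveI : IsScalarTower A (A ⧸ RingHom.ker (algebraMap A A')) B' :=
    IsScalarTower.of_algebraMap_eq' rfl
  haveI : IsScalarTower A A' B' := IsScalarTower.of_algebraMap_eq' rfl
  haveI : Algebra.Etale (A ⧸ RingHom.ker (algebraMap A A')) B' := by
    rw [← RingHom.etale_algebraMap]
    have h1 : (q : (A ⧸ RingHom.ker (algebraMap A A')) →+* A').Etale := RingHom.Etale.of_bijective q.bijective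
    exact RingHom.Etale.stableUnderComposition _ _ h1 (RingHom.etale_algebraMap.2 hB)
  obtain ⟨W, _, _, π, hW, hπ, hker⟩ := Groth.Agent.Ind91.exists_etale_lift A (RingHom.ker (algebraMap A A')) B'
  let f : A' ⊗[A] W →ₐ[A'] B' := Algebra.TensorProduct.lift (Algebra.ofId A' B') π fun _ _ => Commute.all _ _
  have hf : ∀ w : W, f ((1 : A') ⊗ₜ w) = π w := fun w => by
    rw [Algebra.TensorProduct.lift_tmul, map_one, one_mul]
  refine ⟨W, inferInstance, inferInstance, hW, ⟨AlgEquiv.ofBijective f
    ⟨(injective_iff_map_eq_zero f).2 fun z hz => ?_, fun b => ?_⟩⟩⟩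
  · obtain ⟨w, rfl⟩ := EtAlg23.tmul_surjective_of_surjective hs z
    rw [hf] at hz
    have hw : w ∈ (RingHom.ker (algebraMap A A')).map (algebraMap A W) := hker ▸ RingHom.mem_ker.2 hz
    rw [EtAlg23.one_tmul_eq_zero_of_surjective hs, Ideal.smul_top_eq_map]
    exact hw
  · obtain ⟨w, rfl⟩ := hπ b
    exact ⟨_, hf w⟩

theorem nonempty_algEquiv_of_reduction {R T P P' : Type u} [CommRing R] [CommRing T] [CommRing P] [CommRing P']
    [Algebra R T] [Algebra R P] [Algebra R P'] [Algebra.Etale R P] [Algebra.Etale R P']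
    (π : P →ₐ[R] T) (π' : P' →ₐ[R] T) (hπ : Function.Surjective π) (hπ' : Function.Surjective π')
    (hn : IsNilpotent (RingHom.ker (π : P →+* T))) (hn' : IsNilpotent (RingHom.ker (π' : P' →+* T))) :
    Nonempty (P ≃ₐ[R] P') := by
  let f := Algebra.FormallySmooth.liftOfSurjective π π' hπ' hn'
  let g := Algebra.FormallySmooth.liftOfSurjective π' π hπ hn
  have hf : π'.comp f = π := Algebra.FormallySmooth.comp_liftOfSurjective _ _ _ _
  have hg : π.comp g = π' := Algebra.FormallySmooth.comp_liftOfSurjective _ _ _ _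
  exact ⟨AlgEquiv.ofAlgHom f g
    (Algebra.FormallyUnramified.lift_unique' π' hn' _ _ (by rw [← AlgHom.comp_assoc, hf, hg, AlgHom.comp_id]))
    (Algebra.FormallyUnramified.lift_unique' π hn _ _ (by rw [← AlgHom.comp_assoc, hg, hf, AlgHom.comp_id]))⟩

theorem isNilpotent_ker_one_tmul {R Q P T : Type u} [CommRing R] [CommRing Q] [CommRing P] [CommRing T]
    [Algebra R Q] [Algebra R P] (k : P →+* T) (hk : ∀ x, k x = 0 → (1 : Q) ⊗ₜ[R] x = 0)
    (hs : Function.Surjective (algebraMap R Q)) (hn : IsNilpotent (RingHom.ker (algebraMap R Q))) :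
    IsNilpotent (RingHom.ker k) := by
  obtain ⟨n, hn⟩ := hn
  refine ⟨n, ?_⟩
  have h : RingHom.ker k ≤ (RingHom.ker (algebraMap R Q)).map (algebraMap R P) := fun x hx => by
    have := (EtAlg23.one_tmul_eq_zero_of_surjective hs x).1 (hk x hx)
    rwa [Ideal.smul_top_eq_map] at this
  refine le_bot_iff.1 ((Ideal.pow_right_mono h n).trans ?_)
  rw [← Ideal.map_pow, hn, Ideal.zero_eq_bot, Ideal.map_bot]

/-- Lifts along `g ∘ f` give lifts along `f` for a nilpotent thickening `g`. -/
theorem HasLift.of_comp_nilpotent [Algebra A A''] [IsScalarTower A A' A''] (h : HasLift A A'')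
    (hs : Function.Surjective (algebraMap A' A'')) (hn : IsNilpotent (RingHom.ker (algebraMap A' A''))) :
    HasLift A A' := by
  intro B' _ _ hB
  obtain ⟨C, _, _, hC, ⟨e⟩⟩ := h (A'' ⊗[A'] B') inferInstance
  let e' : A'' ⊗[A'] (A' ⊗[A] C) ≃ₐ[A''] A'' ⊗[A'] B' :=
    (Algebra.TensorProduct.cancelBaseChange A A' A'' A'' C).trans e
  let π : (A' ⊗[A] C) →ₐ[A'] A'' ⊗[A'] B' :=
    (e'.toAlgHom.restrictScalars A').comp Algebra.TensorProduct.includeRight
  refine ⟨C, inferInstance, inferInstance, hC, nonempty_algEquiv_of_reduction π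
    (Algebra.TensorProduct.includeRight : B' →ₐ[A'] A'' ⊗[A'] B')
    (e'.surjective.comp fun z => EtAlg23.tmul_surjective_of_surjective hs z)
    (fun z => EtAlg23.tmul_surjective_of_surjective hs z)
    (isNilpotent_ker_one_tmul (Q := A'') _ (fun x hx => e'.injective (hx.trans (map_zero e').symm)) hs hn)
    (isNilpotent_ker_one_tmul (Q := A'') _ (fun x hx => hx) hs hn)⟩

/-- Frobenius landing in a subring gives lifts. -/
theorem hasLift_of_frobenius (p : ℕ) [hp : Fact p.Prime] (R₀ R : Type u) [CommRing R₀] [CommRing R]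
    [Algebra R₀ R] (hinj : Function.Injective (algebraMap R₀ R)) (hpR : (p : R) = 0)
    (hr : ∀ r : R, ∃ r₀, algebraMap R₀ R r₀ = r ^ p) : HasLift R₀ R := by
  intro B _ _ hB
  rcases subsingleton_or_nontrivial B with hsub | hnt
  · haveI : Subsingleton (Localization.Away (0 : R₀)) :=
      IsLocalization.subsingleton (M := Submonoid.powers (0 : R₀)) (Submonoid.mem_powers 0)
    refine ⟨Localization.Away (0 : R₀), inferInstance, inferInstance,
      Algebra.Etale.of_isLocalizationAway (0 : R₀), ?_⟩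
    · haveI : Subsingleton (R ⊗[R₀] Localization.Away (0 : R₀)) := subsingleton_of_forall_eq 0 fun z => by
        induction z using TensorProduct.induction_on with
        | zero => rfl
        | tmul a b => rw [Subsingleton.elim b 0, TensorProduct.tmul_zero]
        | add a b ha hb => rw [ha, hb, add_zero]
      exact ⟨AlgEquiv.ofBijective
        { toFun := fun _ => 0
          map_one' := Subsingleton.elim _ _
          map_mul' := fun _ _ => Subsingleton.elim _ _
          map_zero' := rfl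
          map_add' := fun _ _ => Subsingleton.elim _ _
          commutes' := fun _ => Subsingleton.elim _ _ }
        ⟨fun _ _ _ => Subsingleton.elim _ _, fun b => ⟨0, Subsingleton.elim _ _⟩⟩⟩
  haveI : Nontrivial R := (algebraMap R B).domain_nontrivial
  haveI : CharP R p := (CharP.charP_iff_prime_eq_zero hp.out).2 hpR
  haveI : CharP B p := (CharP.charP_iff_prime_eq_zero hp.out).2 (by
    rw [← map_natCast (algebraMap R B), hpR, map_zero])
  choose φ hφ using hr
  let Φ : R →+* R₀ :=
    { toFun := φ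
      map_one' := hinj (by rw [hφ, map_one, one_pow])
      map_mul' := fun x y => hinj (by rw [map_mul, hφ, hφ, hφ, mul_pow])
      map_zero' := hinj (by rw [hφ, map_zero, zero_pow hp.out.ne_zero])
      map_add' := fun x y => hinj (by rw [map_add, hφ, hφ, hφ, add_pow_char]) }
  letI : Algebra R R₀ := Φ.toAlgebra
  letI : Algebra R₀ (FrobAlg.Twist p R) := ‹Algebra R₀ R›
  haveI : IsScalarTower R R₀ (FrobAlg.Twist p R) := IsScalarTower.of_algebraMap_eq fun r => by
    show FrobAlg.toTwist p R (r ^ p) = FrobAlg.toTwist p R (algebraMap R₀ R (φ r))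
    rw [hφ]
  let C := R₀ ⊗[R] B
  let E : FrobAlg.Twist p R ⊗[R₀] C ≃+* B :=
    ((Algebra.TensorProduct.cancelBaseChange R R₀ (FrobAlg.Twist p R) (FrobAlg.Twist p R) B).toRingEquiv.trans
      (Algebra.TensorProduct.comm R (FrobAlg.Twist p R) B).toRingEquiv).trans
      (RingEquiv.ofBijective (FrobAlg.relFrob p R B) (FrobAlg53.bijective_relFrob_of_etale p R B))
  refine ⟨C, inferInstance, inferInstance, inferInstance,
    ⟨AlgEquiv.ofRingEquiv (f := (show R ⊗[R₀] C ≃+* B from E)) fun r => ?_⟩⟩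
  show E ((FrobAlg.toTwist p R r) ⊗ₜ[R₀] (1 : C)) = algebraMap R B r
  simp only [E, RingEquiv.trans_apply]
  erw [Algebra.TensorProduct.cancelBaseChange_tmul]
  simp [FrobAlg53.relFrob_tmul]

variable (A A') in
/-- A lift along `A/J ⟶ A'/JA'` gives one along `A ⟶ A'`. -/
theorem hasLift_of_conductor (hinj : Function.Injective (algebraMap A A')) (J : Ideal A)
    (hJ : MilnorEt.IsConductor A' J) (h : HasLift (A ⧸ J) (A' ⧸ J.map (algebraMap A A'))) :
    HasLift A A' := by
  intro B' _ _ hB
  obtain ⟨C, _, _, hC, ⟨φ⟩⟩ := h ((A' ⧸ J.map (algebraMap A A')) ⊗[A'] B') inferInstance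
  exact MilnorEt.exists_etale_glue hinj hJ B' C φ

set_option maxHeartbeats 1000000 in
/-- One elementary step. -/
theorem hasLift_step (hinj : Function.Injective (algebraMap A A')) (b : A')
    (hgen : Algebra.adjoin A {b} = ⊤)
    (hb : (b ^ 2 ∈ Set.range (algebraMap A A') ∧ b ^ 3 ∈ Set.range (algebraMap A A')) ∨
      ∃ p : ℕ, p.Prime ∧ (p : A') * b ∈ Set.range (algebraMap A A') ∧
        b ^ p ∈ Set.range (algebraMap A A')) : HasLift A A' := by
  let J : Ideal A :=
    { carrier := {a | ∀ x : A', algebraMap A A' a * x ∈ (algebraMap A A').range}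
      add_mem' := fun {a a'} h h' x => by rw [map_add, add_mul]; exact add_mem (h x) (h' x)
      zero_mem' := fun x => by rw [map_zero, zero_mul]; exact zero_mem _
      smul_mem' := fun c a h x => by
        rw [smul_eq_mul, map_mul, mul_assoc]; exact mul_mem ⟨c, rfl⟩ (h x) }
  have hJ : MilnorEt.IsConductor A' J := fun j hj x => by
    obtain ⟨j', hj'⟩ := hj x
    refine ⟨j', fun y => ?_, hj'⟩
    rw [hj', mul_assoc]; exact hj _
  have hpoly : ∀ x : A', ∃ P : Polynomial A, Polynomial.aeval b P = x := fun x => by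
    have : x ∈ Algebra.adjoin A {b} := hgen ▸ Algebra.mem_top
    rwa [Algebra.adjoin_singleton_eq_range_aeval] at this
  have hJmem : ∀ a : A, (∀ k : ℕ, algebraMap A A' a * b ^ k ∈ (algebraMap A A').range) → a ∈ J := by
    intro a ha x
    obtain ⟨P, rfl⟩ := hpoly x
    induction P using Polynomial.induction_on' with
    | add P Q hP hQ => rw [map_add, mul_add]; exact add_mem hP hQ
    | monomial n c =>
      rw [Polynomial.aeval_monomial, mul_left_comm]; exact mul_mem ⟨c, rfl⟩ (ha n)
  refine hasLift_of_conductor A A' hinj J hJ ?_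
  let I := J.map (algebraMap A A')
  let bb : A' ⧸ I := Ideal.Quotient.mk I b
  have hgenQ : Algebra.adjoin (A ⧸ J) {bb} = ⊤ := eq_top_iff.2 fun y hy0 => by
    clear hy0
    obtain ⟨x, rfl⟩ := Ideal.Quotient.mk_surjective y
    obtain ⟨P, rfl⟩ := hpoly x
    induction P using Polynomial.induction_on' with
    | add P Q hP hQ => rw [map_add, map_add]; exact add_mem hP hQ
    | monomial n c =>
      rw [Polynomial.aeval_monomial, map_mul, map_pow]
      refine Subalgebra.mul_mem _ ?_ (Subalgebra.pow_mem _ (Algebra.subset_adjoin (Set.mem_singleton bb)) n)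
      rw [← Ideal.Quotient.algebraMap_quotient_map_quotient (p := J) c]
      exact Subalgebra.algebraMap_mem _ _
  rcases hb with ⟨⟨c, hc⟩, ⟨d, hd⟩⟩ | ⟨p, hp, ⟨c, hc⟩, ⟨d, hd⟩⟩
  · have hk : ∀ k : ℕ, b ^ (k + 2) ∈ (algebraMap A A').range := fun k => by
      induction k using Nat.strong_induction_on with
      | _ k ih =>
        match k with
        | 0 => exact ⟨c, hc⟩
        | 1 => exact ⟨d, hd⟩
        | k + 2 => rw [pow_add]; exact mul_mem (ih k (by omega)) ⟨c, hc⟩
    have hcJ : c ∈ J := hJmem c fun k => by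
      rw [hc, ← pow_add, add_comm]; exact hk k
    have hb2 : bb ^ 2 = 0 := by
      rw [← map_pow, ← hc, Ideal.Quotient.eq_zero_iff_mem]
      exact Ideal.mem_map_of_mem _ hcJ
    let Q := (A' ⧸ I) ⧸ Ideal.span {bb}
    refine HasLift.of_comp_nilpotent (A'' := Q) (hasLift_of_surjective fun y => ?_)
      Ideal.Quotient.mk_surjective ⟨2, ?_⟩
    · obtain ⟨x, rfl⟩ := Ideal.Quotient.mk_surjective y
      have hx : x ∈ Algebra.adjoin (A ⧸ J) {bb} := hgenQ ▸ Algebra.mem_top
      induction hx using Algebra.adjoin_induction with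
      | mem x hx =>
        obtain rfl := hx
        exact ⟨0, by rw [map_zero, eq_comm, Ideal.Quotient.eq_zero_iff_mem]; exact Ideal.mem_span_singleton_self _⟩
      | algebraMap r => exact ⟨r, IsScalarTower.algebraMap_apply _ (A' ⧸ I) Q r⟩
      | add x y _ _ hx hy =>
        obtain ⟨r, hr⟩ := hx
        obtain ⟨s, hs⟩ := hy
        exact ⟨r + s, by rw [map_add, map_add, hr, hs]⟩
      | mul x y _ _ hx hy =>
        obtain ⟨r, hr⟩ := hx
        obtain ⟨s, hs⟩ := hy
        exact ⟨r * s, by rw [map_mul, map_mul, hr, hs]⟩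
    · rw [show RingHom.ker (algebraMap (A' ⧸ I) Q) = Ideal.span {bb} from Ideal.mk_ker,
        Ideal.span_singleton_pow, hb2, Ideal.zero_eq_bot, Ideal.span_singleton_eq_bot]
  · haveI := Fact.mk hp
    have hpJ : ((p : A) ^ p) ∈ J := hJmem _ fun k => by
      rw [map_pow, map_natCast, ← Nat.div_add_mod k p, pow_add, pow_mul, ← hd, ← mul_assoc,
        mul_comm ((p : A') ^ p), mul_assoc,
        show (p : A') ^ p * b ^ (k % p) = (p : A') ^ (p - k % p) * ((p : A') * b) ^ (k % p) by
          rw [mul_pow, ← mul_assoc, ← pow_add, Nat.sub_add_cancel (Nat.mod_lt k hp.pos).le]]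
      exact Subring.mul_mem _ (Subring.pow_mem _ (RingHom.mem_range_self (algebraMap A A') d) _)
        (Subring.mul_mem _ (Subring.pow_mem _ (RingHom.mem_range.2 ⟨(p : A), map_natCast _ _⟩) _)
          (Subring.pow_mem _ (RingHom.mem_range.2 ⟨c, hc⟩) _))
    let Q := (A' ⧸ I) ⧸ Ideal.span {(p : A' ⧸ I)}
    have hpQ : (p : Q) = 0 := by
      rw [← map_natCast (Ideal.Quotient.mk (Ideal.span {(p : A' ⧸ I)})), Ideal.Quotient.eq_zero_iff_mem]
      exact Ideal.mem_span_singleton_self _
    refine HasLift.of_comp_nilpotent (A'' := Q) ?_ Ideal.Quotient.mk_surjective ⟨p, ?_⟩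
    · let R₀ : Subalgebra (A ⧸ J) Q := ⊥
      have h1 : HasLift (A ⧸ J) R₀ := hasLift_of_surjective fun y => by
        obtain ⟨r, hr⟩ := Algebra.mem_bot.1 y.2
        exact ⟨r, Subtype.ext hr⟩
      refine h1.comp (hasLift_of_frobenius p R₀ Q Subtype.val_injective hpQ fun y => ?_)
      suffices y ^ p ∈ R₀ from ⟨⟨_, this⟩, rfl⟩
      obtain ⟨x, rfl⟩ := Ideal.Quotient.mk_surjective y
      have hx : x ∈ Algebra.adjoin (A ⧸ J) {bb} := hgenQ ▸ Algebra.mem_top
      induction hx using Algebra.adjoin_induction with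
      | mem x hx =>
        obtain rfl := hx
        refine Algebra.mem_bot.2 ⟨Ideal.Quotient.mk J d, ?_⟩
        rw [IsScalarTower.algebraMap_apply _ (A' ⧸ I) Q, Ideal.Quotient.algebraMap_quotient_map_quotient,
          hd, map_pow, map_pow]
        rfl
      | algebraMap r =>
        rw [← Ideal.Quotient.algebraMap_eq, ← IsScalarTower.algebraMap_apply, ← map_pow]
        exact Subalgebra.algebraMap_mem _ _
      | add x y _ _ hx hy =>
        have e : (Ideal.Quotient.mk _ (x + y) : Q) ^ p = (Ideal.Quotient.mk _ x : Q) ^ p + (Ideal.Quotient.mk _ y : Q) ^ p := by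
          obtain ⟨r, hr⟩ := exists_add_pow_prime_eq hp (Ideal.Quotient.mk _ x : Q) (Ideal.Quotient.mk _ y)
          rw [map_add, hr, hpQ]
          simp
        rw [e]; exact add_mem hx hy
      | mul x y _ _ hx hy =>
        rw [map_mul, mul_pow]; exact mul_mem hx hy
    · rw [show RingHom.ker (algebraMap (A' ⧸ I) Q) = Ideal.span {(p : A' ⧸ I)} from Ideal.mk_ker,
        Ideal.span_singleton_pow, Ideal.zero_eq_bot, Ideal.span_singleton_eq_bot,
        ← map_natCast (Ideal.Quotient.mk I), ← map_pow, Ideal.Quotient.eq_zero_iff_mem]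
      have := Ideal.mem_map_of_mem (algebraMap A A') hpJ
      rwa [map_pow, map_natCast] at this

/-- Lifting along a tower of elementary steps. -/
theorem hasLift_tower {hP : Prop} {l : List A'} (hl : UH57.Tower hP A l) :
    ∀ (S : Subalgebra A A'), S = Algebra.adjoin A {x : A' | x ∈ l} → HasLift A S := by
  induction hl with
  | nil =>
    intro S hS
    exact hasLift_of_surjective fun y => by
      have hy : (y : A') ∈ (⊥ : Subalgebra A A') := by
        have h2 : (y : A') ∈ Algebra.adjoin A {x : A' | x ∈ ([] : List A')} := hS.le y.2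
        simpa using h2
      obtain ⟨r, hr⟩ := Algebra.mem_bot.1 hy
      exact ⟨r, Subtype.ext hr⟩
  | @snoc l b _ hb ih =>
    intro T hT
    let S := Algebra.adjoin A {x : A' | x ∈ l}
    have hST : S ≤ T := hT ▸ Algebra.adjoin_mono fun x hx => List.mem_append_left _ hx
    have hbT : b ∈ T := hT ▸ Algebra.subset_adjoin (List.mem_append_right _ (List.mem_singleton_self b))
    letI : Algebra S T := (Subalgebra.inclusion hST).toRingHom.toAlgebra
    haveI : IsScalarTower A S T := IsScalarTower.of_algebraMap_eq fun a => rfl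
    refine (ih S rfl).comp (hasLift_step (A := S) (A' := T) (Subalgebra.inclusion_injective hST) ⟨b, hbT⟩ ?_ ?_)
    · refine eq_top_iff.2 fun y hy0 => ?_
      clear hy0
      obtain ⟨y, hy⟩ := y
      have hy' : y ∈ Algebra.adjoin A {x : A' | x ∈ l ++ [b]} := hT ▸ hy
      suffices ∃ h : y ∈ T, (⟨y, h⟩ : T) ∈ Algebra.adjoin S {(⟨b, hbT⟩ : T)} from this.2
      clear hy
      induction hy' using Algebra.adjoin_induction with
      | mem x hx =>
        rcases List.mem_append.1 hx with hx | hx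
        · exact ⟨hST (Algebra.subset_adjoin hx),
            Subalgebra.algebraMap_mem (Algebra.adjoin S {(⟨b, hbT⟩ : T)}) ⟨x, Algebra.subset_adjoin hx⟩⟩
        · obtain rfl := List.mem_singleton.1 hx
          exact ⟨hbT, Algebra.subset_adjoin rfl⟩
      | algebraMap r =>
        exact ⟨T.algebraMap_mem r, Subalgebra.algebraMap_mem (Algebra.adjoin S {(⟨b, hbT⟩ : T)}) (algebraMap A S r)⟩
      | add x y _ _ hx hy => exact ⟨add_mem hx.1 hy.1, add_mem hx.2 hy.2⟩
      | mul x y _ _ hx hy => exact ⟨mul_mem hx.1 hy.1, mul_mem hx.2 hy.2⟩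
    · rcases hb with ⟨h2, h3⟩ | ⟨-, p, hp, h1, h2⟩
      · exact .inl ⟨⟨⟨_, h2⟩, Subtype.ext rfl⟩, ⟨⟨_, h3⟩, Subtype.ext rfl⟩⟩
      · exact .inr ⟨p, hp, ⟨⟨_, h1⟩, Subtype.ext (by simp; rfl)⟩, ⟨⟨_, h2⟩, Subtype.ext rfl⟩⟩

/-- Etale algebras descend along universal homeomorphisms. -/
theorem hasLift_of_forall_inCl (h : ∀ x : A', UH57.InCl True A x) : HasLift A A' := by
  intro B' _ _ hB
  obtain ⟨A₀, B₀, _, _, hfg, hB₀, ⟨e₀⟩⟩ := Algebra.Etale.exists_subalgebra_fg A A' B'
  obtain ⟨E, hE⟩ := hfg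
  obtain ⟨l, hl, hEl⟩ := UH57.exists_tower_finset h E
  let T := Algebra.adjoin A {x : A' | x ∈ l}
  have hle : A₀ ≤ T := hE ▸ Algebra.adjoin_le hEl
  letI : Algebra A₀ T := (Subalgebra.inclusion hle).toRingHom.toAlgebra
  haveI : IsScalarTower A₀ T A' := IsScalarTower.of_algebraMap_eq fun _ => rfl
  obtain ⟨C, _, _, hC, ⟨e⟩⟩ := hasLift_tower hl T rfl (T ⊗[A₀] B₀) inferInstance
  haveI : IsScalarTower A T A' := inferInstance
  exact ⟨C, inferInstance, inferInstance, hC,
    ⟨((Algebra.TensorProduct.cancelBaseChange A T A' A' C).symm.trans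
      (Algebra.TensorProduct.congr AlgEquiv.refl e)).trans
      ((Algebra.TensorProduct.cancelBaseChange A₀ T A' A' B₀).trans e₀.symm)⟩⟩

end Groth.Agent.Unr55.UHLift
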