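import Groth.Agent.Unr55.Et.EtEquiv
import Groth.Agent.Unr55.Et.UHLift
import Mathlib.AlgebraicGeometry.Morphisms.Integral
import Mathlib.AlgebraicGeometry.Morphisms.UniversallyInjective

/-!
Topological invariance of the small etale site.
-/

universe u

open CategoryTheory CategoryTheory.Limits AlgebraicGeometry TensorProduct

namespace Groth.Agent.Unr55.EtGlue

set_option backward.isDefEq.respectTransparency.types false
set_option linter.style.haveILetI false

theorem lift_of_isIntegralHom {X Y : Scheme.{u}} (f : X ⟶ Y) [IsIntegralHom f] [UniversallyInjective f]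
    [Surjective f] (U' : Scheme.{u}) (p' : U' ⟶ X) [Etale p'] (x : U') :
    ∃ W : U'.Opens, x ∈ W ∧ Nonempty (Lift p' f W) := by
  obtain ⟨A, jA, hjA, hxA, -⟩ := AlgebraicGeometry.Scheme.exists_affine_mem_range_and_range_subset
    (x := f (p' x)) (U := (⊤ : Y.Opens)) trivial
  let P₀ := pullback f jA
  have : IsAffine P₀ := isAffine_of_isAffineHom (pullback.snd f jA)
  let A' := Γ(P₀, ⊤)
  obtain ⟨ψ, hψ⟩ := Spec.map_surjective (P₀.isoSpec.inv ≫ pullback.snd f jA)
  let z : Spec A' ⟶ X := P₀.isoSpec.inv ≫ pullback.fst f jA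
  have hz : IsPullback (Spec.map ψ) z jA f :=
    ((IsPullback.of_hasPullback f jA).flip).of_iso P₀.isoSpec (Iso.refl _) (Iso.refl _) (Iso.refl _)
      (by simp [hψ]) (by simp [z]) (by simp) (by simp)
  algebraize [ψ.hom]
  have hUH : FlatMor.IsUnivHomeo (Spec.map (CommRingCat.ofHom (algebraMap A A'))) := by
    rw [Groth.Agent.UH57.isUnivHomeo_iff']
    have h1 : IsIntegralHom (Spec.map ψ) := MorphismProperty.of_isPullback hz.flip ‹IsIntegralHom f›
    exact ⟨(inferInstance : UniversallyClosed (Spec.map ψ)),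
      (MorphismProperty.of_isPullback hz.flip ‹UniversallyInjective f› : UniversallyInjective (Spec.map ψ)),
      (MorphismProperty.of_isPullback hz.flip ‹Surjective f› : Surjective (Spec.map ψ))⟩
  obtain ⟨hi, hri, -⟩ := Groth.Agent.UH57.isUnivHomeo_iff.1 hUH
  obtain ⟨y, hy⟩ : p' x ∈ Set.range z := by
    obtain ⟨a, ha⟩ := hxA
    obtain ⟨w, hw1, hw2⟩ := Scheme.Pullback.exists_preimage_pullback (f := f) (g := jA) (p' x) a ha.symm
    refine ⟨P₀.isoSpec.hom w, ?_⟩
    change (P₀.isoSpec.hom ≫ z) w = p' x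
    simp [z, hw1, P₀]
  obtain ⟨u, hu1, -⟩ := Scheme.Pullback.exists_preimage_pullback (f := p') (g := z) x y hy.symm
  obtain ⟨B, jB, hjB, huB, -⟩ := AlgebraicGeometry.Scheme.exists_affine_mem_range_and_range_subset
    (x := u) (U := (⊤ : (pullback p' z).Opens)) trivial
  obtain ⟨φ, hφ⟩ := Spec.map_surjective (jB ≫ pullback.snd p' z)
  have hφe : φ.hom.Etale := by
    have hc : Etale (jB ≫ pullback.snd p' z) := inferInstance
    rw [← hφ] at hc
    exact HasRingHomProperty.Spec_iff.1 hc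
  letI : Algebra A' B := φ.hom.toAlgebra
  obtain ⟨C, _, _, hC, ⟨e⟩⟩ := UHLift.hasLift_of_forall_inCl
    (fun b => Groth.Agent.UH57.all_of_ri (hp := True) (.inl trivial) hi hri b) B hφe
  let d : C →+* B := e.toRingEquiv.toRingHom.comp
    (Algebra.TensorProduct.includeRight : C →ₐ[A] A' ⊗[A] C).toRingHom
  have hpo : IsPushout ψ (CommRingCat.ofHom (algebraMap A C)) φ (CommRingCat.ofHom d) :=
    (CommRingCat.isPushout_tensorProduct A A' C).of_iso (Iso.refl _) (Iso.refl _) (Iso.refl _)
      (e.toRingEquiv.toCommRingCatIso) (by ext; rfl) (by ext; rfl)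
      (CommRingCat.hom_ext (RingHom.ext fun a => e.commutes a)) (by ext; rfl)
  let q : Spec (CommRingCat.of C) ⟶ Y := Spec.map (CommRingCat.ofHom (algebraMap A C)) ≫ jA
  have : Etale (Spec.map (CommRingCat.ofHom (algebraMap A C))) :=
    HasRingHomProperty.Spec_iff.2 (RingHom.etale_algebraMap.2 hC)
  have hq : Etale q := inferInstance
  let k : Spec B ⟶ U' := jB ≫ pullback.fst p' z
  have hzo : IsOpenImmersion z := inferInstance
  have hk : IsOpenImmersion k := inferInstance
  have hkp : k ≫ p' = Spec.map φ ≫ z := by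
    rw [hφ, Category.assoc, pullback.condition]
    exact (Category.assoc _ _ _).symm
  have hsq : IsPullback (Spec.map (CommRingCat.ofHom d)) (k ≫ p') q f := by
    rw [hkp]
    exact ((isPullback_SpecMap_of_isPushout _ _ _ _ hpo).flip.paste_vert hz)
  refine ⟨k.opensRange, ?_, ⟨⟨_, q, k.isoOpensRange.inv ≫ Spec.map (CommRingCat.ofHom d), ?_⟩⟩⟩
  · obtain ⟨b, hb⟩ := huB
    exact ⟨b, by simp [k, hb, hu1]⟩
  · refine hsq.of_iso k.isoOpensRange (Iso.refl _) (Iso.refl _) (Iso.refl _) ?_ ?_ ?_ ?_ <;> simp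

theorem bc_isEquivalence_of_isIntegralHom {X Y : Scheme.{u}} (f : X ⟶ Y) [IsIntegralHom f]
    [UniversallyInjective f] [Surjective f] : (EtCoh.bc f).IsEquivalence :=
  bc_isEquivalence f (isUnivHomeo_of_universallyClosed f) fun U' p' _ x => lift_of_isIntegralHom f U' p' x

end Groth.Agent.Unr55.EtGlue
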