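import Groth.Agent.Unr55.Et.Stalk
import Groth.Agent.Henz21.EtaleSection

/-!
Global sections over a strictly henselian local ring.
-/

universe u

open CategoryTheory CategoryTheory.Limits AlgebraicGeometry Opposite

namespace Groth.Agent.Unr55.EtSh

set_option backward.isDefEq.respectTransparency.types false

variable (R : Type u) [CommRing R] [HenselianLocalRing R] [IsSepClosed (IsLocalRing.ResidueField R)]

/-- The closed geometric point. -/
noncomputable abbrev closedPt : Spec (CommRingCat.of (IsLocalRing.ResidueField R)) ⟶ Spec (CommRingCat.of R) :=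
  Spec.map (CommRingCat.ofHom (IsLocalRing.residue R))

/-- The tautological neighbourhood. -/
noncomputable abbrev topPt : Pt (closedPt R) (EtCoh.top (Spec (CommRingCat.of R))) :=
  Over.homMk (closedPt R) (Category.comp_id _)

theorem exists_section_top {U : (Spec (CommRingCat.of R)).Etale} (t : Pt (closedPt R) U) :
    ∃ g : EtCoh.top (Spec (CommRingCat.of R)) ⟶ U,
      (Scheme.pointSmallEtale (closedPt R)).fiber.map g (topPt R) = t := by
  have : Etale U.hom := U.prop
  obtain ⟨s, ⟨hs1, hs2⟩, -⟩ := Groth.Agent.Henz21.existsUnique_section U.hom (hom (closedPt R) t) (Over.w t)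
  exact ⟨MorphismProperty.Over.homMk s hs1 trivial, Over.OverMorphism.ext hs2⟩

theorem germ_top_bijective (F : EtCoh.Ab (Spec (CommRingCat.of R))) :
    Function.Bijective (germ (closedPt R) F (topPt R)) := by
  constructor
  · refine (injective_iff_map_eq_zero _).2 fun σ hσ => ?_
    obtain ⟨V, g, t, -, h2⟩ := (germ_eq_zero_iff _ F _ σ).1 hσ
    obtain ⟨s, -⟩ := exists_section_top R t
    have hid : s ≫ g = 𝟙 _ := by
      refine MorphismProperty.Over.Hom.ext ?_
      have e : (s ≫ g).left ≫ (EtCoh.top (Spec (CommRingCat.of R))).hom =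
        (EtCoh.top (Spec (CommRingCat.of R))).hom := Over.w (s ≫ g).hom
      exact (Category.comp_id _).symm.trans e
    calc σ = F.obj.map (s ≫ g).op σ := by rw [hid, op_id, CategoryTheory.Functor.map_id, ConcreteCategory.id_apply]
      _ = F.obj.map s.op (F.obj.map g.op σ) := by rw [op_comp, Functor.map_comp, ConcreteCategory.comp_apply]
      _ = 0 := by rw [h2, map_zero]
  · intro a
    obtain ⟨U, t, τ, rfl⟩ := exists_germ_eq (closedPt R) F a
    obtain ⟨g, hg⟩ := exists_section_top R t
    exact ⟨F.obj.map g.op τ, (germ_map (closedPt R) F g (topPt R) τ).trans (by rw [hg])⟩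

end Groth.Agent.Unr55.EtSh
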