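import Groth.Agent.Unr55.Et.GaEnd
import Groth.Agent.Unr55.Et.ArtinSchreierEt
import Groth.Agent.Unr55.FrobSemi
import Groth.Agent.Serre71.Finite
import Groth.Agent.Crv77.Degree

/-!
Finiteness of `H^q(X, ℤ/p)` for `X` proper over an algebraically closed field of characteristic `p`.
-/

set_option autoImplicit false
set_option backward.isDefEq.respectTransparency.types false
universe u

open CategoryTheory CategoryTheory.Limits AlgebraicGeometry Opposite TopologicalSpace CategoryTheory.Abelian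

namespace Groth.Agent.Unr55.EtAS

open Groth.Agent.Sga84

variable {X : Scheme.{u}} {p : ℕ} [hpF : Fact p.Prime] (hp : (p : Γ(X, ⊤)) = 0)

include hp

omit hpF in
theorem hpO (U : X.Opens) : (p : Γ(X, U)) = 0 := by
  let r : Γ(X, ⊤) →+* Γ(X, U) := (X.presheaf.map (homOfLE (le_top : U ≤ ⊤)).op).hom
  rw [← map_natCast r p, hp, map_zero]

/-- `s ↦ s ^ p` on the structure sheaf. -/
noncomputable def frobO : Coh.toAb (Coh.structureModule X) ⟶ Coh.toAb (Coh.structureModule X) :=
  ObjectProperty.homMk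
    { app := fun U => AddCommGrpCat.ofHom
        { toFun := fun s => show Γ(X, U.unop) from (show Γ(X, U.unop) from s) ^ p
          map_zero' := show (0 : Γ(X, U.unop)) ^ p = 0 from zero_pow hpF.out.ne_zero
          map_add' := fun s t =>
            AS.add_pow (hpO hp U.unop) (show Γ(X, U.unop) from s) (show Γ(X, U.unop) from t) }
      naturality := fun U V g => by
        ext s
        exact (map_pow (X.presheaf.map g).hom (show Γ(X, U.unop) from s) p).symm }

theorem frobO_semilinear (a : Coh.Γtop X) :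
    Coh.smulAb (Coh.structureModule X) a ≫ frobO hp =
      frobO hp ≫ Coh.smulAb (Coh.structureModule X) (a ^ p) := by
  ext U s
  let r : Γ(X, U.unop) := Coh.resTop X U a
  let t : Γ(X, U.unop) := s
  change (r * t) ^ p = (show Γ(X, U.unop) from Coh.resTop X U (a ^ p)) * t ^ p
  rw [mul_pow]
  exact congrArg (· * t ^ p) (map_pow (Coh.resTop X U) a p).symm

/-- `s ↦ s ^ p - s` on the structure sheaf. -/
noncomputable def phiO : Coh.toAb (Coh.structureModule X) ⟶ Coh.toAb (Coh.structureModule X) :=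
  frobO hp - 𝟙 _

theorem resGaIso_phi :
    (EtZar.resZar X).map (phi hp) ≫ (GaZar.resGaIso X).hom =
      (GaZar.resGaIso X).hom ≫ (GaZar.liftU X).map (phiO hp) := by
  ext U s
  apply ULift.ext
  let e : Γ((U.unop : Scheme.{u}), ⊤) →+* Γ(X, U.unop) := (Scheme.Opens.topIso U.unop).hom.hom
  let t : Γ((U.unop : Scheme.{u}), ⊤) := (show ULift.{u + 1} Γ((U.unop : Scheme.{u}), ⊤) from s).down
  let E := (GaZar.resGaIso X).hom.hom.app U
  have h1 : ∀ z : ULift.{u + 1} Γ((U.unop : Scheme.{u}), ⊤),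
      (show ULift.{u + 1} Γ(X, U.unop) from E z) = ⟨e z.down⟩ := fun z => by
    have hm : (GaZar.resGaIso X).hom.hom = _ := (sheafToPresheaf _ _).map_preimage _
    simp only [E]
    rw [hm]
    rfl
  have h2 : ((EtZar.resZar X).map (phi hp)).hom.app U s =
      (show ULift.{u + 1} Γ((U.unop : Scheme.{u}), ⊤) from ⟨t ^ p - t⟩) := rfl
  have h3 : ∀ z : ULift.{u + 1} Γ(X, U.unop),
      (show ULift.{u + 1} Γ(X, U.unop) from ((GaZar.liftU X).map (phiO hp)).hom.app U z) =
        ⟨z.down ^ p - z.down⟩ := fun z => rfl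
  change (show ULift.{u + 1} Γ(X, U.unop) from E (((EtZar.resZar X).map (phi hp)).hom.app U s)).down =
    (show ULift.{u + 1} Γ(X, U.unop) from ((GaZar.liftU X).map (phiO hp)).hom.app U (E s)).down
  rw [h2]
  refine (congrArg ULift.down (h1 ⟨t ^ p - t⟩)).trans (Eq.trans ?_ (congrArg ULift.down (h3 _)).symm)
  rw [map_sub, map_pow]
  exact congrArg (fun w : Γ(X, U.unop) => w ^ p - w) (congrArg ULift.down (h1 s)).symm

omit hp hpF in
theorem finite_of_injOn {M N : Type*} [AddCommGroup M] [AddCommGroup N] (f : M →+ N)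
    (hf : Function.Injective f) {S : Set N} (hS : S.Finite) (hr : ∀ x, f x ∈ S) : Finite M :=
  have := hS.to_subtype
  Finite.of_injective (fun x => (⟨f x, hr x⟩ : S)) fun _ _ h => hf (congrArg Subtype.val h)

variable {k : Type u} [Field k] [IsAlgClosed k] [CharP k p]
  (f : X ⟶ Spec (CommRingCat.of k)) [IsProper f]

include f

theorem finite_and_surjective (q : ℕ) :
    Set.Finite {x : EtCoh.H X (EtCoh.Ga X) q | x.comp (Ext.mk₀ (phi hp)) (add_zero q) = 0} ∧
      Function.Surjective fun x : EtCoh.H X (EtCoh.Ga X) q => x.comp (Ext.mk₀ (phi hp)) (add_zero q) := by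
  let : X.Over (Spec (CommRingCat.of k)) := ⟨f⟩
  have : IsProper (X ↘ Spec (CommRingCat.of k)) := ‹IsProper f›
  let V := Coh.HH X (Coh.structureModule X) q
  have : Module.Finite k V :=
    Serre71.finite_hh_of_isProper k (Coh.structureModule X) Crv77.isCoh_structureModule q
  let F : V →+ V := Sheaf.H.map (frobO hp) q
  have hF : ∀ (c : k) (v : V), F (c • v) = c ^ p • F v := fun c v => by
    let a := Coh.toGlobal (X ↘ Spec (CommRingCat.of k)) c
    have ha : Coh.toGlobal (X ↘ Spec (CommRingCat.of k)) (c ^ p) = a ^ p := map_pow _ c p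
    rw [Crv77.smul_eq_map, Crv77.smul_eq_map, ha]
    change Sheaf.H.map (frobO hp) q (Sheaf.H.map (Coh.smulAb (Coh.structureModule X) a) q v) =
      Sheaf.H.map (Coh.smulAb (Coh.structureModule X) (a ^ p)) q (Sheaf.H.map (frobO hp) q v)
    rw [← Sheaf.H.map_comp_apply, ← Sheaf.H.map_comp_apply, frobO_semilinear]
  have hphi : ∀ v : V, v.comp (Ext.mk₀ (phiO hp)) (add_zero q) = F v - v := fun v => by
    have h := Sheaf.H.map_add_apply (phiO hp) (𝟙 _) (n := q) v
    rw [show phiO hp + 𝟙 _ = frobO hp from sub_add_cancel _ _, Sheaf.H.map_id_apply] at h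
    exact eq_sub_of_add_eq h.symm
  obtain ⟨ε, hε⟩ := GaZar.H_Ga_equiv_end X q
  have key : ∀ x, ε (x.comp (Ext.mk₀ (phi hp)) (add_zero q)) = F (ε x) - ε x := fun x =>
    (hε _ _ (resGaIso_phi hp) x).trans (hphi _)
  refine ⟨?_, fun y => ?_⟩
  · refine ((FrobSemi.finite_fixed p F hF).1.preimage ε.injective.injOn).subset fun x hx => ?_
    have h := key x
    rw [hx, map_zero] at h
    exact sub_eq_zero.1 h.symm
  · obtain ⟨v, hv⟩ := FrobSemi.surjective_sub_id p F hF (ε y)
    obtain ⟨x, rfl⟩ := ε.surjective v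
    exact ⟨x, ε.injective ((key x).trans hv)⟩

theorem finite_H_const (q : ℕ) : Finite (EtCoh.H X (EtCoh.const X (ZMod p)) q) := by
  have hS := shortExact_seq hp
  refine finite_of_injOn ((Ext.mk₀ (iota hp)).postcomp _ (add_zero q)) ?_
    (finite_and_surjective hp f q).1 fun x => ?_
  · rw [injective_iff_map_eq_zero]
    intro x hx
    cases q with
    | zero =>
      obtain ⟨c, rfl⟩ := (Ext.mk₀_bijective _ _).2 x
      have : Mono (iota hp) := hS.mono_f
      change (Ext.mk₀ c).comp (Ext.mk₀ (iota hp)) (add_zero 0) = 0 at hx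
      rw [Ext.mk₀_comp_mk₀] at hx
      rw [show c = 0 from (cancel_mono (iota hp)).1 (((Ext.mk₀_bijective _ _).1 (hx.trans (Ext.mk₀_zero _ _).symm)).trans zero_comp.symm),
        Ext.mk₀_zero]
    | succ q =>
      obtain ⟨y, rfl⟩ := Ext.covariant_sequence_exact₁ _ hS x hx rfl
      obtain ⟨z, rfl⟩ := (finite_and_surjective hp f q).2 y
      change (z.comp (Ext.mk₀ (seq hp).g) (add_zero q)).comp hS.extClass rfl = 0
      rw [Ext.comp_assoc_of_second_deg_zero, hS.comp_extClass, Ext.comp_zero]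
  · change (x.comp (Ext.mk₀ (iota hp)) (add_zero q)).comp (Ext.mk₀ (phi hp)) (add_zero q) = 0
    rw [Ext.comp_assoc_of_second_deg_zero, Ext.mk₀_comp_mk₀, (seq hp).zero, Ext.mk₀_zero, Ext.comp_zero]

end Groth.Agent.Unr55.EtAS
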