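import Groth.Agent.Unr55.Et.FiniteHensH
import Groth.Agent.Unr55.Et.Open
import Groth.Agent.Unr55.UnrQF
import Groth.Agent.Unr55.TopInv
import Groth.Agent.Spec91.Basic
import Mathlib.Topology.Separation.DisjointCover
import Mathlib.AlgebraicGeometry.PullbackCarrier
import Mathlib.FieldTheory.IsSepClosed

/-!
Zero-dimensional affine schemes with separably closed residue fields have no etale cohomology.
-/

universe u

open CategoryTheory CategoryTheory.Limits AlgebraicGeometry Opposite TopologicalSpace

namespace Groth.Agent.Unr55.EtSh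

set_option backward.isDefEq.respectTransparency.types false

theorem isClosed_singleton_of_etale {U S : Scheme.{u}} (g : U ⟶ S) [Etale g]
    (h1 : ∀ s : S, IsClosed ({s} : Set S)) (u : U) : IsClosed ({u} : Set U) := by
  rw [← closure_subset_iff_isClosed]
  intro w hw
  have hs : u ⤳ w := specializes_iff_mem_closure.2 hw
  have he : g u = g w := by
    have := specializes_iff_mem_closure.1 (hs.map g.continuous)
    rw [(h1 (g u)).closure_eq] at this
    exact this.symm
  have := Groth.Agent.Unr55.locallyQuasiFinite_of_formallyUnramified g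
  obtain ⟨V, hV, hVb⟩ := isDiscrete_iff_forall_mem_exists_isOpen.1
    (g.isDiscrete_preimage_singleton (g w)) w rfl
  exact Set.mem_singleton_iff.2 (hVb.le ⟨hs.mem_open hV (hVb.ge rfl).1, he⟩).symm

theorem isIso_residueFieldMap {U S : Scheme.{u}} (g : U ⟶ S) [Etale g] (u : U)
    (hsc : IsSepClosed (S.residueField (g u))) : IsIso (g.residueFieldMap u) := by
  rw [ConcreteCategory.isIso_iff_bijective]
  let : Algebra (S.residueField (g.base u)) (U.residueField u) := (g.residueFieldMap u).hom.toAlgebra
  exact ⟨(g.residueFieldMap u).hom.injective,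
    IsSepClosed.algebraMap_surjective (S.residueField (g.base u)) (U.residueField u)⟩

theorem exists_section_near {U S : Scheme.{u}} (g : U ⟶ S) [Etale g] [IsAffine S]
    (h1 : ∀ s : S, IsClosed ({s} : Set S)) (h2 : ∀ s : S, IsSepClosed (S.residueField s)) (u : U) :
    ∃ (O : S.Opens) (v : O.toScheme ⟶ U), g u ∈ O ∧ v ≫ g = O.ι := by
  obtain ⟨W, hW, huW, -⟩ := exists_isAffineOpen_mem_and_subset (X := U) (x := u) (U := ⊤) trivial
  have : IsAffine W.toScheme := hW
  let h := W.ι ≫ g
  let u' : W.toScheme := ⟨u, huW⟩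
  have hcl := fun w => isClosed_singleton_of_etale h h1 w
  have : T2Space W.toScheme := by
    have : QuasiSeparatedSpace W.toScheme := inferInstance
    have : SpectralSpace W.toScheme := { }
    exact (Groth.Agent.Spec91.t2Space_of_forall_isClosed hcl).1
  have hiso := isIso_residueFieldMap h u' (h2 _)
  -- the points off the diagonal
  have : IsOpenImmersion (pullback.diagonal h) := inferInstance
  let C : Set ↥(pullback h h) := (Set.range (pullback.diagonal h))ᶜ
  have hC : IsCompact C := (pullback.diagonal h).isOpenEmbedding.isOpen_range.isClosed_compl.isCompact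
  let K : Set (W.toScheme × W.toScheme) := (fun p => (pullback.fst h h p, pullback.snd h h p)) '' C
  have hK : IsClosed K := (hC.image (by fun_prop)).isClosed
  have hu : (u', u') ∉ K := by
    rintro ⟨p, hp, he⟩
    rw [Prod.ext_iff] at he
    refine hp ⟨u', ?_⟩
    apply (Scheme.Pullback.carrierEquiv (f := h) (g := h)).injective
    let T : Scheme.Pullback.Triplet h h := ⟨u', u', h u', rfl, rfl⟩
    have hsub : Subsingleton (Spec T.tensor) := by
      have : IsIso ((S.residueFieldCongr T.hx).inv ≫ h.residueFieldMap T.x) := by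
        have : IsIso (h.residueFieldMap T.x) := hiso
        infer_instance
      have : IsIso T.tensorInr := (IsPushout.of_hasPushout _ _).isIso_inr_of_isIso this
      exact (Spec.map T.tensorInr).homeomorph.injective.subsingleton
    have key : ∀ q, Scheme.Pullback.Triplet.ofPoint (f := h) (g := h) q = T →
        ∀ z : Spec T.tensor, Scheme.Pullback.carrierEquiv q = ⟨T, z⟩ := by
      intro q hq z
      rw [Scheme.Pullback.carrierEquiv_eq_iff]
      exact ⟨hq, Subsingleton.elim _ _⟩
    have hd1 : pullback.fst h h (pullback.diagonal h u') = u' := by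
      rw [← Scheme.Hom.comp_apply, pullback.diagonal_fst]; rfl
    have hd2 : pullback.snd h h (pullback.diagonal h u') = u' := by
      rw [← Scheme.Hom.comp_apply, pullback.diagonal_snd]; rfl
    obtain ⟨z⟩ : Nonempty (Spec T.tensor) := inferInstanceAs (Nonempty (PrimeSpectrum T.tensor))
    rw [key _ (Scheme.Pullback.Triplet.ext hd1 hd2) z, key _ (Scheme.Pullback.Triplet.ext he.1 he.2) z]
  obtain ⟨A, B, hA, hB, huA, huB, hAB⟩ := isOpen_prod_iff.1 hK.isOpen_compl u' u' hu
  let W' : W.toScheme.Opens := ⟨A ∩ B, hA.inter hB⟩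
  let k := W'.ι ≫ h
  have : Surjective (pullback.diagonal k) := by
    refine ⟨fun p => ?_⟩
    let m : pullback k k ⟶ pullback h h := pullback.map _ _ _ _ W'.ι W'.ι (𝟙 S)
      (by simp [k]) (by simp [k])
    have hm : pullback.fst h h (m p) = W'.ι (pullback.fst k k p) ∧
        pullback.snd h h (m p) = W'.ι (pullback.snd k k p) := by
      have e1 : m ≫ pullback.fst h h = pullback.fst k k ≫ W'.ι := pullback.lift_fst _ _ _
      have e2 : m ≫ pullback.snd h h = pullback.snd k k ≫ W'.ι := pullback.lift_snd _ _ _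
      exact ⟨congrArg (fun q : pullback k k ⟶ W.toScheme => q p) e1,
        congrArg (fun q : pullback k k ⟶ W.toScheme => q p) e2⟩
    have hmr : m p ∈ Set.range (pullback.diagonal h) := by
      by_contra hc
      exact hAB (show (pullback.fst h h (m p), pullback.snd h h (m p)) ∈ A ×ˢ B by
        rw [hm.1, hm.2]
        exact ⟨(pullback.fst k k p).2.1, (pullback.snd k k p).2.2⟩) ⟨m p, hc, rfl⟩
    obtain ⟨w, hw⟩ := hmr
    have hw1 : w = W'.ι (pullback.fst k k p) := by
      rw [← hm.1, ← hw, ← Scheme.Hom.comp_apply, pullback.diagonal_fst]; rfl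
    refine ⟨pullback.fst k k p, m.isOpenEmbedding.injective ?_⟩
    rw [← hw, ← Scheme.Hom.comp_apply]
    have e : pullback.diagonal k ≫ m = W'.ι ≫ pullback.diagonal h := by
      have e1 : m ≫ pullback.fst h h = pullback.fst k k ≫ W'.ι := pullback.lift_fst _ _ _
      have e2 : m ≫ pullback.snd h h = pullback.snd k k ≫ W'.ι := pullback.lift_snd _ _ _
      refine pullback.hom_ext ?_ ?_
      · rw [Category.assoc, e1, Category.assoc, pullback.diagonal_fst, Category.comp_id,
          pullback.diagonal_fst_assoc]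
      · rw [Category.assoc, e2, Category.assoc, pullback.diagonal_snd, Category.comp_id,
          pullback.diagonal_snd_assoc]
    rw [e, Scheme.Hom.comp_apply, hw1]
  have : UniversallyInjective k := (UniversallyInjective.iff_diagonal k).2 this
  have : Mono k := mono_of_universallyInjective k this
  have : IsOpenImmersion k := IsOpenImmersion.of_flat_of_mono k
  refine ⟨k.opensRange, k.isoOpensRange.inv ≫ W'.ι ≫ W.ι, ?_, ?_⟩
  · exact ⟨⟨u', huA, huB⟩, rfl⟩
  · simp only [Category.assoc]
    exact k.isoOpensRange_inv_comp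

variable (S : Scheme.{u}) [IsAffine S] (h1 : ∀ s : S, IsClosed ({s} : Set S))
  (h2 : ∀ s : S, IsSepClosed (S.residueField s))

include h1 h2

theorem app_top_surjective_zeroDim {F G : EtCoh.Ab S} (φ : F ⟶ G) [Epi φ] :
    Function.Surjective (φ.hom.app (op (EtCoh.top S))) := by
  intro τ
  let T := EtCoh.top S
  have loc : ∀ s : S, ∃ O : T.left.Opens, (s : T.left) ∈ O ∧ ∃ σ : EtCoh.sect F (openSub T O),
      φ.hom.app (op (openSub T O)) σ = G.obj.map (openSubι T O).op τ := by
    intro s
    have := h2 s
    let η : Spec (CommRingCat.of (S.residueField s)) ⟶ S := S.fromSpecResidueField s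
    let t : Pt η T := mkPt _ η (Category.comp_id _)
    have : Epi ((EtCoh.stalk η).map φ) := inferInstance
    obtain ⟨a, ha⟩ := (AddCommGrpCat.epi_iff_surjective _).1 this (germ η G t τ)
    obtain ⟨V, t', σ, rfl⟩ := exists_germ_eq η F a
    rw [stalk_map_germ] at ha
    obtain ⟨⟨W, w⟩, a, b, -⟩ := IsCofiltered.toIsCofilteredOrEmpty.cone_objs
      (C := (Scheme.pointSmallEtale η).fiber.Elements) ⟨T, t⟩ ⟨V, t'⟩
    have e : germ η G w (G.obj.map a.val.op τ - φ.hom.app (op W) (F.obj.map b.val.op σ)) = 0 := by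
      rw [map_sub, germ_map, a.property, sub_eq_zero]
      have : φ.hom.app (op W) (F.obj.map b.val.op σ) = G.obj.map b.val.op (φ.hom.app (op V) σ) :=
        NatTrans.naturality_apply φ.hom b.val.op σ
      rw [this, germ_map, b.property, ha]
    obtain ⟨W', g, w', -, hg⟩ := (germ_eq_zero_iff η G w _).1 e
    rw [map_sub, sub_eq_zero] at hg
    have : Etale W'.hom := W'.prop
    let q : W'.left ⟶ S := W'.hom
    have : Etale q := W'.prop
    obtain ⟨O, v, hsO, hv⟩ := exists_section_near q h1 h2 (hom η w' default)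
    have hs : q (hom η w' default) = s :=
      (congrArg (fun k : Spec (CommRingCat.of (S.residueField s)) ⟶ S => k default) (Over.w w')).trans
        (S.fromSpecResidueField_apply s _)
    refine ⟨O, hs ▸ hsO, ?_⟩
    let i : openSub T O ⟶ W' := MorphismProperty.Over.homMk v (hv.trans (Category.comp_id _).symm) trivial
    refine ⟨F.obj.map i.op (F.obj.map g.op (F.obj.map b.val.op σ)), ?_⟩
    refine (NatTrans.naturality_apply φ.hom i.op _).trans ((congrArg (G.obj.map i.op)
      ((NatTrans.naturality_apply φ.hom g.op _).trans hg.symm)).trans ?_)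
    rw [← ConcreteCategory.comp_apply, ← ConcreteCategory.comp_apply, ← G.obj.map_comp, ← op_comp,
      ← G.obj.map_comp, ← op_comp]
    rw [(isTerminalTop S).hom_ext ((i ≫ g) ≫ a.val) (openSubι T O)]
  choose O hO σ hσ using loc
  have : SpectralSpace S := { }
  obtain ⟨ht2, htd⟩ := Groth.Agent.Spec91.t2Space_of_forall_isClosed (X := S) h1
  have := ht2
  have := htd
  have hcov : IsOpenCover (X := S) O := eq_top_iff.2 fun s _ => Opens.mem_iSup.2 ⟨s, hO s⟩
  have : T2Space T.left := ht2
  have : TotallyDisconnectedSpace T.left := htd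
  have : CompactSpace T.left := (inferInstance : CompactSpace S)
  obtain ⟨n, D, hD, hDu, hDd⟩ :=
    IsOpenCover.exists_finite_nonempty_disjoint_clopen_cover (X := T.left) (U := O) hcov
  choose r hr using fun j => (hD j).2
  let E : Fin n → T.left.Opens := fun j => ⟨D j, (D j).isClopen.isOpen⟩
  let incl : ∀ j, openSub T (E j) ⟶ openSub T (O (r j)) := fun j =>
    MorphismProperty.Over.homMk (T.left.homOfLE (show E j ≤ O (r j) from hr j))
      ((Category.assoc _ _ _).symm.trans (congrArg (· ≫ T.hom) (T.left.homOfLE_ι _))) trivial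
  have hincl : ∀ j, incl j ≫ openSubι T (O (r j)) = openSubι T (E j) := fun j =>
    (isTerminalTop S).hom_ext _ _
  let S₀ : Sieve T :=
    { arrows := fun V g => ∃ j, Set.range g.left ⊆ (E j : Set T.left)
      downward_closed := fun {V W g} ⟨j, hj⟩ k => ⟨j, by rintro _ ⟨w, rfl⟩; exact hj ⟨k.left w, rfl⟩⟩ }
  have hS₀ : S₀ ∈ S.smallEtaleTopology T := mem_topology fun x => by
    obtain ⟨j, hj⟩ := Set.mem_iUnion.1 (hDu (Set.mem_univ x))
    exact ⟨_, openSubι T (E j), ⟨x, hj⟩, ⟨j, (range_openSubι T (E j)).le⟩, rfl⟩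
  have lft : ∀ {V : S.Etale} (g : V ⟶ T) (j), Set.range g.left ⊆ (E j : Set T.left) →
      ∃ k : V ⟶ openSub T (E j), k ≫ openSubι T (E j) = g := fun {V} g j hj =>
    let ι : (E j).toScheme ⟶ T.left := (E j).ι
    have : IsOpenImmersion ι := inferInstance
    let l := IsOpenImmersion.lift ι g.left (hj.trans (E j).range_ι.ge)
    have hl : l ≫ ι = g.left := IsOpenImmersion.lift_fac _ _ _
    ⟨MorphismProperty.Over.homMk l
      ((Category.assoc _ _ _).symm.trans ((congrArg (· ≫ T.hom) hl).trans (Over.w g.hom))) trivial,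
      (isTerminalTop S).hom_ext _ _⟩
  -- the value on a member
  have val : ∀ {V : S.Etale} (g : V ⟶ T), S₀ g → ∃ x : EtCoh.sect F V,
      φ.hom.app (op V) x = G.obj.map g.op τ ∧
      ∀ j (k : V ⟶ openSub T (E j)), k ≫ openSubι T (E j) = g →
        F.obj.map k.op (F.obj.map (incl j).op (σ (r j))) = x := by
    intro V g hg
    obtain ⟨j, hj⟩ := hg
    obtain ⟨k, hk⟩ := lft g j hj
    refine ⟨F.obj.map k.op (F.obj.map (incl j).op (σ (r j))), ?_, fun j' k' hk' => ?_⟩
    · refine (NatTrans.naturality_apply φ.hom k.op _).trans ((congrArg (G.obj.map k.op)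
        ((NatTrans.naturality_apply φ.hom (incl j).op _).trans (congrArg (G.obj.map (incl j).op) (hσ (r j))))).trans ?_)
      rw [← ConcreteCategory.comp_apply, ← ConcreteCategory.comp_apply, ← G.obj.map_comp, ← op_comp,
        ← G.obj.map_comp, ← op_comp, Category.assoc, hincl, hk]
    · by_cases hjj : j' = j
      · subst hjj
        rw [show k' = k from MorphismProperty.Over.Hom.ext ((cancel_mono (E j').ι).1
          ((congrArg (fun q => q.left) hk').trans (congrArg (fun q => q.left) hk).symm))]
      · have : IsEmpty V.left := ⟨fun x => by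
          have h1' : g.left x ∈ (E j' : Set T.left) := by
            rw [← hk']; exact (range_openSubι T (E j')).le ⟨k'.left x, rfl⟩
          exact Set.disjoint_left.1 (Clopens.coe_disjoint.2 (hDd hjj)) h1' (hj ⟨x, rfl⟩)⟩
        rw [sect_eq_zero_of_isEmpty F (F.obj.map k'.op _), sect_eq_zero_of_isEmpty F (F.obj.map k.op _)]
  choose x hxτ hxk using @val
  let fam : Presieve.FamilyOfElements (F.obj ⋙ forget AddCommGrpCat.{u + 1}) S₀.arrows :=
    fun V g hg => x g hg
  have hfam : fam.Compatible := by
    rw [Presieve.compatible_iff_sieveCompatible]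
    intro V W g k hg
    show x (k ≫ g) _ = F.obj.map k.op (x g hg)
    obtain ⟨j, hj⟩ := id hg
    obtain ⟨m, hm⟩ := lft g j hj
    rw [← hxk g hg j m hm, ← hxk (k ≫ g) _ j (k ≫ m) (by rw [Category.assoc, hm])]
    simp [op_comp]
  obtain ⟨σ₀, hσ₀, -⟩ := isSheafFor_forget F hS₀ fam hfam
  refine ⟨σ₀, ?_⟩
  refine (isSheafFor_forget G hS₀).isSeparatedFor.ext fun V g hg => ?_
  show G.obj.map g.op (φ.hom.app (op T) σ₀) = G.obj.map g.op τ
  rw [← hxτ g hg, ← NatTrans.naturality_apply φ.hom g.op σ₀]
  exact congrArg (φ.hom.app (op V)) (hσ₀ g hg)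

theorem H_subsingleton_zeroDim (F : EtCoh.Ab S) (p : ℕ) (hp : 1 ≤ p) : Subsingleton (EtCoh.H S F p) := by
  obtain ⟨q, rfl⟩ := Nat.exists_eq_add_one.2 hp
  have := projective_of_surjective_top S fun φ => app_top_surjective_zeroDim S h1 h2 φ
  exact Abelian.Ext.subsingleton_of_projective _ _ _

end Groth.Agent.Unr55.EtSh
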