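import Groth.Agent.Unr55.Et.FiltColim
import Mathlib.CategoryTheory.Sites.Whiskering
import Mathlib.CategoryTheory.Sites.LocallyBijective
import Mathlib.CategoryTheory.Limits.Preserves.Filtered
import Mathlib.Algebra.Category.Grp.FilteredColimits
import Mathlib.Algebra.Category.Grp.Abelian
import Mathlib.CategoryTheory.Sites.Abelian

/-!
Sections over quasi-compact quasi-separated objects of a site commute with filtered colimits of
sheaves, for sheaves in a concrete category with exact filtered colimits of underlying sets.
-/

set_option autoImplicit false
universe t v u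

open CategoryTheory CategoryTheory.Limits Opposite

namespace Groth.Agent.Unr55.FiltColim

variable {C : Type u} [Category.{v} C] (J : GrothendieckTopology C)

theorem preservesColimitsOfShape_sections
    {D : Type t} [Category.{max u v} D] {FD : D → D → Type (max u v)} {CD : D → Type (max u v)}
    [∀ X Y, FunLike (FD X Y) (CD X) (CD Y)] [ConcreteCategory.{max u v} D FD]
    [HasSheafify J D] [J.HasSheafCompose (forget D)] [J.PreservesSheafification (forget D)]
    [(forget D).ReflectsIsomorphisms]
    (I : Type (max u v)) [SmallCategory I] [IsFiltered I] [HasColimitsOfShape I D]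
    [PreservesColimitsOfShape I (forget D)] {U : C} (hU : QCQS J U) :
    PreservesColimitsOfShape I
      (sheafToPresheaf J D ⋙ (evaluation Cᵒᵖ D).obj (op U)) where
  preservesColimit {K} := by
    let E := colimit.cocone (K ⋙ sheafToPresheaf J D)
    have hE : IsColimit E := colimit.isColimit _
    refine preservesColimit_of_preserves_colimit_cocone (Sheaf.isColimitSheafifyCocone E hE) ?_
    let η := toSheafify J E.pt
    let W := (Functor.whiskeringRight Cᵒᵖ D (Type (max u v))).obj (forget D)
    let P : I ⥤ Cᵒᵖ ⥤ Type (max u v) := K ⋙ sheafToPresheaf J D ⋙ W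
    have hP : ∀ i, Presieve.IsSheaf J (P.obj i) := fun i =>
      (isSheaf_iff_isSheaf_of_type _ _).1
        (GrothendieckTopology.HasSheafCompose.isSheaf (K.obj i).obj (K.obj i).property)
    have hG : Presieve.IsSeparated J (sheafify J E.pt ⋙ forget D) :=
      ((isSheaf_iff_isSheaf_of_type _ _).1
        (GrothendieckTopology.HasSheafCompose.isSheaf (F := forget D) _ ((presheafToSheaf J D).obj E.pt).property)).isSeparated
    have hc : ∀ V, IsColimit (((evaluation _ _).obj V).mapCocone (W.mapCocone E : Cocone P)) :=
      fun V => isColimitOfPreserves (forget D) (isColimitOfPreserves ((evaluation _ _).obj V) hE)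
    have : Presheaf.IsLocallyInjective J (Functor.whiskerRight η (forget D)) :=
      (Presheaf.isLocallyInjective_forget_iff J η).2 inferInstance
    have : Presheaf.IsLocallySurjective J (Functor.whiskerRight η (forget D)) :=
      (Presheaf.isLocallySurjective_iff_whisker_forget J η).1 inferInstance
    have hbij := app_bijective P hP (W.mapCocone E : Cocone P) hc hG
      (Functor.whiskerRight η (forget D)) hU
    have : IsIso ((forget D).map (η.app (op U))) := (isIso_iff_bijective _).2 hbij
    have : IsIso (η.app (op U)) := isIso_of_reflects_iso _ (forget D)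
    refine IsColimit.ofIsoColimit (isColimitOfPreserves ((evaluation Cᵒᵖ D).obj (op U)) hE)
      (Cocone.ext (@asIso _ _ _ _ (η.app (op U)) this) fun i => ?_)
    show (E.ι.app i).app (op U) ≫ η.app (op U) = ((Sheaf.sheafifyCocone E).ι.app i).hom.app (op U)
    rw [Sheaf.sheafifyCocone_ι_app_val]
    rfl

end Groth.Agent.Unr55.FiltColim
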