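import Groth.Prelude.Def_EtBase
import Groth.Agent.Unr55.Et.Stalk
import Groth.Agent.EtCore45.SheafCrit
import Mathlib.CategoryTheory.Sites.LocallyBijective
import Mathlib.CategoryTheory.Sites.ConstantSheaf
import Mathlib.Topology.LocallyConstant.Algebra

/-!
The constant sheaf on a slice of the small étale site is the sheaf of locally constant functions.
-/

set_option autoImplicit false
set_option backward.isDefEq.respectTransparency.types false
universe u

open CategoryTheory CategoryTheory.Limits AlgebraicGeometry Opposite

namespace Groth.Agent.Unr55.LC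

open Groth.Agent.EtCore45 (objOf objOfHom etale_left)

variable {X : Scheme.{u}} (M : AddCommGrpCat.{u + 1})

/-- Locally constant functions as a presheaf on the small étale site. -/
noncomputable def lcPre : X.Etaleᵒᵖ ⥤ AddCommGrpCat.{u + 1} where
  obj W := AddCommGrpCat.of (LocallyConstant W.unop.left M)
  map g := AddCommGrpCat.ofHom
    (LocallyConstant.comapAddMonoidHom ⟨g.unop.left, g.unop.left.continuous⟩)
  map_id _ := rfl
  map_comp _ _ := rfl

theorem lcPre_map {V W : X.Etale} (g : V ⟶ W) (t : LocallyConstant W.left M) (v : V.left) :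
    (show LocallyConstant V.left M from (lcPre M).map g.op t) v = t (g.left v) := rfl

theorem isSheaf_lcPre : Presheaf.IsSheaf X.smallEtaleTopology (lcPre (X := X) M) := by
  rw [Presheaf.isSheaf_iff_isSheaf_forget X.smallEtaleTopology (lcPre M) (forget _),
    isSheaf_iff_isSheaf_of_type]
  intro U S hS x hx
  have cov : ∀ p : U.left, ∃ (Y : X.Etale) (f : Y ⟶ U) (y : Y.left), S f ∧ f.left y = p := fun p => by
    obtain ⟨Y, f, y, h, -, e⟩ := (EtCore45.mem_et S).1 hS p
    exact ⟨Y, f, y, h, e⟩
  let v {Y : X.Etale} (f : Y ⟶ U) (hf : S f) : LocallyConstant Y.left M := x f hf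
  have key : ∀ {Y Z : X.Etale} (f : Y ⟶ U) (g : Z ⟶ U) (hf : S f) (hg : S g) (y : Y.left) (z : Z.left),
      f.left y = g.left z → v f hf y = v g hg z := by
    intro Y Z f g hf hg y z e
    have := etale_left g
    obtain ⟨p, hp1, hp2⟩ := Scheme.Pullback.exists_preimage_pullback (f := f.left) (g := g.left) y z e
    have he : Etale (pullback.fst f.left g.left) := MorphismProperty.pullback_fst _ _ inferInstance
    let P := objOf Y (pullback.fst f.left g.left)
    let a : P ⟶ Y := objOfHom Y _
    let b : P ⟶ Z := MorphismProperty.Over.homMk (pullback.snd f.left g.left) (by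
      change pullback.snd f.left g.left ≫ Z.hom = pullback.fst f.left g.left ≫ Y.hom
      have hg' : Z.hom = g.left ≫ U.hom := (MorphismProperty.Over.w g).symm
      have hf' : Y.hom = f.left ≫ U.hom := (MorphismProperty.Over.w f).symm
      rw [hg', hf']
      exact (pullback.condition_assoc _).symm)
    have hab : a ≫ f = b ≫ g := MorphismProperty.Over.Hom.ext pullback.condition
    have h := congrArg (fun t : LocallyConstant P.left M => t p) (hx a b hf hg hab)
    change v f hf (a.left p) = v g hg (b.left p) at h
    rwa [show a.left p = y from hp1, show b.left p = z from hp2] at h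
  choose Y f y hf hy using cov
  let val : U.left → M := fun p => v (f p) (hf p) (y p)
  have hval : ∀ {Z : X.Etale} (g : Z ⟶ U) (hg : S g) (z : Z.left), val (g.left z) = v g hg z :=
    fun g hg z => key _ _ _ _ _ _ (hy _)
  have hlc : IsLocallyConstant val := by
    refine IsLocallyConstant.iff_isOpen_fiber.mpr fun m => ?_
    have e : val ⁻¹' {m} = ⋃ p, (f p).left '' (v (f p) (hf p) ⁻¹' {m}) := by
      ext q
      simp only [Set.mem_preimage, Set.mem_singleton_iff, Set.mem_iUnion, Set.mem_image]
      constructor
      · exact fun hq => ⟨q, y q, hq, hy q⟩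
      · rintro ⟨p, z, hz, rfl⟩
        exact (hval _ _ z).trans hz
    rw [e]
    refine isOpen_iUnion fun p => ?_
    have := etale_left (f p)
    exact (f p).left.isOpenMap _ ((v (f p) (hf p)).isLocallyConstant.isOpen_fiber m)
  refine ⟨(⟨val, hlc⟩ : LocallyConstant U.left M), fun Z g hg => LocallyConstant.ext (hval g hg), ?_⟩
  intro t ht
  refine LocallyConstant.ext fun p => ?_
  have h := congrArg (fun s : LocallyConstant (Y p).left M => s (y p)) (ht (f p) (hf p))
  change (show LocallyConstant U.left M from t) ((f p).left (y p)) = v (f p) (hf p) (y p) at h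
  rwa [hy p] at h

/-- The sheaf of locally constant functions. -/
noncomputable def lc : EtCoh.Ab X := ⟨lcPre M, isSheaf_lcPre M⟩

variable (U : X.Etale)

/-- Constant functions. -/
noncomputable def constToLC :
    (Functor.const (Over U)ᵒᵖ).obj M ⟶ (EtCoh.restr (lc M) U).obj where
  app W := AddCommGrpCat.ofHom
    (show M →+ LocallyConstant W.unop.left.left M from LocallyConstant.constAddMonoidHom)
  naturality _ _ _ := rfl

instance : Presheaf.IsLocallyInjective (X.smallEtaleTopology.over U) (constToLC M U) where
  equalizerSieve_mem := by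
    intro W m n h
    rw [GrothendieckTopology.mem_over_iff]
    refine EtSh.mem_topology fun x => ⟨W.unop.left, 𝟙 _, x, ?_, rfl⟩
    rw [Sieve.overEquiv_iff]
    exact congrArg (fun s : LocallyConstant W.unop.left.left M => s x) h

instance : Presheaf.IsLocallySurjective (X.smallEtaleTopology.over U) (constToLC M U) where
  imageSieve_mem := by
    intro W t
    rw [GrothendieckTopology.mem_over_iff]
    refine EtSh.mem_topology fun x => ?_
    let t' : LocallyConstant W.left.left M := t
    let O : W.left.left.Opens := ⟨t' ⁻¹' {t' x}, t'.isLocallyConstant.isOpen_fiber _⟩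
    refine ⟨objOf W.left O.ι, objOfHom W.left O.ι, (⟨x, rfl⟩ : O), ?_, rfl⟩
    rw [Sieve.overEquiv_iff]
    exact ⟨t' x, LocallyConstant.ext fun (z : O) => z.2.symm⟩

/-- The constant sheaf on a slice is the sheaf of locally constant functions. -/
noncomputable def constIso :
    (constantSheaf (X.smallEtaleTopology.over U) AddCommGrpCat.{u + 1}).obj M ≅ EtCoh.restr (lc M) U :=
  @asIso _ _ _ _ ((presheafToSheaf (X.smallEtaleTopology.over U) AddCommGrpCat.{u + 1}).map (constToLC M U))
      (((X.smallEtaleTopology.over U).W_iff _).1
        ((X.smallEtaleTopology.over U).W_of_isLocallyBijective (constToLC M U))) ≪≫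
    (sheafificationIso (EtCoh.restr (lc M) U)).symm

end Groth.Agent.Unr55.LC
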