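import Groth.Agent.Unr55.Et.LocConstSheaf

/-!
Trivialisations of sheaves by locally constant functions; comparison of values on overlaps.
-/

set_option autoImplicit false
set_option backward.isDefEq.respectTransparency.types false
universe u

open CategoryTheory CategoryTheory.Limits AlgebraicGeometry Opposite

namespace Groth.Agent.Unr55.LC

open Groth.Agent.EtCore45 (objOf objOfHom)

variable {X : Scheme.{u}} {F : EtCoh.Ab X}

/-- A trivialisation of `F` over `U` with values in `A`. -/
abbrev Triv (F : EtCoh.Ab X) (U : X.Etale) (A : AddCommGrpCat.{u + 1}) : Type (u + 1) :=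
  EtCoh.restr F U ≅ EtCoh.restr (lc A) U

/-- The trivialisation given by an isomorphism with a constant sheaf. -/
noncomputable def Triv.ofConst {U : X.Etale} {A : AddCommGrpCat.{u + 1}}
    (e : EtCoh.restr F U ≅ (constantSheaf (X.smallEtaleTopology.over U) AddCommGrpCat.{u + 1}).obj A) :
    Triv F U A :=
  e ≪≫ constIso A U

variable {U : X.Etale} {A : AddCommGrpCat.{u + 1}}

/-- A trivialisation on sections. -/
noncomputable def Triv.sec (ψ : Triv F U A) {W : X.Etale} (a : W ⟶ U) :
    F.obj.obj (op W) ≅ AddCommGrpCat.of (LocallyConstant W.left A) :=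
  ((sheafToPresheaf _ _).mapIso ψ).app (op (Over.mk a))

theorem Triv.sec_natural (ψ : Triv F U A) {W V : X.Etale} (a : W ⟶ U) (c : V ⟶ W) (b : V ⟶ U)
    (hb : c ≫ a = b) :
    F.obj.map c.op ≫ (ψ.sec b).hom = (ψ.sec a).hom ≫ (lcPre A).map c.op :=
  ψ.hom.hom.naturality (Over.homMk c hb : Over.mk b ⟶ Over.mk a).op

theorem Triv.sec_natural_apply (ψ : Triv F U A) {W V : X.Etale} (a : W ⟶ U) (c : V ⟶ W) (b : V ⟶ U)
    (hb : c ≫ a = b) (s : F.obj.obj (op W)) (v : V.left) :
    (show LocallyConstant V.left A from (ψ.sec b).hom (F.obj.map c.op s)) v =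
      (show LocallyConstant W.left A from (ψ.sec a).hom s) (c.left v) := by
  have h := congrArg (fun t : LocallyConstant V.left A => t v)
    (show (show LocallyConstant V.left A from (ψ.sec b).hom (F.obj.map c.op s)) =
      (lcPre A).map c.op ((ψ.sec a).hom s) from
      congrArg (fun g => g s) (congrArg ConcreteCategory.hom (ψ.sec_natural a c b hb)))
  exact h

variable {U' : X.Etale} {B : AddCommGrpCat.{u + 1}}

/-- The transition between two trivialisations at a point of an overlap. -/
noncomputable def trans (ψ : Triv F U A) (ψ' : Triv F U' B) {W : X.Etale} (a : W ⟶ U) (b : W ⟶ U')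
    (w : W.left) : A →+ B :=
  (LocallyConstant.evalAddMonoidHom w).comp
    (((ψ'.sec b).hom.hom.comp (ψ.sec a).inv.hom).comp LocallyConstant.constAddMonoidHom)

theorem trans_injective (ψ : Triv F U A) (ψ' : Triv F U' B) {W : X.Etale} (a : W ⟶ U) (b : W ⟶ U')
    (w : W.left) : Function.Injective (trans ψ ψ' a b w) := by
  rw [injective_iff_map_eq_zero]
  intro m hm
  let c : LocallyConstant W.left A := LocallyConstant.const _ m
  let t : LocallyConstant W.left B := (ψ'.sec b).hom ((ψ.sec a).inv c)
  change t w = 0 at hm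
  let O : W.left.Opens := ⟨t ⁻¹' {0}, t.isLocallyConstant.isOpen_fiber 0⟩
  let j : objOf W O.ι ⟶ W := objOfHom W O.ι
  have h0 : F.obj.map j.op ((ψ.sec a).inv c) = 0 := by
    apply (ψ'.sec (j ≫ b)).addCommGroupIsoToAddEquiv.injective
    rw [map_zero]
    refine LocallyConstant.ext fun (z : O) => ?_
    exact (ψ'.sec_natural_apply b j _ rfl _ z).trans z.2
  have h1 := ψ.sec_natural_apply a j _ rfl ((ψ.sec a).inv c) (⟨w, hm⟩ : O)
  rw [h0, map_zero] at h1
  have hc : (ψ.sec a).hom ((ψ.sec a).inv c) = c := (ψ.sec a).addCommGroupIsoToAddEquiv.apply_symm_apply c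
  rw [hc] at h1
  exact h1.symm

/-- Finite values agree on a non-empty overlap. -/
theorem nonempty_addEquiv_of_overlap [Finite A] [Finite B] (ψ : Triv F U A) (ψ' : Triv F U' B)
    {W : X.Etale} (a : W ⟶ U) (b : W ⟶ U') (w : W.left) : Nonempty (A ≃+ B) := by
  have h1 := trans_injective ψ ψ' a b w
  have h2 := trans_injective ψ' ψ b a w
  have hb : Function.Bijective (trans ψ ψ' a b w) := by
    have := Fintype.ofFinite A
    have := Fintype.ofFinite B
    exact (Fintype.bijective_iff_injective_and_card _).2
      ⟨h1, le_antisymm (Fintype.card_le_of_injective _ h1) (Fintype.card_le_of_injective _ h2)⟩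
  exact ⟨AddEquiv.ofBijective _ hb⟩

/-- Overlaps at a common image point. -/
theorem exists_overlap {p : U.left} {q : U'.left} (h : U.hom p = U'.hom q) :
    ∃ (W : X.Etale) (a : W ⟶ U) (b : W ⟶ U') (w : W.left), a.left w = p ∧ b.left w = q := by
  have : Etale U.hom := U.prop
  have : Etale U'.hom := U'.prop
  obtain ⟨w, h1, h2⟩ := Scheme.Pullback.exists_preimage_pullback (f := U.hom) (g := U'.hom) p q h
  have : Etale (pullback.fst U.hom U'.hom) := MorphismProperty.pullback_fst _ _ inferInstance
  exact ⟨objOf U (pullback.fst U.hom U'.hom), objOfHom U _,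
    MorphismProperty.Over.homMk (pullback.snd U.hom U'.hom) pullback.condition.symm, w, h1, h2⟩

end Groth.Agent.Unr55.LC
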