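import Groth.Agent.Unr55.Et.SplitScheme
import Groth.Agent.Unr55.Et.LocConstTriv

/-!
Pushforward along a split finite étale morphism of a trivialised sheaf is trivialised.
-/

set_option autoImplicit false
set_option backward.isDefEq.respectTransparency.types false
universe u

open CategoryTheory CategoryTheory.Limits AlgebraicGeometry Opposite

namespace Groth.Agent.Unr55.SplitEt

open Groth.Agent.EtCore45 (objOf objOfHom etale_left)
open Groth.Agent.Unr55.LC

variable {X Y : Scheme.{u}} {f : X ⟶ Y} {V : Y.Etale} {ι : Type u} {t : ι → (V.left ⟶ X)}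

theorem IsSplitBy.comp (h : IsSplitBy f V t) {V' : Y.Etale} (c : V' ⟶ V) :
    IsSplitBy f V' (fun k => c.left ≫ t k) := by
  have hc : c.left ≫ V.hom = V'.hom := MorphismProperty.Over.w c
  refine ⟨fun k => ?_, fun K _ x q hq => ?_⟩
  · rw [Category.assoc, h.1, hc]
  · obtain ⟨k, hk, hu⟩ := h.2 K (x ≫ c.left) q (by
      rw [Category.assoc]
      exact hq.trans (congrArg (x ≫ ·) hc.symm))
    exact ⟨k, hk.trans (Category.assoc _ _ _), fun l hl => hu l (hl.trans (Category.assoc _ _ _).symm)⟩

/-- After refinement all sections factor through the members of a given covering. -/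
theorem exists_refine [Etale f] [Fintype ι] (h : IsSplitBy f V t) {κ : Type u} (U : κ → X.Etale)
    (hU : EtCoh.Covers U) (v : V.left) :
    ∃ (V' : Y.Etale) (c : V' ⟶ V) (_ : ∃ v' : V'.left, c.left v' = v) (i : ι → κ)
      (g : ∀ k, V'.left ⟶ (U (i k)).left), ∀ k, g k ≫ (U (i k)).hom = c.left ≫ t k := by
  classical
  suffices H : ∀ s : Finset ι, ∃ (V' : Y.Etale) (c : V' ⟶ V), (∃ v' : V'.left, c.left v' = v) ∧
      ∀ k ∈ s, ∃ (j : κ) (g : V'.left ⟶ (U j).left), g ≫ (U j).hom = c.left ≫ t k by
    obtain ⟨V', c, hv, hk⟩ := H Finset.univ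
    choose i g hg using fun k => hk k (Finset.mem_univ k)
    exact ⟨V', c, hv, i, g, hg⟩
  intro s
  induction s using Finset.induction with
  | empty => exact ⟨V, 𝟙 V, ⟨v, rfl⟩, fun k hk => absurd hk (Finset.notMem_empty k)⟩
  | insert k s _ ih =>
    obtain ⟨V', c, ⟨v', hv'⟩, hs⟩ := ih
    obtain ⟨j, z, hz⟩ := hU ((c.left ≫ t k) v')
    have : Etale (U j).hom := (U j).prop
    let a : V'.left ⟶ X := c.left ≫ t k
    have : Etale (pullback.fst a (U j).hom) := MorphismProperty.pullback_fst _ _ inferInstance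
    obtain ⟨w, hw, -⟩ := Scheme.Pullback.exists_preimage_pullback (f := a) (g := (U j).hom) v' z hz.symm
    refine ⟨objOf V' (pullback.fst a (U j).hom), objOfHom V' _ ≫ c, ⟨w, ?_⟩, fun l hl => ?_⟩
    · change c.left (pullback.fst a (U j).hom w) = v
      rw [hw, hv']
    · rcases Finset.mem_insert.1 hl with rfl | hl
      · exact ⟨j, pullback.snd a (U j).hom, pullback.condition.symm⟩
      · obtain ⟨j', g, hg⟩ := hs l hl
        exact ⟨j', pullback.fst a (U j).hom ≫ g, by
          change (pullback.fst a (U j).hom ≫ g) ≫ (U j').hom = (pullback.fst a (U j).hom ≫ c.left) ≫ t l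
          rw [Category.assoc, Category.assoc, hg]⟩

theorem IsSplitBy.etale [Etale f] (h : IsSplitBy f V t) (k : ι) : Etale (t k) := by
  have : Etale (t k ≫ f) := by rw [h.1 k]; exact V.prop
  exact Etale.of_comp _ f

variable [Etale f] (h : IsSplitBy f V t) {W : Y.Etale} (a : W ⟶ V)

/-- The `k`-th piece of the preimage of an object over `V`. -/
noncomputable def piece (k : ι) : X.Etale :=
  haveI := h.etale k
  haveI := etale_left a
  MorphismProperty.Over.mk _ (a.left ≫ t k) inferInstance

/-- Its inclusion, as a morphism of schemes. -/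
noncomputable def pieceMap (k : ι) : W.left ⟶ pullback W.hom f :=
  pullback.lift (𝟙 _) (a.left ≫ t k) (by
    have ha : a.left ≫ V.hom = W.hom := MorphismProperty.Over.w a
    refine (Category.id_comp _).trans (ha.symm.trans ?_)
    exact (congrArg (a.left ≫ ·) (h.1 k).symm).trans (Category.assoc _ _ _).symm)

omit [Etale f] in
theorem pieceMap_fst (k : ι) : pieceMap h a k ≫ pullback.fst W.hom f = 𝟙 _ := pullback.lift_fst _ _ _

omit [Etale f] in
theorem pieceMap_snd (k : ι) : pieceMap h a k ≫ pullback.snd W.hom f = a.left ≫ t k :=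
  pullback.lift_snd _ _ _

/-- Its inclusion. -/
noncomputable def pieceIn (k : ι) : piece h a k ⟶ (EtCoh.bc f).obj W :=
  MorphismProperty.Over.homMk (pieceMap h a k) (pieceMap_snd h a k)

theorem exists_mem_piece (z : (pullback W.hom f : Scheme.{u})) :
    ∃ k, ∃ w : W.left, pieceMap h a k w = z := by
  let P : Scheme.{u} := pullback W.hom f
  let x0 : Spec (P.residueField z) ⟶ pullback W.hom f := P.fromSpecResidueField z
  let p1 : Spec (P.residueField z) ⟶ W.left := x0 ≫ pullback.fst W.hom f
  obtain ⟨k, hk, -⟩ := h.2 (P.residueField z) (p1 ≫ a.left)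
    (x0 ≫ pullback.snd W.hom f) (by
      have ha : a.left ≫ V.hom = W.hom := MorphismProperty.Over.w a
      exact (Category.assoc _ _ _).trans ((congrArg (x0 ≫ ·) pullback.condition.symm).trans
        ((Category.assoc _ _ _).symm.trans ((congrArg (p1 ≫ ·) ha.symm).trans (Category.assoc _ _ _).symm))))
  have e : p1 ≫ pieceMap h a k = x0 := by
    apply pullback.hom_ext
    · exact (Category.assoc _ _ _).trans ((congrArg (p1 ≫ ·) (pieceMap_fst h a k)).trans (Category.comp_id _))
    · exact (Category.assoc _ _ _).trans ((congrArg (p1 ≫ ·) (pieceMap_snd h a k)).trans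
        ((Category.assoc _ _ _).symm.trans hk.symm))
  obtain ⟨s⟩ : Nonempty (Spec (P.residueField z)) := inferInstance
  refine ⟨k, p1 s, ?_⟩
  have h2 := congrArg (fun g : Spec (P.residueField z) ⟶ P => g s) e
  exact h2.trans (P.fromSpecResidueField_apply z s)

theorem eq_of_piece_overlap {Z : X.Etale} {k l : ι} (gk : Z ⟶ piece h a k) (gl : Z ⟶ piece h a l)
    (e : gk ≫ pieceIn h a k = gl ≫ pieceIn h a l) :
    gk.left = (gl.left : Z.left ⟶ W.left) ∧ (Z.left → k = l) := by
  let uk : Z.left ⟶ W.left := gk.left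
  let ul : Z.left ⟶ W.left := gl.left
  have e0 : uk ≫ pieceMap h a k = ul ≫ pieceMap h a l :=
    congrArg (fun g : Z ⟶ (EtCoh.bc f).obj W => g.left) e
  have e1 : uk = ul := by
    have h1 := congrArg (· ≫ pullback.fst W.hom f) e0
    exact ((congrArg (uk ≫ ·) (pieceMap_fst h a k)).trans (Category.comp_id _)).symm.trans
      ((Category.assoc _ _ _).symm.trans (h1.trans ((Category.assoc _ _ _).trans
        ((congrArg (ul ≫ ·) (pieceMap_fst h a l)).trans (Category.comp_id _)))))
  refine ⟨e1, fun z => ?_⟩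
  have e2 : uk ≫ a.left ≫ t k = uk ≫ a.left ≫ t l := by
    have hk : uk ≫ a.left ≫ t k = Z.hom := MorphismProperty.Over.w gk
    have hl : ul ≫ a.left ≫ t l = Z.hom := MorphismProperty.Over.w gl
    exact hk.trans (hl.symm.trans (congrArg (· ≫ a.left ≫ t l) e1.symm))
  let x : Spec (Z.left.residueField z) ⟶ V.left := Z.left.fromSpecResidueField z ≫ uk ≫ a.left
  obtain ⟨m, -, hu⟩ := h.2 (Z.left.residueField z) x (x ≫ t k) (by rw [Category.assoc, h.1])
  refine (hu k rfl).trans (hu l ?_).symm
  exact (Category.assoc _ _ _).trans ((congrArg (Z.left.fromSpecResidueField z ≫ ·)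
    ((Category.assoc _ _ _).trans e2)).trans ((congrArg (Z.left.fromSpecResidueField z ≫ ·)
      (Category.assoc _ _ _).symm).trans (Category.assoc _ _ _).symm))

theorem bijective_pieces (F : EtCoh.Ab X) :
    Function.Bijective fun (s : F.obj.obj (op ((EtCoh.bc f).obj W))) (k : ι) =>
      F.obj.map (pieceIn h a k).op s := by
  classical
  have hcov : Sieve.ofArrows (fun k => piece h a k) (pieceIn h a) ∈ X.smallEtaleTopology _ :=
    EtSh.mem_topology fun z => by
      obtain ⟨k, w, hw⟩ := exists_mem_piece h a z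
      exact ⟨_, _, w, Sieve.ofArrows_mk _ _ k, hw⟩
  have hs : Presieve.IsSheafFor (F.obj ⋙ forget _) (Presieve.ofArrows _ (pieceIn h a)) :=
    (Presieve.isSheafFor_iff_generate _).2 (EtSh.isSheafFor_forget F hcov)
  rw [Presieve.isSheafFor_arrows_iff] at hs
  refine ⟨fun s s' e => ?_, fun x => ?_⟩
  · obtain ⟨t₀, -, htu⟩ := hs (fun k => F.obj.map (pieceIn h a k).op s) fun i j Z gi gj e' => by
      change F.obj.map gi.op _ = F.obj.map gj.op _
      rw [← Functor.map_comp_apply, ← Functor.map_comp_apply, ← op_comp, ← op_comp, e']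
    exact (htu s fun _ => rfl).trans (htu s' fun k => (congrFun e k).symm).symm
  · obtain ⟨t₀, ht, -⟩ := hs x fun i j Z gi gj e' => by
      change F.obj.map gi.op (x i) = F.obj.map gj.op (x j)
      by_cases hZ : Nonempty Z.left
      · obtain ⟨z⟩ := hZ
        obtain ⟨e1, hij⟩ := eq_of_piece_overlap h a gi gj e'
        obtain rfl := hij z
        rw [show gi = gj from MorphismProperty.Over.Hom.ext e1]
      · refine sub_eq_zero.1 (EtSh.sect_eq_zero_of_local F _ fun z => (hZ ⟨z⟩).elim)
    exact ⟨t₀, funext ht⟩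

end Groth.Agent.Unr55.SplitEt
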