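import Groth.Agent.Unr55.Et.EtGlue
import Groth.Agent.Unr55.Et.Lift
import Groth.Prelude.Def_EtBase

/-!
Invariance of the small etale site under thickenings / universal homeomorphisms with local lifts.
-/

universe u

open CategoryTheory CategoryTheory.Limits AlgebraicGeometry

namespace Groth.Agent.Unr55.EtGlue

set_option backward.isDefEq.respectTransparency.types false

variable {S S' : Scheme.{u}} (g : S' ⟶ S)

theorem bc_full_faithful (hg : IsUnivHomeo g) : (EtCoh.bc g).Full ∧ (EtCoh.bc g).Faithful := by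
  have key : ∀ Y X : S.Etale, Function.Bijective (fun φ : Y ⟶ X => (EtCoh.bc g).map φ) := fun Y X => by
    have : Etale ((Scheme.Etale.forget S).obj X).hom := X.prop
    have h := Groth.Agent.Unr55.pullback_map_bijective g ((Scheme.Etale.forget S).obj X)
      ((Scheme.Etale.forget S).obj Y) (univHomeo_of_isPullback (IsPullback.of_hasPullback Y.hom g) hg)
    refine ⟨fun φ₁ φ₂ e => ?_, fun ψ => ?_⟩
    · refine (Scheme.Etale.forget S).map_injective (h.1 ?_)
      exact Over.OverMorphism.ext (congrArg (fun k => k.left) e)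
    · obtain ⟨φ, hφ⟩ := h.2 ((Scheme.Etale.forget S').map ψ)
      refine ⟨(Scheme.Etale.forget S).preimage φ, MorphismProperty.Over.Hom.ext ?_⟩
      refine Eq.trans ?_ (congrArg (fun k => k.left) hφ)
      conv_rhs => rw [← (Scheme.Etale.forget S).map_preimage φ]
      rfl
  exact ⟨⟨fun ψ => (key _ _).2 ψ⟩, ⟨fun e => (key _ _).1 e⟩⟩

theorem bc_isEquivalence (hg : IsUnivHomeo g)
    (hloc : ∀ (U' : Scheme.{u}) (p' : U' ⟶ S') [Etale p'] (x : U'),
      ∃ W : U'.Opens, x ∈ W ∧ Nonempty (Lift p' g W)) : (EtCoh.bc g).IsEquivalence := by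
  obtain ⟨hfull, hfaith⟩ := bc_full_faithful g hg
  have : (EtCoh.bc g).EssSurj := ⟨fun U => by
    have : Etale U.hom := U.prop
    obtain ⟨V, q, a, hq, hP⟩ := exists_lift_of_local hg U.hom (hloc U.left U.hom)
    refine ⟨Scheme.Etale.mk q, ⟨(MorphismProperty.Over.isoMk hP.isoPullback ?_).symm⟩⟩
    exact IsPullback.isoPullback_hom_snd hP⟩
  exact { }

theorem lift_of_isClosedImmersion (i : S' ⟶ S) [IsClosedImmersion i] (U' : Scheme.{u}) (p' : U' ⟶ S')
    [Etale p'] (x : U') : ∃ W : U'.Opens, x ∈ W ∧ Nonempty (Lift p' i W) := by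
  obtain ⟨V, q, P, k, a, hq, hk, hx, hP⟩ := Groth.Agent.Unr55.EtSh.exists_etale_lift_closed i p' x
  refine ⟨k.opensRange, hx, ⟨⟨V, q, k.isoOpensRange.inv ≫ a, ?_⟩⟩⟩
  refine hP.of_iso k.isoOpensRange (Iso.refl _) (Iso.refl _) (Iso.refl _) ?_ ?_ ?_ ?_ <;> simp

theorem bc_isEquivalence_thickening (i : S' ⟶ S) [IsClosedImmersion i] [Surjective i] :
    (EtCoh.bc i).IsEquivalence :=
  bc_isEquivalence i (isUnivHomeo_of_universallyClosed i) fun U' p' _ x => lift_of_isClosedImmersion i U' p' x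

end Groth.Agent.Unr55.EtGlue
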