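import Groth.Agent.Unr55.EtLocalFinite
import Mathlib.RingTheory.Flat.Equalizer
import Mathlib.RingTheory.Finiteness.ModuleFinitePresentation
import Mathlib.RingTheory.Localization.Away.Basic
import Mathlib.RingTheory.Etale.Basic
import Mathlib.RingTheory.Smooth.Flat

/-!
Finite étale algebras split étale locally on the base: points are given by finitely many sections.
-/

set_option autoImplicit false
universe u

open TensorProduct

namespace Groth.Agent.Unr55

/-- Étale locally around a prime, the field-valued points of a finite étale algebra are given by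
finitely many pairwise disjoint sections. -/
theorem exists_split_finiteEtale {R S : Type u} [CommRing R] [CommRing S] [Algebra R S]
    [Algebra.Etale R S] [Module.Finite R S] (p : Ideal R) [p.IsPrime] :
    ∃ (R' : Type u) (_ : CommRing R') (_ : Algebra R R') (_ : Algebra.Etale R R') (p' : Ideal R')
      (_ : p'.IsPrime) (_ : p'.LiesOver p) (n : ℕ) (t : Fin n → (S →ₐ[R] R')),
      ∀ (K : Type u) [Field K] (ψ : R' →+* K) (φ : S →+* K),
        φ.comp (algebraMap R S) = ψ.comp (algebraMap R R') →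
        ∃! k, φ = ψ.comp (t k).toRingHom := by
  classical
  obtain ⟨R₁, _, _, _, p₁, _, _, n, e, he, hsurj⟩ := exists_etale_completeSplitting (R := R) (S := S) p
  let T := R₁ ⊗[R] S
  let Q := fun i => T ⧸ Ideal.span {1 - e i}
  have hQ : ∀ i, Function.Surjective (algebraMap R₁ (Q i)) := hsurj
  -- the pieces are projective over `R₁`
  have : Module.FinitePresentation R₁ T := Module.FinitePresentation.of_finite_of_finitePresentation _ _
  have : Module.Projective R₁ T := Module.Flat.projective_of_finitePresentation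
  have hproj : ∀ i, Module.Projective R₁ (Q i) := fun i => by
    let m : T →ₗ[R₁] Q i := (Ideal.Quotient.mkₐ R₁ (Ideal.span {1 - e i})).toLinearMap
    let s : Q i →ₗ[R₁] T := ((Ideal.span {1 - e i} : Ideal T).restrictScalars R₁).liftQ
      (LinearMap.mulRight R₁ (e i)) (fun z hz => by
        obtain ⟨c, rfl⟩ := Ideal.mem_span_singleton'.mp hz
        rw [LinearMap.mem_ker, LinearMap.mulRight_apply, mul_assoc, sub_mul, one_mul, (he.idem i).eq,
          sub_self, mul_zero])
    refine Module.Projective.of_split s m (LinearMap.ext fun z => ?_)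
    obtain ⟨z, rfl⟩ := Ideal.Quotient.mk_surjective z
    change Ideal.Quotient.mk _ (z * e i) = Ideal.Quotient.mk _ z
    exact mk_eq_of_mul_eq (by rw [mul_assoc, (he.idem i).eq])
  let J := fun i => RingHom.ker (algebraMap R₁ (Q i))
  -- idempotent cutting out each piece
  have hcut : ∀ i, ∃ g : R₁, g ∉ p₁ ∧ ((g ∈ J i ∧ ¬ J i ≤ p₁) ∨ (J i ≤ p₁ ∧ ∀ j ∈ J i, j * g = 0)) := by
    intro i
    by_cases h : J i ≤ p₁
    · have := hproj i
      let π : R₁ →ₗ[R₁] Q i := Algebra.linearMap R₁ (Q i)
      obtain ⟨σ, hσ⟩ := Module.projective_lifting_property π LinearMap.id (hQ i)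
      refine ⟨σ 1, fun hmem => ?_, Or.inr ⟨h, fun j hj => ?_⟩⟩
      · have h1 : σ 1 - 1 ∈ J i := by
          rw [RingHom.mem_ker, map_sub, (algebraMap R₁ (Q i)).map_one, sub_eq_zero]
          exact LinearMap.congr_fun hσ (1 : Q i)
        exact (‹p₁.IsPrime›).ne_top ((Ideal.eq_top_iff_one _).2 (by
          simpa using p₁.sub_mem hmem (h h1)))
      · have : j • (1 : Q i) = 0 := by
          refine (Algebra.smul_def (A := Q i) j 1).trans ?_
          rw [RingHom.mem_ker.1 hj]
          exact zero_mul 1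
        rw [show j * σ 1 = σ (j • (1 : Q i)) from (σ.map_smul j 1).symm, this, map_zero]
    · obtain ⟨g, hg, hgp⟩ := SetLike.not_le_iff_exists.mp h
      exact ⟨g, hgp, Or.inl ⟨hg, h⟩⟩
  choose g hgp hg using hcut
  let G := ∏ i, g i
  have hGp : G ∉ p₁ := fun h => by
    obtain ⟨i, -, hi⟩ := (Ideal.IsPrime.prod_mem_iff).1 h
    exact hgp i hi
  let R₂ := Localization.Away G
  have : Algebra.Etale R₁ R₂ := Algebra.Etale.of_isLocalizationAway G
  have : Algebra.Etale R R₂ := Algebra.Etale.comp R R₁ R₂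
  have : (p₁.map (algebraMap R₁ R₂)).IsPrime :=
    IsLocalization.isPrime_of_isPrime_disjoint (.powers G) _ _ ‹_›
      ((Ideal.disjoint_powers_iff_notMem_of_isPrime _).mpr hGp)
  have : (p₁.map (algebraMap R₁ R₂)).LiesOver p₁ :=
    ⟨(IsLocalization.under_map_of_isPrime_disjoint (.powers G) _ ‹_›
      ((Ideal.disjoint_powers_iff_notMem_of_isPrime _).mpr hGp)).symm⟩
  have hunit : ∀ i, IsUnit (algebraMap R₁ R₂ (g i)) := fun i => by
    have h := IsLocalization.Away.algebraMap_isUnit (S := R₂) G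
    rw [map_prod] at h
    exact (IsUnit.prod_iff.1 h) i (Finset.mem_univ i)
  let ι := {i : Fin n // J i ≤ p₁}
  have hker : ∀ k : ι, J k.1 ≤ RingHom.ker (algebraMap R₁ R₂) := fun k j hj => by
    rcases hg k.1 with h | ⟨-, h⟩
    · exact (h.2 k.2).elim
    · have h0 := congrArg (algebraMap R₁ R₂) (h j hj)
      rw [map_mul, map_zero] at h0
      exact RingHom.mem_ker.2 ((hunit k.1).mul_left_eq_zero.1 h0)
  let lift : ∀ k : ι, Q k.1 →+* R₂ := fun k =>
    RingHom.liftOfSurjective (algebraMap R₁ (Q k.1)) (hQ k.1) ⟨algebraMap R₁ R₂, hker k⟩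
  have hlift : ∀ k r, lift k (algebraMap R₁ (Q k.1) r) = algebraMap R₁ R₂ r := fun k r =>
    RingHom.liftOfRightInverse_comp_apply _ _ _ _ r
  let τ : ι → (T →+* R₂) := fun k => (lift k).comp (Ideal.Quotient.mk _)
  have hτ : ∀ k r, τ k (algebraMap R₁ T r) = algebraMap R₁ R₂ r := hlift
  let t₀ : ι → (S →ₐ[R] R₂) := fun k =>
    { (τ k).comp (Algebra.TensorProduct.includeRight : S →ₐ[R] T).toRingHom with
      commutes' := fun r => by
        change τ k (Algebra.TensorProduct.includeRight (algebraMap R S r)) = _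
        rw [AlgHom.commutes, IsScalarTower.algebraMap_apply R R₁ T, hτ,
          ← IsScalarTower.algebraMap_apply] }
  let eqv := Fintype.equivFin ι
  refine ⟨R₂, inferInstance, inferInstance, inferInstance, p₁.map (algebraMap R₁ R₂), inferInstance,
    Ideal.LiesOver.trans _ p₁ p, Fintype.card ι, fun k => t₀ (eqv.symm k), fun K _ ψ φ hcomp => ?_⟩
  let : Algebra R K := (φ.comp (algebraMap R S)).toAlgebra
  let φ' : S →ₐ[R] K := { φ with commutes' := fun r => rfl }
  let ψ' : R₁ →ₐ[R] K := { ψ.comp (algebraMap R₁ R₂) with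
    commutes' := fun r => by
      change ψ (algebraMap R₁ R₂ (algebraMap R R₁ r)) = φ (algebraMap R S r)
      rw [← IsScalarTower.algebraMap_apply]
      exact (DFunLike.congr_fun hcomp r).symm }
  let Φ : T →ₐ[R] K := Algebra.TensorProduct.productMap ψ' φ'
  have hΦl : ∀ r, Φ (algebraMap R₁ T r) = ψ (algebraMap R₁ R₂ r) := fun r => by
    simp [Φ, T, Algebra.TensorProduct.algebraMap_apply, φ', ψ']
  have hΦr : ∀ s, Φ (1 ⊗ₜ s) = φ s := fun s => by simp [Φ, T, φ', ψ']
  obtain ⟨i, hi⟩ : ∃ i, Φ (e i) = 1 := by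
    by_contra h
    have h0 : ∀ i, Φ (e i) = 0 := fun i =>
      (IsIdempotentElem.iff_eq_zero_or_one.1 ((he.idem i).map Φ)).resolve_right fun h1 => h ⟨i, h1⟩
    have hsum := congrArg Φ he.complete
    rw [map_sum, Finset.sum_eq_zero fun i _ => h0 i, map_one] at hsum
    exact zero_ne_one hsum
  have hΦQ : ∀ z r, Ideal.Quotient.mk (Ideal.span {1 - e i}) z = algebraMap R₁ (Q i) r →
      Φ z = ψ (algebraMap R₁ R₂ r) := fun z r hzr => by
    have h := congrArg Φ (mul_eq_zero_of_mk_eq_zero (he.idem i) (a := z - algebraMap R₁ T r)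
      (by rw [map_sub, hzr]; exact sub_self _))
    rw [map_mul, map_sub, hi, mul_one, map_zero, sub_eq_zero, hΦl] at h
    exact h
  have hik : J i ≤ p₁ := by
    rcases hg i with ⟨h, -⟩ | h
    · exfalso
      have h0 := hΦQ 0 (g i) (by rw [map_zero]; exact (RingHom.mem_ker.1 h).symm)
      rw [map_zero] at h0
      exact ((hunit i).map ψ).ne_zero h0.symm
    · exact h.1
  have hφ : φ = ψ.comp (t₀ ⟨i, hik⟩).toRingHom := RingHom.ext fun s => by
    obtain ⟨r, hr⟩ := hQ i (Ideal.Quotient.mk _ (1 ⊗ₜ s))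
    change φ s = ψ (lift ⟨i, hik⟩ (Ideal.Quotient.mk _ (1 ⊗ₜ s)))
    rw [← hr, hlift, ← hΦr]
    exact hΦQ _ r hr.symm
  refine ⟨eqv ⟨i, hik⟩, by simpa using hφ, fun k hk => ?_⟩
  set k' := eqv.symm k with hk'
  by_contra hne
  have hne' : k'.1 ≠ i := fun h => hne (by
    rw [show (⟨i, hik⟩ : ι) = k' from Subtype.ext h.symm, hk', Equiv.apply_symm_apply])
  -- both maps agree on `T`, but separate `e i`
  have hall : ∀ z : R₁ ⊗[R] S, Φ z = ψ (τ k' z) := fun z => by
    induction z with
    | zero => simp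
    | add x y hx hy => simp [map_add, hx, hy]
    | tmul r s =>
      rw [show (r ⊗ₜ[R] s : T) = algebraMap R₁ T r * (1 ⊗ₜ s) by
        simp [T, Algebra.TensorProduct.algebraMap_apply], map_mul, map_mul, map_mul, hτ, hΦl, hΦr, hk]
      rfl
  have h2 : τ k' (e i) = 0 := by
    change lift k' (Ideal.Quotient.mk _ (e i)) = 0
    rw [show Ideal.Quotient.mk (Ideal.span {1 - e k'.1}) (e i) = 0 from by
      rw [← map_zero (Ideal.Quotient.mk _)]
      exact mk_eq_of_mul_eq (by rw [he.ortho (Ne.symm hne'), zero_mul]), map_zero]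
  exact one_ne_zero (hi.symm.trans ((hall (e i)).trans (by rw [h2, map_zero])))

end Groth.Agent.Unr55
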