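import Groth.Prelude.Def_EtBase
import Groth.Agent.Unr55.Et.SplitFinite
import Mathlib.AlgebraicGeometry.Morphisms.Finite
import Mathlib.AlgebraicGeometry.Morphisms.Etale

/-!
Finite étale morphisms split étale locally on the base.
-/

set_option autoImplicit false
set_option backward.isDefEq.respectTransparency.types false
universe u

open CategoryTheory CategoryTheory.Limits AlgebraicGeometry

namespace Groth.Agent.Unr55.SplitEt

/-- `V` splits `f` by the sections `t`: field-valued points of `X` over a point of `V` are given by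
exactly one section. -/
def IsSplitBy {X Y : Scheme.{u}} (f : X ⟶ Y) (V : Y.Etale) {ι : Type u} (t : ι → (V.left ⟶ X)) : Prop :=
  (∀ k, t k ≫ f = V.hom) ∧ ∀ (K : Type u) [Field K] (x : Spec (CommRingCat.of K) ⟶ V.left)
    (q : Spec (CommRingCat.of K) ⟶ X), q ≫ f = x ≫ V.hom → ∃! k, q = x ≫ t k

theorem exists_isSplitBy {X Y : Scheme.{u}} (f : X ⟶ Y) [IsFinite f] [Etale f] (y : Y) :
    ∃ (V : Y.Etale) (_ : ∃ v : V.left, V.hom v = y) (n : ℕ) (t : ULift.{u} (Fin n) → (V.left ⟶ X)),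
      IsSplitBy f V t := by
  obtain ⟨U, hU, hy, -⟩ := exists_isAffineOpen_mem_and_subset (U := ⊤) (TopologicalSpace.Opens.mem_top y)
  have hfU : IsAffineOpen (f ⁻¹ᵁ U) := hU.preimage f
  let φ := f.appLE U (f ⁻¹ᵁ U) le_rfl
  have hfin : φ.hom.Finite := by
    have := IsFinite.finite_app f U hU
    rw [Scheme.Hom.app_eq_appLE] at this
    exact this
  have het : φ.hom.Etale := HasRingHomProperty.appLE @Etale f inferInstance ⟨U, hU⟩ ⟨_, hfU⟩ le_rfl
  let := φ.hom.toAlgebra
  have : Module.Finite Γ(Y, U) Γ(X, f ⁻¹ᵁ U) := hfin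
  have : Algebra.Etale Γ(Y, U) Γ(X, f ⁻¹ᵁ U) := het
  let p : Ideal Γ(Y, U) := (hU.primeIdealOf ⟨y, hy⟩).asIdeal
  obtain ⟨R', _, _, _, p', _, hp, n, t, ht⟩ := exists_split_finiteEtale (S := Γ(X, f ⁻¹ᵁ U)) p
  let a : Γ(Y, U) ⟶ CommRingCat.of R' := CommRingCat.ofHom (algebraMap Γ(Y, U) R')
  have : Etale (Spec.map a) := by
    rw [HasRingHomProperty.Spec_iff (P := @Etale)]
    exact RingHom.etale_algebraMap.mpr inferInstance
  let V : Y.Etale := MorphismProperty.Over.mk _ (Spec.map a ≫ hU.fromSpec) inferInstance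
  let τ : Fin n → (Γ(X, f ⁻¹ᵁ U) ⟶ CommRingCat.of R') := fun k => CommRingCat.ofHom (t k).toRingHom
  have hτ : ∀ k, φ ≫ τ k = a := fun k => CommRingCat.hom_ext ((t k).comp_algebraMap)
  let ev : ULift.{u} (Fin n) → (V.left ⟶ X) := fun k => Spec.map (τ k.down) ≫ hfU.fromSpec
  refine ⟨V, ⟨(⟨p', inferInstance⟩ : PrimeSpectrum R'), ?_⟩, n, ev,
    fun k => ?_, fun K _ x q hq => ?_⟩
  · change hU.fromSpec (Spec.map a ⟨p', inferInstance⟩) = y
    have e : Spec.map a (⟨p', inferInstance⟩ : PrimeSpectrum R') = hU.primeIdealOf ⟨y, hy⟩ :=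
      PrimeSpectrum.ext hp.over.symm
    rw [e, IsAffineOpen.fromSpec_primeIdealOf]
  · change (Spec.map (τ k.down) ≫ hfU.fromSpec) ≫ f = Spec.map a ≫ hU.fromSpec
    rw [Category.assoc, ← IsAffineOpen.SpecMap_appLE_fromSpec f hU hfU le_rfl, ← Category.assoc,
      ← Spec.map_comp, hτ]
  · have hrange : Set.range q ⊆ Set.range hfU.fromSpec := by
      rintro _ ⟨z, rfl⟩
      rw [IsAffineOpen.range_fromSpec]
      have h := congrArg (fun g : Spec (CommRingCat.of K) ⟶ Y => g z) hq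
      change f (q z) = hU.fromSpec (Spec.map a (x z)) at h
      have hmem : hU.fromSpec (Spec.map a (x z)) ∈ U :=
        hU.range_fromSpec.le ⟨_, rfl⟩
      exact (h ▸ hmem : f (q z) ∈ U)
    let q' := IsOpenImmersion.lift hfU.fromSpec q hrange
    have hq' : q' ≫ hfU.fromSpec = q := IsOpenImmersion.lift_fac _ _ _
    obtain ⟨ψ, hψ⟩ := Spec.map_surjective (R := CommRingCat.of R') (S := CommRingCat.of K) x
    obtain ⟨χ, hχ⟩ := Spec.map_surjective q'
    have hcomp : φ ≫ χ = a ≫ ψ := by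
      apply Spec.map_injective
      rw [← cancel_mono hU.fromSpec, Spec.map_comp, Spec.map_comp, Category.assoc, Category.assoc,
        IsAffineOpen.SpecMap_appLE_fromSpec f hU hfU le_rfl, hχ, hψ]
      rw [← Category.assoc, hq']
      exact hq
    obtain ⟨k, hk, huniq⟩ := ht K ψ.hom χ.hom (congrArg CommRingCat.Hom.hom hcomp)
    refine ⟨⟨k⟩, ?_, fun l hl => ?_⟩
    · change q = x ≫ Spec.map (τ k) ≫ hfU.fromSpec
      rw [← hq', ← hχ, ← hψ]
      have h : χ = τ k ≫ ψ := CommRingCat.hom_ext hk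
      rw [h]
      exact (congrArg (· ≫ hfU.fromSpec) (Spec.map_comp (τ k) ψ)).trans (Category.assoc _ _ _)
    · refine ULift.ext _ _ (huniq l.down ?_)
      have h : χ = τ l.down ≫ ψ := by
        apply Spec.map_injective
        rw [← cancel_mono hfU.fromSpec, hχ, hq', Spec.map_comp, hψ, Category.assoc]
        exact hl
      exact congrArg CommRingCat.Hom.hom h

end Groth.Agent.Unr55.SplitEt
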