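import Groth.Agent.Unr55.Et.LocConstTriv
import Mathlib.AlgebraicGeometry.Morphisms.Finite
import Mathlib.AlgebraicGeometry.Limits
import Groth.Agent.Sga84.FiniteSigma

/-!
A locally trivialised sheaf with finite values is, over the covering, represented by a finite scheme.
-/

set_option autoImplicit false
set_option backward.isDefEq.respectTransparency.types false
universe u

open CategoryTheory CategoryTheory.Limits AlgebraicGeometry Opposite

namespace Groth.Agent.Unr55.FLC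

open Groth.Agent.EtCore45 (objOf objOfHom etale_left)
open Groth.Agent.Unr55.LC

variable {X : Scheme.{u}}

/-- `σ` makes `E` represent `F` over `U'`. -/
def IsRepOver (F : EtCoh.Ab X) {E U' : X.Etale} (q : E ⟶ U') (σ : F.obj.obj (op E)) : Prop :=
  ∀ (W : X.Etale) (a : W ⟶ U') (s : F.obj.obj (op W)),
    ∃! b : W ⟶ E, b ≫ q = a ∧ F.obj.map b.op σ = s

/-- Disjoint union in the small étale site. -/
noncomputable def sigmaObj {ι : Type u} (P : ι → X.Etale) : X.Etale :=
  MorphismProperty.Over.mk _ (Sigma.desc fun k => (P k).hom)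
    (IsZariskiLocalAtSource.sigmaDesc fun k => (P k).prop)

/-- Its injections. -/
noncomputable def sigmaInj {ι : Type u} (P : ι → X.Etale) (k : ι) : P k ⟶ sigmaObj P :=
  MorphismProperty.Over.homMk (Sigma.ι (fun k => (P k).left) k) (Sigma.ι_desc _ _)

theorem exists_sigmaInj {ι : Type u} (P : ι → X.Etale) (x : (sigmaObj P).left) :
    ∃ k, ∃ y : (P k).left, (sigmaInj P k).left y = x := by
  obtain ⟨k, y, hy⟩ :=
    Scheme.IsLocallyDirected.ι_jointly_surjective (Discrete.functor fun k => (P k).left) x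
  exact ⟨k.as, y, hy⟩

theorem sigma_idx_eq {ι : Type u} (P : ι → X.Etale) {k l : ι} {y : (P k).left} {y' : (P l).left}
    (h : (sigmaInj P k).left y = (sigmaInj P l).left y') : k = l := by
  have h1 : (sigmaMk fun k => (P k).left) (⟨k, y⟩ : Σ k, (P k).left) =
      (sigmaMk fun k => (P k).left) (⟨l, y'⟩ : Σ k, (P k).left) := by
    rw [sigmaMk_mk, sigmaMk_mk]
    exact h
  exact congrArg Sigma.fst ((sigmaMk fun k => (P k).left).injective h1)

theorem isOpenImmersion_sigmaInj {ι : Type u} (P : ι → X.Etale) (k : ι) :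
    IsOpenImmersion (sigmaInj P k).left :=
  inferInstanceAs (IsOpenImmersion (Sigma.ι (fun k => (P k).left) k))

section Morphisms

variable {W E : X.Etale}

theorem hom_ext_local (b b' : W ⟶ E)
    (h : ∀ p : W.left, ∃ O : W.left.Opens, p ∈ O ∧ objOfHom W O.ι ≫ b = objOfHom W O.ι ≫ b') : b = b' := by
  refine MorphismProperty.Over.Hom.ext (Scheme.hom_ext_of_forall _ _ fun p => ?_)
  obtain ⟨O, hO, e⟩ := h p
  exact ⟨O, hO, congrArg (fun m : objOf W O.ι ⟶ E => m.left) e⟩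

theorem exists_glue_local (O : W.left → W.left.Opens) (hO : ∀ p, p ∈ O p)
    (b : ∀ p, objOf W (O p).ι ⟶ E)
    (hb : ∀ p p' (Z : X.Etale) (g : Z ⟶ objOf W (O p).ι) (g' : Z ⟶ objOf W (O p').ι),
      g ≫ objOfHom W _ = g' ≫ objOfHom W _ → g ≫ b p = g' ≫ b p') :
    ∃ B : W ⟶ E, ∀ p, objOfHom W (O p).ι ≫ B = b p := by
  let 𝒰 : W.left.OpenCover := W.left.openCoverOfIsOpenCover O
    (TopologicalSpace.IsOpenCover.mk (top_le_iff.1 fun p _ => TopologicalSpace.Opens.mem_iSup.2 ⟨p, hO p⟩))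
  have compat : ∀ p p', pullback.fst (𝒰.f p) (𝒰.f p') ≫ (b p).left =
      pullback.snd (𝒰.f p) (𝒰.f p') ≫ (b p').left := by
    intro p p'
    have he : Etale (pullback.fst (O p).ι (O p').ι) := MorphismProperty.pullback_fst _ _ inferInstance
    let Z := @objOf _ (objOf W (O p).ι) _ (pullback.fst (O p).ι (O p').ι) he
    let g' : Z ⟶ objOf W (O p').ι := MorphismProperty.Over.homMk (pullback.snd (O p).ι (O p').ι)
      (pullback.condition_assoc W.hom).symm
    exact congrArg (fun m : Z ⟶ E => m.left)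
      (hb p p' Z (@objOfHom _ (objOf W (O p).ι) _ _ he) g' (MorphismProperty.Over.Hom.ext pullback.condition))
  let B₀ : W.left ⟶ E.left := 𝒰.glueMorphisms (fun p => (b p).left) compat
  have hB : ∀ p, (O p).ι ≫ B₀ = (b p).left := fun p => 𝒰.ι_glueMorphisms _ compat p
  refine ⟨MorphismProperty.Over.homMk B₀ (𝒰.hom_ext _ _ fun p => ?_),
    fun p => MorphismProperty.Over.Hom.ext (hB p)⟩
  have h1 : (b p).left ≫ E.hom = (O p).ι ≫ W.hom := MorphismProperty.Over.w (b p)
  exact (Category.assoc _ _ _).symm.trans ((congrArg (· ≫ E.hom) (hB p)).trans h1)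

end Morphisms

variable {F : EtCoh.Ab X} {ι : Type u} {U : ι → X.Etale} {A : ι → AddCommGrpCat.{u + 1}}
  {T : ι → Type u} (e : ∀ i, T i ≃ A i) (ψ : ∀ i, Triv F (U i) (A i))

/-- The pieces: one copy of `U i` for each value. -/
abbrev cpy (U : ι → X.Etale) (T : ι → Type u) : (Σ i, T i) → X.Etale := fun k => U k.1

/-- The projection. -/
noncomputable def proj (U : ι → X.Etale) (T : ι → Type u) : sigmaObj (cpy U T) ⟶ sigmaObj U :=
  MorphismProperty.Over.homMk (Sigma.desc fun k => (sigmaInj U k.1).left)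
    (Sigma.hom_ext _ _ fun k => by
      refine (Sigma.ι_desc_assoc _ _ _).trans ?_
      exact (MorphismProperty.Over.w (sigmaInj U k.1)).trans (Sigma.ι_desc (fun k => (cpy U T k).hom) k).symm)

theorem sigmaInj_proj (U : ι → X.Etale) (T : ι → Type u) (k : Σ i, T i) :
    sigmaInj (cpy U T) k ≫ proj U T = sigmaInj U k.1 :=
  MorphismProperty.Over.Hom.ext (Sigma.ι_desc _ _)

/-- The tautological section on a copy. -/
noncomputable def tautSec (k : Σ i, T i) : F.obj.obj (op (cpy U T k)) :=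
  ((ψ k.1).sec (𝟙 (U k.1))).inv (show LocallyConstant (U k.1).left (A k.1) from
    LocallyConstant.const _ (e k.1 k.2))

theorem exists_univSec : ∃ σ : F.obj.obj (op (sigmaObj (cpy U T))),
    ∀ k, F.obj.map (sigmaInj (cpy U T) k).op σ = tautSec e ψ k := by
  have hcov : Sieve.ofArrows (cpy U T) (sigmaInj (cpy U T)) ∈ X.smallEtaleTopology _ :=
    EtSh.mem_topology fun z => by
      obtain ⟨k, y, hy⟩ := exists_sigmaInj (cpy U T) z
      exact ⟨_, _, y, Sieve.ofArrows_mk _ _ k, hy⟩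
  have hs : Presieve.IsSheafFor (F.obj ⋙ forget _) (Presieve.ofArrows _ (sigmaInj (cpy U T))) :=
    (Presieve.isSheafFor_iff_generate _).2 (EtSh.isSheafFor_forget F hcov)
  rw [Presieve.isSheafFor_arrows_iff] at hs
  obtain ⟨σ, hσ, -⟩ := hs (tautSec e ψ) fun k l Z gk gl h => by
    change F.obj.map gk.op _ = F.obj.map gl.op _
    by_cases hZ : Nonempty Z.left
    · obtain ⟨z⟩ := hZ
      obtain rfl := sigma_idx_eq (cpy U T) (y := gk.left z) (y' := gl.left z)
        (congrArg (fun m : Z ⟶ sigmaObj (cpy U T) => m.left z) h)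
      have := isOpenImmersion_sigmaInj (cpy U T) k
      rw [show gk = gl from MorphismProperty.Over.Hom.ext
        ((cancel_mono (sigmaInj (cpy U T) k).left).1
          (congrArg (fun m : Z ⟶ sigmaObj (cpy U T) => m.left) h))]
    · exact sub_eq_zero.1 (EtSh.sect_eq_zero_of_local F _ fun z => (hZ ⟨z⟩).elim)
  exact ⟨σ, hσ⟩

variable (σ : F.obj.obj (op (sigmaObj (cpy U T))))
  (hσ : ∀ k, F.obj.map (sigmaInj (cpy U T) k).op σ = tautSec e ψ k)

include hσ in
theorem map_sigma_apply {W : X.Etale} {k : Σ i, T i} (c : W ⟶ cpy U T k) (w : W.left) :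
    (show LocallyConstant W.left (A k.1) from ((ψ k.1).sec (c ≫ 𝟙 _)).hom
      (F.obj.map (c ≫ sigmaInj (cpy U T) k).op σ)) w = e k.1 k.2 := by
  rw [op_comp, Functor.map_comp_apply, hσ]
  refine ((ψ k.1).sec_natural_apply (𝟙 _) c (c ≫ 𝟙 _) rfl _ w).trans ?_
  rw [show ((ψ k.1).sec (𝟙 _)).hom (tautSec e ψ k) = _ from
    ((ψ k.1).sec (𝟙 _)).addCommGroupIsoToAddEquiv.apply_symm_apply _]
  rfl

/-- Near a point an object over the covering factors through one member. -/
theorem exists_factor {W : X.Etale} {ι : Type u} {P : ι → X.Etale} (a : W ⟶ sigmaObj P) (p : W.left) :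
    ∃ (i : ι) (O : W.left.Opens) (c : objOf W O.ι ⟶ P i), p ∈ O ∧ c ≫ sigmaInj P i = objOfHom W O.ι ≫ a := by
  obtain ⟨i, y, hy⟩ := exists_sigmaInj P (a.left p)
  let j : (P i).left ⟶ (sigmaObj P).left := (sigmaInj P i).left
  have : IsOpenImmersion j := isOpenImmersion_sigmaInj P i
  let O : W.left.Opens := a.left ⁻¹ᵁ j.opensRange
  have hr : Set.range (O.ι ≫ a.left) ⊆ Set.range j := by
    rintro _ ⟨z, rfl⟩
    exact z.2
  let c₀ := IsOpenImmersion.lift j (O.ι ≫ a.left) hr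
  have hc₀ : c₀ ≫ j = O.ι ≫ a.left := IsOpenImmersion.lift_fac _ _ _
  refine ⟨i, O, MorphismProperty.Over.homMk c₀ ?_, ⟨y, hy⟩, MorphismProperty.Over.Hom.ext hc₀⟩
  have h1 : j ≫ (sigmaObj P).hom = (P i).hom := MorphismProperty.Over.w (sigmaInj P i)
  have h2 : a.left ≫ (sigmaObj P).hom = W.hom := MorphismProperty.Over.w a
  change c₀ ≫ (P i).hom = O.ι ≫ W.hom
  rw [← h1, ← Category.assoc, hc₀, Category.assoc, h2]

include hσ in
theorem unique_rep {W : X.Etale} (b b' : W ⟶ sigmaObj (cpy U T)) (h : b ≫ proj U T = b' ≫ proj U T)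
    (hs : F.obj.map b.op σ = F.obj.map b'.op σ) : b = b' := by
  refine hom_ext_local b b' fun p => ?_
  obtain ⟨k, O₁, c₁, hp₁, hc₁⟩ := exists_factor b p
  obtain ⟨l, O₂, c₂, hp₂, hc₂⟩ := exists_factor b' p
  let O := O₁ ⊓ O₂
  let r₁ : objOf W O.ι ⟶ objOf W O₁.ι := MorphismProperty.Over.homMk (W.left.homOfLE inf_le_left)
    (W.left.homOfLE_ι_assoc (inf_le_left : O ≤ O₁) W.hom)
  let r₂ : objOf W O.ι ⟶ objOf W O₂.ι := MorphismProperty.Over.homMk (W.left.homOfLE inf_le_right)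
    (W.left.homOfLE_ι_assoc (inf_le_right : O ≤ O₂) W.hom)
  have hr₁ : r₁ ≫ objOfHom W O₁.ι = objOfHom W O.ι :=
    MorphismProperty.Over.Hom.ext (W.left.homOfLE_ι inf_le_left)
  have hr₂ : r₂ ≫ objOfHom W O₂.ι = objOfHom W O.ι :=
    MorphismProperty.Over.Hom.ext (W.left.homOfLE_ι inf_le_right)
  have e₁ : (r₁ ≫ c₁) ≫ sigmaInj _ k = objOfHom W O.ι ≫ b := by
    rw [Category.assoc, hc₁, ← Category.assoc, hr₁]
  have e₂ : (r₂ ≫ c₂) ≫ sigmaInj _ l = objOfHom W O.ι ≫ b' := by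
    rw [Category.assoc, hc₂, ← Category.assoc, hr₂]
  let z : (objOf W O.ι).left := (⟨p, hp₁, hp₂⟩ : O)
  have hproj : (r₁ ≫ c₁) ≫ sigmaInj U k.1 = (r₂ ≫ c₂) ≫ sigmaInj U l.1 := by
    rw [← sigmaInj_proj U T k, ← sigmaInj_proj U T l, ← Category.assoc _ (sigmaInj _ k) (proj U T),
      ← Category.assoc _ (sigmaInj _ l) (proj U T), e₁, e₂, Category.assoc, Category.assoc, h]
  obtain ⟨i, m⟩ := k
  obtain ⟨j, n⟩ := l
  obtain rfl : i = j := sigma_idx_eq U (y := (r₁ ≫ c₁).left z) (y' := (r₂ ≫ c₂).left z)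
    (congrArg (fun g : objOf W O.ι ⟶ sigmaObj U => g.left z) hproj)
  have := isOpenImmersion_sigmaInj U i
  have hc : r₁ ≫ c₁ = r₂ ≫ c₂ := MorphismProperty.Over.Hom.ext
    ((cancel_mono (sigmaInj U i).left).1 (congrArg (fun g : objOf W O.ι ⟶ sigmaObj U => g.left) hproj))
  refine ⟨O, ⟨hp₁, hp₂⟩, ?_⟩
  obtain rfl : m = n := by
    apply (e i).injective
    refine (map_sigma_apply e ψ σ hσ (k := ⟨i, m⟩) (r₁ ≫ c₁) z).symm.trans
      (Eq.trans ?_ (map_sigma_apply e ψ σ hσ (k := ⟨i, n⟩) (r₂ ≫ c₂) z))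
    rw [e₁, e₂, op_comp, op_comp, Functor.map_comp_apply, Functor.map_comp_apply, hs, hc]
  rw [← e₁, ← e₂, hc]

include hσ in
theorem isRepOver_sigma : IsRepOver F (proj U T) σ := by
  intro W a s
  have loc : ∀ p : W.left, ∃ (O : W.left.Opens) (b : objOf W O.ι ⟶ sigmaObj (cpy U T)), p ∈ O ∧
      b ≫ proj U T = objOfHom W O.ι ≫ a ∧ F.obj.map b.op σ = F.obj.map (objOfHom W O.ι).op s := by
    intro p
    obtain ⟨i, O₁, c, hp, hc⟩ := exists_factor a p
    let f : LocallyConstant (objOf W O₁.ι).left (A i) :=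
      ((ψ i).sec (c ≫ 𝟙 _)).hom (F.obj.map (objOfHom W O₁.ι).op s)
    let val : A i := f (⟨p, hp⟩ : O₁)
    let O₂ : (O₁ : Scheme.{u}).Opens := ⟨f ⁻¹' {val}, f.isLocallyConstant.isOpen_fiber val⟩
    let O : W.left.Opens := O₁.ι ''ᵁ O₂
    have hle : O ≤ O₁ := O₁.ι_image_le _
    let r : objOf W O.ι ⟶ objOf W O₁.ι :=
      MorphismProperty.Over.homMk (W.left.homOfLE hle) (W.left.homOfLE_ι_assoc hle W.hom)
    have hr : r ≫ objOfHom W O₁.ι = objOfHom W O.ι := MorphismProperty.Over.Hom.ext (W.left.homOfLE_ι hle)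
    refine ⟨O, (r ≫ c) ≫ sigmaInj (cpy U T) ⟨i, (e i).symm val⟩, ⟨⟨p, hp⟩, rfl, rfl⟩, ?_, ?_⟩
    · rw [Category.assoc, sigmaInj_proj, Category.assoc, hc, ← Category.assoc, hr]
    · apply ((ψ i).sec ((r ≫ c) ≫ 𝟙 _)).addCommGroupIsoToAddEquiv.injective
      refine LocallyConstant.ext fun (w : (O : Scheme.{u})) => ?_
      refine (map_sigma_apply e ψ σ hσ (k := ⟨i, (e i).symm val⟩) (r ≫ c) w).trans ?_
      refine ((e i).apply_symm_apply val).trans ?_
      rw [← hr, op_comp, Functor.map_comp_apply]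
      refine Eq.trans ?_ ((ψ i).sec_natural_apply (c ≫ 𝟙 _) r _ (Category.assoc _ _ _).symm _ w).symm
      obtain ⟨w', hw', e'⟩ := w.2
      have hwv : r.left w = w' := O₁.ι.isOpenEmbedding.injective
        ((congrArg (fun m : objOf W O.ι ⟶ W => m.left w) hr).trans e'.symm)
      change val = f (r.left w)
      rw [hwv]
      exact hw'.symm
  choose O b hO hb1 hb2 using loc
  obtain ⟨B, hB⟩ := exists_glue_local O hO b fun p p' Z g g' hg => unique_rep e ψ σ hσ _ _
    (by rw [Category.assoc, Category.assoc, hb1, hb1, ← Category.assoc, ← Category.assoc, hg])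
    (by rw [op_comp, op_comp, Functor.map_comp_apply, Functor.map_comp_apply, hb2, hb2,
      ← Functor.map_comp_apply, ← Functor.map_comp_apply, ← op_comp, ← op_comp, hg])
  refine ⟨B, ⟨hom_ext_local _ _ fun p => ⟨O p, hO p, ?_⟩, ?_⟩, fun B' ⟨h1, h2⟩ => ?_⟩
  · rw [← Category.assoc, hB, hb1]
  · refine sub_eq_zero.1 (EtSh.sect_eq_zero_of_local F _ fun p => ?_)
    refine ⟨objOf W (O p).ι, objOfHom W _, (⟨p, hO p⟩ : O p), rfl, ?_⟩
    rw [map_sub, ← Functor.map_comp_apply, ← op_comp, hB, hb2, sub_self]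
  · refine hom_ext_local _ _ fun p => ⟨O p, hO p, ?_⟩
    rw [hB]
    exact unique_rep e ψ σ hσ _ _ (by rw [Category.assoc, h1, hb1])
      (by rw [op_comp, Functor.map_comp_apply, h2, hb2])

theorem sigmaInj_proj_left (U : ι → X.Etale) (T : ι → Type u) (i : ι) (m : T i) :
    Sigma.ι (fun k => (cpy U T k).left) ⟨i, m⟩ ≫ (proj U T).left = (sigmaInj U i).left :=
  congrArg (fun g : cpy U T ⟨i, m⟩ ⟶ sigmaObj U => g.left) (sigmaInj_proj U T ⟨i, m⟩)

theorem isFinite_proj (U : ι → X.Etale) (T : ι → Type u) [∀ i, Finite (T i)] : IsFinite (proj U T).left := by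
  let q : (∐ fun k => (cpy U T k).left) ⟶ ∐ fun i => (U i).left := (proj U T).left
  suffices IsFinite q from this
  refine IsZariskiLocalAtTarget.of_openCover (sigmaOpenCover fun i => (U i).left) fun i => ?_
  let k : (∐ fun _ : T i => (U i).left) ⟶ ∐ fun k => (cpy U T k).left :=
    Sigma.desc fun m => Sigma.ι (fun k => (cpy U T k).left) (⟨i, m⟩ : Σ i, T i)
  let kp : (∐ fun _ : T i => (U i).left) ⟶ (U i).left := Sigma.desc fun _ => 𝟙 (U i).left
  have hk : IsOpenImmersion k := isOpenImmersion_sigmaDesc _ _ fun m n hmn => by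
    rw [Function.onFun_apply, Set.disjoint_left]
    rintro _ ⟨y, rfl⟩ ⟨y', hy'⟩
    exact hmn (eq_of_heq (Sigma.mk.inj_iff.1
      (sigma_idx_eq (cpy U T) (k := ⟨i, n⟩) (l := ⟨i, m⟩) hy')).2).symm
  have hw : kp ≫ Sigma.ι (fun i => (U i).left) i = k ≫ q := Sigma.hom_ext _ _ fun m =>
    (Sigma.ι_desc_assoc _ _ _).trans ((Category.id_comp _).trans
      ((sigmaInj_proj_left U T i m).symm.trans ((congrArg (· ≫ q)
        (Sigma.ι_desc (fun m => Sigma.ι (fun k => (cpy U T k).left) (⟨i, m⟩ : Σ i, T i)) m)).symm.trans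
          (Category.assoc _ _ _))))
  have hpb : IsPullback kp k (Sigma.ι (fun i => (U i).left) i) q := by
    refine IsOpenImmersion.isPullback _ _ _ _ hw.symm (le_antisymm ?_ ?_)
    · rintro x ⟨z, hz⟩
      obtain ⟨⟨j, m⟩, y, hy⟩ := exists_sigmaInj (cpy U T) x
      have h1 : (sigmaInj U j).left y = (sigmaInj U i).left z := by
        refine Eq.trans ?_ hz.symm
        rw [← sigmaInj_proj_left U T j m, ← hy]
        rfl
      obtain rfl : j = i := sigma_idx_eq U h1
      refine ⟨Sigma.ι (fun _ : T j => (U j).left) m y, Eq.trans ?_ hy⟩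
      exact congrArg (fun g : (U j).left ⟶ _ => g y)
        (Sigma.ι_desc (fun m => Sigma.ι (fun k => (cpy U T k).left) (⟨j, m⟩ : Σ j, T j)) m)
    · rintro _ ⟨y, rfl⟩
      exact ⟨kp y, congrArg (fun g : (∐ fun _ : T i => (U i).left) ⟶ _ => g y) hw⟩
  have hfin : IsFinite kp := FiniteSigma84.isFinite_sigmaDesc _
  let e := hpb.flip.isoPullback
  have he : e.hom ≫ pullback.snd q ((sigmaOpenCover fun i => (U i).left).f i) = kp :=
    hpb.flip.isoPullback_hom_snd
  change IsFinite (pullback.snd q _)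
  exact (MorphismProperty.cancel_left_of_respectsIso @IsFinite e.hom _).1 (he.symm ▸ hfin)

end Groth.Agent.Unr55.FLC
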