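import Mathlib.Algebra.Homology.ShortComplex.Ab
import Mathlib.Algebra.Homology.ShortComplex.HomologicalComplex
import Mathlib.Algebra.Category.Grp.FilteredColimits
import Mathlib.CategoryTheory.Limits.ConcreteCategory.Basic
import Mathlib.CategoryTheory.Limits.Preserves.Filtered

/-!
Homology of abelian groups commutes with filtered colimits (adapted from the module version in S6317).
-/

set_option autoImplicit false
universe u
open CategoryTheory CategoryTheory.Limits

namespace Groth.Agent.Unr55.HomColim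

theorem app {A B C : AddCommGrpCat.{u}} {f : A ⟶ B} {g : B ⟶ C} {h : A ⟶ C} (e : f ≫ g = h) (x : A) :
    g (f x) = h x := by subst e; rfl
theorem commf {S T : ShortComplex (AddCommGrpCat.{u})} (φ : S ⟶ T) (x : S.X₁) : φ.τ₂ (S.f x) = T.f (φ.τ₁ x) :=
  (app φ.comm₁₂.symm x).trans rfl
theorem commg {S T : ShortComplex (AddCommGrpCat.{u})} (φ : S ⟶ T) (x : S.X₂) : φ.τ₃ (S.g x) = T.g (φ.τ₂ x) :=
  (app φ.comm₂₃.symm x).trans rfl
theorem cycle_lift (S : ShortComplex (AddCommGrpCat.{u})) (x : S.X₂) (hx : S.g x = 0) :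
    ∃ z, S.iCycles z = x :=
  ⟨S.abCyclesIso.inv ⟨x, hx⟩, S.abCyclesIso_inv_apply_iCycles _⟩
theorem g_iCycles (S : ShortComplex (AddCommGrpCat.{u})) (z : S.cycles) : S.g (S.iCycles z) = 0 :=
  app S.iCycles_g z
theorem π_eq_zero_iff (S : ShortComplex (AddCommGrpCat.{u})) (z : S.cycles) :
    S.homologyπ z = 0 ↔ ∃ y : S.X₁, S.f y = S.iCycles z := by
  constructor
  · intro h
    obtain ⟨y, hy⟩ := (ShortComplex.ab_exact_iff _).1 (ShortComplex.exact_of_g_is_cokernel
      (ShortComplex.mk S.toCycles S.homologyπ S.toCycles_comp_homologyπ) S.homologyIsCokernel) z h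
    exact ⟨y, (app S.toCycles_i y).symm.trans (congrArg S.iCycles hy)⟩
  · rintro ⟨y, hy⟩
    have h : S.toCycles y = z :=
      (AddCommGrpCat.mono_iff_injective S.iCycles).1 inferInstance ((app S.toCycles_i y).trans hy)
    rw [← h]
    exact app S.toCycles_comp_homologyπ y
theorem natπ {S T : ShortComplex (AddCommGrpCat.{u})} (φ : S ⟶ T) (z : S.cycles) :
    ShortComplex.homologyMap φ (S.homologyπ z) = T.homologyπ (ShortComplex.cyclesMap φ z) :=
  (app (ShortComplex.homologyπ_naturality φ) z).trans rfl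
theorem nati {S T : ShortComplex (AddCommGrpCat.{u})} (φ : S ⟶ T) (z : S.cycles) :
    T.iCycles (ShortComplex.cyclesMap φ z) = φ.τ₂ (S.iCycles z) :=
  (app (ShortComplex.cyclesMap_i φ) z).trans rfl
theorem hmap {S T U : ShortComplex (AddCommGrpCat.{u})} {a : S ⟶ T} {b : T ⟶ U} {d : S ⟶ U} (e : a ≫ b = d)
    (x : S.homology) : ShortComplex.homologyMap b (ShortComplex.homologyMap a x) = ShortComplex.homologyMap d x :=
  app (by rw [← ShortComplex.homologyMap_comp, e]) x
theorem tau1 {S T U : ShortComplex (AddCommGrpCat.{u})} {a : S ⟶ T} {b : T ⟶ U} {d : S ⟶ U} (e : a ≫ b = d)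
    (x : S.X₁) : b.τ₁ (a.τ₁ x) = d.τ₁ x := app (by rw [← e]; rfl) x
theorem tau2 {S T U : ShortComplex (AddCommGrpCat.{u})} {a : S ⟶ T} {b : T ⟶ U} {d : S ⟶ U} (e : a ≫ b = d)
    (x : S.X₂) : b.τ₂ (a.τ₂ x) = d.τ₂ x := app (by rw [← e]; rfl) x
section
variable {J : Type u} [SmallCategory J] [IsFiltered J] {K : J ⥤ ShortComplex (AddCommGrpCat.{u})} {c : Cocone K}
theorem rep1 (h : IsColimit (ShortComplex.π₁.mapCocone c)) (y : c.pt.X₁) :
    ∃ j, ∃ x : (K.obj j).X₁, (c.ι.app j).τ₁ x = y := Concrete.isColimit_exists_rep _ h y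
theorem rep2 (h : IsColimit (ShortComplex.π₂.mapCocone c)) (y : c.pt.X₂) :
    ∃ j, ∃ x : (K.obj j).X₂, (c.ι.app j).τ₂ x = y := Concrete.isColimit_exists_rep _ h y
theorem kill2 (h : IsColimit (ShortComplex.π₂.mapCocone c)) {j : J} (x : (K.obj j).X₂) (hx : (c.ι.app j).τ₂ x = 0) :
    ∃ (k : J) (a : j ⟶ k), (K.map a).τ₂ x = 0 := by
  obtain ⟨k, a, b, hab⟩ := Concrete.isColimit_exists_of_rep_eq _ h (i := j) (j := j) x (0 : (K.obj j).X₂)
    (hx.trans (map_zero ((c.ι.app j).τ₂.hom)).symm)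
  exact ⟨k, a, hab.trans (map_zero ((K.map b).τ₂.hom))⟩
theorem kill3 (h : IsColimit (ShortComplex.π₃.mapCocone c)) {j : J} (x : (K.obj j).X₃) (hx : (c.ι.app j).τ₃ x = 0) :
    ∃ (k : J) (a : j ⟶ k), (K.map a).τ₃ x = 0 := by
  obtain ⟨k, a, b, hab⟩ := Concrete.isColimit_exists_of_rep_eq _ h (i := j) (j := j) x (0 : (K.obj j).X₃)
    (hx.trans (map_zero ((c.ι.app j).τ₃.hom)).symm)
  exact ⟨k, a, hab.trans (map_zero ((K.map b).τ₃.hom))⟩
theorem homology_isColimit (h1 : IsColimit (ShortComplex.π₁.mapCocone c)) (h2 : IsColimit (ShortComplex.π₂.mapCocone c))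
    (h3 : IsColimit (ShortComplex.π₃.mapCocone c)) :
    Nonempty (IsColimit ((ShortComplex.homologyFunctor (AddCommGrpCat.{u})).mapCocone c)) := by
  have surjπ : ∀ S : ShortComplex (AddCommGrpCat.{u}), Function.Surjective S.homologyπ := fun S =>
    (AddCommGrpCat.epi_iff_surjective _).1 inferInstance
  have : ReflectsColimitsOfShape J (forget AddCommGrpCat.{u}) :=
    reflectsColimitsOfShape_of_reflectsIsomorphisms
  refine ⟨isColimitOfReflects (forget (AddCommGrpCat.{u})) (Types.FilteredColimit.isColimitOf _ _ ?_ ?_)⟩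
  · intro h
    obtain ⟨z, rfl⟩ := surjπ c.pt h
    obtain ⟨j, x, hx⟩ := rep2 h2 (c.pt.iCycles z)
    obtain ⟨k, a, hab⟩ := kill3 h3 ((K.obj j).g x) (by rw [commg, hx]; exact g_iCycles _ _)
    rw [commg] at hab
    obtain ⟨z', hz'⟩ := cycle_lift (K.obj k) ((K.map a).τ₂ x) hab
    refine ⟨k, (K.obj k).homologyπ z', ?_⟩
    show c.pt.homologyπ z = ShortComplex.homologyMap (c.ι.app k) _
    rw [natπ]
    congr 1
    apply (AddCommGrpCat.mono_iff_injective c.pt.iCycles).1 inferInstance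
    rw [nati, hz', tau2 (c.w a), hx]
  · intro i j xi xj hij
    change ShortComplex.homologyMap (c.ι.app i) xi = ShortComplex.homologyMap (c.ι.app j) xj at hij
    show ∃ (k : J) (f : i ⟶ k) (g : j ⟶ k),
      ShortComplex.homologyMap (K.map f) xi = ShortComplex.homologyMap (K.map g) xj
    obtain ⟨zi, rfl⟩ := surjπ _ xi
    obtain ⟨zj, rfl⟩ := surjπ _ xj
    let k := IsFiltered.max i j
    let u := IsFiltered.leftToMax i j
    let v := IsFiltered.rightToMax i j
    let d := ShortComplex.cyclesMap (K.map u) zi - ShortComplex.cyclesMap (K.map v) zj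
    have hd : c.pt.homologyπ (ShortComplex.cyclesMap (c.ι.app k) d) = 0 := by
      simp only [d, map_sub, ← natπ]
      rw [hmap (c.w u), hmap (c.w v), hij, sub_self]
    obtain ⟨y, hy⟩ := (π_eq_zero_iff _ _).1 hd
    obtain ⟨l, yl, hyl⟩ := rep1 h1 y
    let m := IsFiltered.max k l
    let s := IsFiltered.leftToMax k l
    let t := IsFiltered.rightToMax k l
    obtain ⟨n, a, hab⟩ := kill2 h2 ((K.map s).τ₂ ((K.obj k).iCycles d) - (K.obj m).f ((K.map t).τ₁ yl)) (by
      rw [map_sub, sub_eq_zero, tau2 (c.w s), ← nati, ← hy, commf, tau1 (c.w t), hyl]; rfl)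
    rw [map_sub, sub_eq_zero, commf] at hab
    refine ⟨n, u ≫ s ≫ a, v ≫ s ≫ a, ?_⟩
    have h0 : ShortComplex.homologyMap (K.map (s ≫ a)) ((K.obj k).homologyπ d) = 0 := by
      rw [natπ, π_eq_zero_iff]
      refine ⟨(K.map a).τ₁ ((K.map t).τ₁ yl), ?_⟩
      rw [nati, ← hab]
      exact tau2 (K.map_comp s a).symm _
    simp only [d, map_sub, ← natπ] at h0
    rw [sub_eq_zero] at h0
    rw [← hmap (K.map_comp u (s ≫ a)).symm, ← hmap (K.map_comp v (s ≫ a)).symm]
    exact h0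
end

end Groth.Agent.Unr55.HomColim
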