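import Groth.Agent.Unr55.Et.FiltColimEtale
import Groth.Agent.Unr55.Et.HomologyColim
import Groth.Prelude.Def_EtCech
import Groth.Prelude.Def_EtBase
import Mathlib.CategoryTheory.Limits.Constructions.Over.Products
import Mathlib.CategoryTheory.Limits.Constructions.FiniteProductsOfBinaryProducts
import Mathlib.CategoryTheory.Limits.Shapes.Biproducts
import Mathlib.Algebra.Category.Grp.Biproducts

/-!
Čech cohomology of a finite family of qcqs étale schemes commutes with filtered colimits of sheaves.
-/

set_option autoImplicit false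
universe u

open CategoryTheory CategoryTheory.Limits AlgebraicGeometry Opposite

set_option backward.isDefEq.respectTransparency.types false

namespace Groth.Agent.Unr55.FiltColim

variable {X : Scheme.{u}}

/-- The underlying scheme is quasi-compact quasi-separated. -/
def Qcqs {U : X.Etale} (W : Over U) : Prop :=
  CompactSpace W.left.left ∧ QuasiSeparatedSpace W.left.left

theorem Qcqs.of_iso {U : X.Etale} {W W' : Over U} (e : W ≅ W') (h : Qcqs W) : Qcqs W' := by
  obtain ⟨h1, h2⟩ := h
  let e' : W.left.left ≅ W'.left.left :=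
    (Over.forget X).mapIso ((Scheme.Etale.forget X).mapIso ((Over.forget U).mapIso e))
  exact ⟨QuasiCompact.compactSpace_of_compactSpace e'.inv,
    quasiSeparatedSpace_of_quasiSeparated e'.inv⟩

theorem qcqs_prod {U : X.Etale} [QuasiSeparatedSpace U.left] [HasFiniteProducts (Over U)]
    {f : Over U} {g : Over U} (hf : Qcqs f) (hg : Qcqs g) (c : BinaryFan f g) (hc : IsLimit c) :
    Qcqs c.pt := by
  obtain ⟨h1, h2⟩ := hf
  obtain ⟨h3, h4⟩ := hg
  have sq : IsPullback c.fst.left.left c.snd.left.left f.hom.left g.hom.left :=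
    ((Over.isPullback_of_binaryFan_isLimit c hc).map (Scheme.Etale.forget X)).map (Over.forget X)
  have hqc : QuasiCompact g.hom.left := quasiCompact_of_compactSpace _
  have hqt : QuasiSeparated (terminal.from g.left.left) :=
    (quasiSeparatedSpace_iff_quasiSeparated _).1 h4
  have hqs : QuasiSeparated g.hom.left := by
    refine @QuasiSeparated.of_comp _ _ _ g.hom.left (terminal.from U.left) ?_
    convert hqt
    exact terminal.hom_ext _ _
  have hqc' : QuasiCompact c.fst.left.left :=
    MorphismProperty.of_isPullback (P := @QuasiCompact) sq.flip hqc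
  have hqs' : QuasiSeparated c.fst.left.left :=
    MorphismProperty.of_isPullback (P := @QuasiSeparated) sq.flip hqs
  exact ⟨@QuasiCompact.compactSpace_of_compactSpace _ _ c.fst.left.left hqc' h1,
    @quasiSeparatedSpace_of_quasiSeparated _ _ c.fst.left.left h2 hqs'⟩

theorem qcqs_pi {U : X.Etale} [CompactSpace U.left] [QuasiSeparatedSpace U.left]
    [HasFiniteProducts (Over U)] :
    ∀ (n : ℕ) (f : Fin n → Over U), (∀ i, Qcqs (f i)) → ∀ (c : Fan f), IsLimit c → Qcqs c.pt
  | 0, f, _, c, hc =>
    Qcqs.of_iso (W := Over.mk (𝟙 U))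
      { hom := hc.lift (Fan.mk (Over.mk (𝟙 U)) fun i => i.elim0)
        inv := Over.mkIdTerminal.from c.pt
        hom_inv_id := Over.mkIdTerminal.hom_ext _ _
        inv_hom_id := hc.hom_ext fun i => i.as.elim0 } ⟨‹_›, ‹_›⟩
  | n + 1, f, hf, c, hc => by
    let c₁ := limit.cone (Discrete.functor fun i : Fin n => f i.succ)
    have h₁ : Qcqs c₁.pt := qcqs_pi n (fun i => f i.succ) (fun i => hf _) c₁ (limit.isLimit _)
    have h₂ : Qcqs (f 0 ⨯ c₁.pt) :=
      qcqs_prod (hf 0) h₁ (BinaryFan.mk prod.fst prod.snd) (prodIsProd (f 0) c₁.pt)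
    exact Qcqs.of_iso
      (IsLimit.conePointUniqueUpToIso (extendFanIsLimit f (limit.isLimit _) (prodIsProd (f 0) c₁.pt)) hc) h₂

variable [CompactSpace X] [QuasiSeparatedSpace X]
  (U : X.Etale) [QuasiCompact U.hom] [QuasiSeparated U.hom]
  [HasFiniteProducts (Over U)] (ι : Type (u + 1)) [Finite ι] (Uf : ι → Over U)
  [∀ i, QuasiCompact (Uf i).left.hom] [∀ i, QuasiSeparated (Uf i).left.hom]
  (I : Type (u + 1)) [SmallCategory I] [IsFiltered I]

theorem preservesColimitsOfShape_cech (q : ℕ) :
    PreservesColimitsOfShape I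
      (sheafToPresheaf X.smallEtaleTopology AddCommGrpCat.{u + 1} ⋙ EtCech.cechHFunctor Uf q) := by
  let G : Sheaf X.smallEtaleTopology AddCommGrpCat.{u + 1} ⥤ CochainComplex AddCommGrpCat.{u + 1} ℕ :=
    sheafToPresheaf X.smallEtaleTopology AddCommGrpCat.{u + 1} ⋙
      (Functor.whiskeringLeft (Over U)ᵒᵖ X.Etaleᵒᵖ AddCommGrpCat.{u + 1}).obj (Over.forget U).op ⋙
        cechComplexFunctor Uf
  have : CompactSpace U.left := @QuasiCompact.compactSpace_of_compactSpace U.left X U.hom ‹_› ‹_›
  have : QuasiSeparatedSpace U.left :=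
    @quasiSeparatedSpace_of_quasiSeparated U.left X U.hom ‹_› ‹_›
  have hUf : ∀ i, Qcqs (Uf i) := fun i =>
    ⟨@QuasiCompact.compactSpace_of_compactSpace (Uf i).left.left X (Uf i).left.hom inferInstance ‹CompactSpace X›,
      @quasiSeparatedSpace_of_quasiSeparated (Uf i).left.left X (Uf i).left.hom ‹QuasiSeparatedSpace X› inferInstance⟩
  have hev : ∀ n, PreservesColimitsOfShape I
      (G ⋙ HomologicalComplex.eval AddCommGrpCat.{u + 1} (ComplexShape.up ℕ) n) := by
    intro n
    let Wn : (Fin (n + 1) → ι) → X.Etale := fun x => (∏ᶜ fun k => Uf (x k)).left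
    let T : Sheaf X.smallEtaleTopology AddCommGrpCat.{u + 1} ⥤
        (Discrete (Fin (n + 1) → ι) ⥤ AddCommGrpCat.{u + 1}) :=
      sheafToPresheaf X.smallEtaleTopology AddCommGrpCat.{u + 1} ⋙
        (Functor.whiskeringLeft _ _ _).obj (Discrete.functor fun x => op (Wn x))
    have hT : PreservesColimitsOfShape I T := by
      refine ⟨fun {K} => ⟨fun {c} hc => ⟨evaluationJointlyReflectsColimits _ fun x => ?_⟩⟩⟩
      have := preservesColimitsOfShape_sections (D := AddCommGrpCat.{u + 1}) X.smallEtaleTopology I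
        (U := Wn x.as) (by
          obtain ⟨h1, h2⟩ := qcqs_pi (n + 1) (fun k => Uf (x.as k)) (fun k => hUf _) _ (limit.isLimit _)
          exact @qcqs_of_compactSpace X (Wn x.as) h1 h2)
      exact isColimitOfPreserves
        (sheafToPresheaf X.smallEtaleTopology AddCommGrpCat.{u + 1} ⋙ (evaluation _ _).obj (op (Wn x.as))) hc
    cases nonempty_fintype ι
    have : PreservesColimitsOfShape I
        (lim : (Discrete (Fin (n + 1) → ι) ⥤ AddCommGrpCat.{u + 1}) ⥤ _) :=
      preservesColimitsOfShape_of_natIso HasBiproductsOfShape.colimIsoLim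
    exact preservesColimitsOfShape_of_natIso (J := I) (F := T ⋙ lim)
      (NatIso.ofComponents (fun F => HasLimit.isoOfNatIso (Discrete.natIso fun x => Iso.refl _))
        (fun {F F'} φ => limit.hom_ext fun x => by
          simp [T, G, cechComplexFunctor]
          erw [Category.assoc, Category.assoc, HasLimit.isoOfNatIso_hom_π, limMap_π, limMap_π,
            HasLimit.isoOfNatIso_hom_π_assoc]
          simp; rfl))
  refine ⟨fun {F} => ⟨fun {c} hc => ?_⟩⟩
  exact HomColim.homology_isColimit (K := F ⋙ G ⋙ HomologicalComplex.shortComplexFunctor _ _ q)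
    (c := (G ⋙ HomologicalComplex.shortComplexFunctor _ _ q).mapCocone c)
    (isColimitOfPreserves (G ⋙ HomologicalComplex.eval _ _ ((ComplexShape.up ℕ).prev q)) hc)
    (isColimitOfPreserves (G ⋙ HomologicalComplex.eval _ _ q) hc)
    (isColimitOfPreserves (G ⋙ HomologicalComplex.eval _ _ ((ComplexShape.up ℕ).next q)) hc)

end Groth.Agent.Unr55.FiltColim
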