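import Groth.Prelude.Def_EtBaseX
import Groth.Agent.Unr55.Et.Open
import Mathlib.RingTheory.Etale.StandardEtale
import Mathlib.RingTheory.Polynomial.Basic
import Mathlib.Algebra.Polynomial.Lifts

/-!
The etale local ring at a geometric point is strictly henselian.
-/

universe u

open CategoryTheory CategoryTheory.Limits AlgebraicGeometry Opposite

namespace Groth.Agent.Unr55.EtSh

set_option backward.isDefEq.respectTransparency.types false

instance preservesFilteredColimits_forget_ring :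
    PreservesFilteredColimitsOfSize.{u, u} (forget CommRingCat.{u}) := inferInstance

variable {X : Scheme.{u}} {Ω : Type u} [Field Ω] [IsSepClosed Ω] (ξ : Spec (CommRingCat.of Ω) ⟶ X)

/-- Affine etale neighbourhoods of a geometric point. -/
structure Nbhd where
  /-- the ring -/
  A : CommRingCat.{u}
  /-- the structure map -/
  p : Spec A ⟶ X
  [etale : Etale p]
  /-- the point -/
  χ : A ⟶ CommRingCat.of Ω
  w : Spec.map χ ≫ p = ξ

attribute [instance] Nbhd.etale

variable {ξ}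

/-- The associated object of the etale site. -/
noncomputable abbrev Nbhd.U (N : Nbhd ξ) : X.Etale := Scheme.Etale.mk N.p

/-- The associated point. -/
noncomputable abbrev Nbhd.pt (N : Nbhd ξ) : Pt ξ N.U := mkPt _ (Spec.map N.χ) N.w

/-- The map to the etale local ring. -/
noncomputable def Nbhd.germ (N : Nbhd ξ) : N.A ⟶ EtBase.etaleLocalRing ξ :=
  (Scheme.ΓSpecIso N.A).inv ≫ (Scheme.pointSmallEtale ξ).toPresheafFiber N.U N.pt (EtBase.OO X)

/-- Refinement along a ring map. -/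
noncomputable def Nbhd.extend (N : Nbhd ξ) {B : CommRingCat.{u}} (h : N.A ⟶ B) [Etale (Spec.map h)]
    (ψ : B ⟶ CommRingCat.of Ω) (hψ : h ≫ ψ = N.χ) : Nbhd ξ where
  A := B
  p := Spec.map h ≫ N.p
  χ := ψ
  w := by rw [← Category.assoc, ← Spec.map_comp, hψ, N.w]

theorem Nbhd.germ_extend (N : Nbhd ξ) {B : CommRingCat.{u}} (h : N.A ⟶ B) [Etale (Spec.map h)]
    (ψ : B ⟶ CommRingCat.of Ω) (hψ : h ≫ ψ = N.χ) :
    h ≫ (N.extend h ψ hψ).germ = N.germ := by
  let M := N.extend h ψ hψ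
  let g : M.U ⟶ N.U := MorphismProperty.Over.homMk (Spec.map h) rfl trivial
  have hg : (Scheme.pointSmallEtale ξ).fiber.map g M.pt = N.pt :=
    Over.OverMorphism.ext (show Spec.map ψ ≫ Spec.map h = Spec.map N.χ by rw [← Spec.map_comp, hψ])
  refine ConcreteCategory.hom_ext _ _ fun a => ?_
  change (Scheme.pointSmallEtale ξ).toPresheafFiber M.U M.pt (EtBase.OO X) ((Scheme.ΓSpecIso B).inv (h a)) =
    (Scheme.pointSmallEtale ξ).toPresheafFiber N.U N.pt (EtBase.OO X) ((Scheme.ΓSpecIso N.A).inv a)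
  rw [← hg, ← GrothendieckTopology.Point.toPresheafFiber_w_apply]
  exact congrArg _ (ConcreteCategory.congr_hom (Scheme.ΓSpecIso_inv_naturality h) a)

/-- Every neighbourhood is refined by an affine one. -/
theorem exists_nbhd {U : X.Etale} (t : Pt ξ U) :
    ∃ (N : Nbhd ξ) (g : N.U ⟶ U), (Scheme.pointSmallEtale ξ).fiber.map g N.pt = t := by
  obtain ⟨A, j, hj, hx, -⟩ := Scheme.exists_affine_mem_range_and_range_subset
    (x := hom ξ t default) (U := (⊤ : U.left.Opens)) trivial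
  have : Etale U.hom := U.prop
  let l : Spec (CommRingCat.of Ω) ⟶ Spec A := IsOpenImmersion.lift j (hom ξ t) (by
    rintro _ ⟨b, rfl⟩
    rw [default_eq b]
    exact hx)
  have hl : l ≫ j = hom ξ t := IsOpenImmersion.lift_fac _ _ _
  obtain ⟨χ, hχ⟩ := Spec.map_surjective l
  have ht : hom ξ t ≫ U.hom = ξ := Over.w t
  let N : Nbhd ξ := { A := A, p := j ≫ U.hom, χ := χ, w := by rw [hχ, ← Category.assoc, hl, ht] }
  exact ⟨N, MorphismProperty.Over.homMk j rfl trivial,
    Over.OverMorphism.ext (show Spec.map χ ≫ j = hom ξ t by rw [hχ, hl])⟩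

theorem exists_nbhd_eq (r : EtBase.etaleLocalRing ξ) : ∃ (N : Nbhd ξ) (a : N.A), N.germ a = r := by
  obtain ⟨U, t, s, rfl⟩ := (Scheme.pointSmallEtale ξ).toPresheafFiber_jointly_surjective (P := EtBase.OO X) r
  obtain ⟨N, g, hg⟩ := exists_nbhd t
  refine ⟨N, (Scheme.ΓSpecIso N.A).hom ((EtBase.OO X).map g.op s), ?_⟩
  rw [Nbhd.germ, ConcreteCategory.comp_apply, Iso.hom_inv_id_apply]
  rw [← hg]
  exact (Scheme.pointSmallEtale ξ).toPresheafFiber_w_apply g N.pt (EtBase.OO X) s

theorem exists_common (N₁ N₂ : Nbhd ξ) :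
    ∃ (N : Nbhd ξ) (h₁ : N₁.A ⟶ N.A) (h₂ : N₂.A ⟶ N.A), h₁ ≫ N.germ = N₁.germ ∧ h₂ ≫ N.germ = N₂.germ := by
  obtain ⟨⟨W, w⟩, a, b, -⟩ := IsCofiltered.toIsCofilteredOrEmpty.cone_objs
    (C := (Scheme.pointSmallEtale ξ).fiber.Elements) ⟨N₁.U, N₁.pt⟩ ⟨N₂.U, N₂.pt⟩
  obtain ⟨N, g, hg⟩ := exists_nbhd w
  have key : ∀ (M : Nbhd ξ) (c : W ⟶ M.U), (Scheme.pointSmallEtale ξ).fiber.map c w = M.pt →
      ((Scheme.ΓSpecIso M.A).inv ≫ (EtBase.OO X).map (g ≫ c).op ≫ (Scheme.ΓSpecIso N.A).hom) ≫ N.germ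
        = M.germ := by
    intro M c hc
    have hgc : (Scheme.pointSmallEtale ξ).fiber.map (g ≫ c) N.pt = M.pt := by
      rw [Functor.map_comp]
      exact (congrArg ((Scheme.pointSmallEtale ξ).fiber.map c) hg).trans hc
    refine ConcreteCategory.hom_ext _ _ fun z => ?_
    change (Scheme.pointSmallEtale ξ).toPresheafFiber N.U N.pt (EtBase.OO X) ((Scheme.ΓSpecIso N.A).inv
      ((Scheme.ΓSpecIso N.A).hom ((EtBase.OO X).map (g ≫ c).op ((Scheme.ΓSpecIso M.A).inv z)))) =
      (Scheme.pointSmallEtale ξ).toPresheafFiber M.U M.pt (EtBase.OO X) ((Scheme.ΓSpecIso M.A).inv z)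
    rw [← hgc, ← GrothendieckTopology.Point.toPresheafFiber_w_apply]
    exact congrArg _ (Iso.hom_inv_id_apply (Scheme.ΓSpecIso N.A) _)
  exact ⟨N, _, _, key N₁ a.val a.property, key N₂ b.val b.property⟩

theorem etale_of_isUnit_away {A : CommRingCat.{u}} (a : A) :
    Etale (Spec.map (CommRingCat.ofHom (algebraMap A (Localization.Away a)))) := inferInstance

variable (ξ)

/-- Evaluation at the geometric point. -/
noncomputable def evalPt : EtBase.etaleLocalRing ξ ⟶ CommRingCat.of Ω :=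
  (Scheme.pointSmallEtale ξ).presheafFiberDesc (P := EtBase.OO X)
    (fun U t => (hom ξ t).appTop ≫ (Scheme.ΓSpecIso (CommRingCat.of Ω)).hom)
    (fun U V g t => by
      change g.left.appTop ≫ (hom ξ t).appTop ≫ _ = (hom ξ t ≫ g.left).appTop ≫ _
      rw [Scheme.Hom.comp_appTop, Category.assoc])

variable {ξ}

theorem germ_evalPt (N : Nbhd ξ) : N.germ ≫ evalPt ξ = N.χ := by
  rw [Nbhd.germ, Category.assoc]
  have h := (Scheme.pointSmallEtale ξ).toPresheafFiber_presheafFiberDesc (P := EtBase.OO X)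
    (fun U t => (hom ξ t).appTop ≫ (Scheme.ΓSpecIso (CommRingCat.of Ω)).hom)
  change (Scheme.ΓSpecIso N.A).inv ≫ (_ ≫ evalPt ξ) = N.χ
  erw [h]
  exact (Scheme.ΓSpecIso_inv_naturality_assoc N.χ _).symm.trans (by simp)

theorem evalPt_germ_apply (N : Nbhd ξ) (a : N.A) : evalPt ξ (N.germ a) = N.χ a :=
  ConcreteCategory.congr_hom (germ_evalPt N) a

theorem isUnit_iff_evalPt_ne_zero (r : EtBase.etaleLocalRing ξ) : IsUnit r ↔ evalPt ξ r ≠ 0 := by
  refine ⟨fun h => (h.map (evalPt ξ).hom).ne_zero, fun h => ?_⟩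
  obtain ⟨N, a, rfl⟩ := exists_nbhd_eq r
  rw [evalPt_germ_apply] at h
  let l : Localization.Away a →+* Ω := IsLocalization.Away.lift a (g := N.χ.hom) (isUnit_iff_ne_zero.2 h)
  let q : N.A ⟶ CommRingCat.of (Localization.Away a) := CommRingCat.ofHom (algebraMap N.A (Localization.Away a))
  have : IsOpenImmersion (Spec.map q) := IsOpenImmersion.of_isLocalization a
  have hl : q ≫ CommRingCat.ofHom l = N.χ := CommRingCat.hom_ext (IsLocalization.Away.lift_comp (g := N.χ.hom) a (isUnit_iff_ne_zero.2 h))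
  rw [← N.germ_extend q _ hl]
  exact (IsLocalization.Away.algebraMap_isUnit (S := Localization.Away a) a).map
    (N.extend q (CommRingCat.ofHom l) hl).germ.hom

open Polynomial in
theorem exists_poly_lift (f : (EtBase.etaleLocalRing ξ : Type u)[X]) :
    ∃ (N : Nbhd ξ) (f₀ : (N.A : Type u)[X]), f₀.map N.germ.hom = f := by
  induction f using Polynomial.induction_on' with
  | add p q hp hq =>
    obtain ⟨N₁, p₀, rfl⟩ := hp
    obtain ⟨N₂, q₀, rfl⟩ := hq
    obtain ⟨N, h₁, h₂, e₁, e₂⟩ := exists_common N₁ N₂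
    refine ⟨N, p₀.map h₁.hom + q₀.map h₂.hom, ?_⟩
    rw [Polynomial.map_add, Polynomial.map_map, Polynomial.map_map, ← e₁, ← e₂]
    rfl
  | monomial n r =>
    obtain ⟨N, a, rfl⟩ := exists_nbhd_eq r
    exact ⟨N, monomial n a, map_monomial _⟩

open Polynomial in
/-- Simple roots at the geometric point lift. -/
theorem exists_root_lift (f : (EtBase.etaleLocalRing ξ : Type u)[X]) (hf : f.Monic) (β : Ω)
    (h0 : (f.map (evalPt ξ).hom).eval β = 0) (h1 : (f.map (evalPt ξ).hom).derivative.eval β ≠ 0) :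
    ∃ a, f.IsRoot a ∧ evalPt ξ a = β := by
  obtain ⟨N, f₁, hf₁⟩ := exists_poly_lift f
  have : Nontrivial (EtBase.etaleLocalRing ξ : Type u) := (evalPt ξ).hom.domain_nontrivial
  obtain ⟨f₀, hf₀, -, hm⟩ := lifts_and_degree_eq_and_monic (f := N.germ.hom) ⟨f₁, hf₁⟩ hf
  have hχ : f₀.map N.χ.hom = f.map (evalPt ξ).hom := by
    rw [← hf₀, Polynomial.map_map, ← CommRingCat.hom_comp, germ_evalPt]
  let P : StandardEtalePair (N.A : Type u) := ⟨f₀, hm, f₀.derivative, ⟨1, 0, 1, by ring⟩⟩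
  let : Algebra (N.A : Type u) Ω := N.χ.hom.toAlgebra
  have hβ : P.HasMap β := by
    refine ⟨?_, isUnit_iff_ne_zero.2 ?_⟩
    · rw [aeval_def, ← eval_map]
      exact (congrArg (eval β) hχ).trans h0
    · rw [aeval_def, ← eval_map, ← derivative_map]
      exact (congrArg (fun q => eval β (derivative q)) hχ).trans_ne h1
  let q : N.A ⟶ CommRingCat.of P.Ring := CommRingCat.ofHom (algebraMap N.A P.Ring)
  have : Etale (Spec.map q) := HasRingHomProperty.Spec_iff.2 (RingHom.etale_algebraMap.2 inferInstance)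
  let ψ : CommRingCat.of P.Ring ⟶ CommRingCat.of Ω := CommRingCat.ofHom (P.lift β hβ).toRingHom
  have hψ : q ≫ ψ = N.χ := CommRingCat.hom_ext (P.lift β hβ).comp_algebraMap
  let M := N.extend q ψ hψ
  refine ⟨M.germ P.X, ?_, ?_⟩
  · have h : (f₀.map (algebraMap N.A P.Ring)).eval P.X = 0 := by
      rw [eval_map, ← aeval_def]
      exact StandardEtalePair.hasMap_X.1
    have e : f = (f₀.map (algebraMap N.A P.Ring)).map M.germ.hom := by
      exact (hf₀.symm.trans
        (congrArg (fun k => f₀.map k) (congrArg CommRingCat.Hom.hom (N.germ_extend q ψ hψ)).symm)).trans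
        (Polynomial.map_map (algebraMap N.A P.Ring) M.germ.hom f₀).symm
    rw [IsRoot, e]
    refine (eval_map_apply M.germ.hom P.X).trans ?_
    exact (congrArg M.germ.hom h).trans (map_zero _)
  · exact (evalPt_germ_apply M P.X).trans (P.lift_X β hβ)

variable (ξ) in
theorem isStrictlyHenselian_etaleLocalRing :
    EtCoh.IsStrictlyHenselianLocalRing (EtBase.etaleLocalRing ξ : Type u) := by
  have : Nontrivial (EtBase.etaleLocalRing ξ : Type u) := (evalPt ξ).hom.domain_nontrivial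
  have : IsLocalRing (EtBase.etaleLocalRing ξ : Type u) := IsLocalRing.of_nonunits_add fun a b ha hb => by
    rw [mem_nonunits_iff, isUnit_iff_evalPt_ne_zero, not_not] at ha hb ⊢
    rw [map_add, ha, hb, add_zero]
  have hm : ∀ a, a ∈ IsLocalRing.maximalIdeal (EtBase.etaleLocalRing ξ : Type u) ↔ evalPt ξ a = 0 := by
    intro a
    rw [IsLocalRing.mem_maximalIdeal, mem_nonunits_iff, isUnit_iff_evalPt_ne_zero, not_not]
  have hH : HenselianLocalRing (EtBase.etaleLocalRing ξ : Type u) := ⟨fun f hf a₀ h0 h1 => by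
    obtain ⟨a, ha, hβ⟩ := exists_root_lift f hf (evalPt ξ a₀)
      ((Polynomial.eval_map_apply (evalPt ξ).hom a₀).trans ((hm _).1 h0))
      (by
        rw [Polynomial.derivative_map, Polynomial.eval_map_apply]
        exact (isUnit_iff_evalPt_ne_zero _).1 h1)
    refine ⟨a, ha, (hm _).2 ?_⟩
    rw [map_sub, sub_eq_zero]
    exact hβ⟩
  refine ⟨hH, IsSepClosed.of_exists_root _ fun p hp hirr hsep => ?_⟩
  let ι : IsLocalRing.ResidueField (EtBase.etaleLocalRing ξ : Type u) →+* Ω :=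
    Ideal.Quotient.lift _ (evalPt ξ).hom fun a ha => (hm a).1 ha
  obtain ⟨β, hβ⟩ := IsSepClosed.exists_root (p.map ι) (by
    rw [Polynomial.degree_map]; exact hirr.degree_pos.ne') hsep.map
  obtain ⟨f, hf, -, hfm⟩ := Polynomial.lifts_and_degree_eq_and_monic
    (Polynomial.map_surjective _ IsLocalRing.residue_surjective p) hp
  have e : f.map (evalPt ξ).hom = p.map ι := by
    rw [← hf, Polynomial.map_map]
    rfl
  obtain ⟨a, ha, haβ⟩ := exists_root_lift f hfm β (e ▸ hβ) (e ▸ fun h => by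
      obtain ⟨c, d, hcd⟩ := hsep.map (f := ι)
      rw [Polynomial.derivative_map] at h
      simpa [Polynomial.derivative_map, h, Polynomial.IsRoot.eq_zero hβ] using congrArg (Polynomial.eval β) hcd)
  exact ⟨IsLocalRing.residue _ a, by rw [← hf, Polynomial.eval_map_apply, ha.eq_zero, map_zero]⟩

end Groth.Agent.Unr55.EtSh
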