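import Groth.Prelude.Def_EtGm
import Groth.Agent.Unr55.Et.Open
import Mathlib.CategoryTheory.Sites.ConstantSheaf
import Mathlib.CategoryTheory.Sites.LocallyBijective
import Mathlib.RingTheory.RootsOfUnity.AlgebraicallyClosed
import Mathlib.RingTheory.Henselian
import Mathlib.Algebra.Polynomial.RingDivision

/-!
`μ_n` is constant over a strictly henselian base on which `n` is invertible.
-/

universe u

open CategoryTheory CategoryTheory.Limits AlgebraicGeometry Opposite Polynomial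

namespace Groth.Agent.Unr55.EtSh

theorem exists_primitive {A : Type u} [CommRing A] [HenselianLocalRing A]
    [IsSepClosed (IsLocalRing.ResidueField A)] (n : ℕ) (hu : IsUnit (n : A)) :
    ∃ ζ : Aˣ, ζ ^ n = 1 ∧
      ∀ i < n, ∀ j < n, i ≠ j → IsUnit (((ζ ^ i : Aˣ) : A) - ((ζ ^ j : Aˣ) : A)) := by
  let κ := IsLocalRing.ResidueField A
  have hnκ : IsUnit (n : κ) := (map_natCast (IsLocalRing.residue A) n) ▸ hu.map (IsLocalRing.residue A)
  have hn0 : n ≠ 0 := fun h => hnκ.ne_zero (by simp [h])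
  haveI : NeZero (n : κ) := ⟨hnκ.ne_zero⟩
  obtain ⟨z, hz⟩ := HasEnoughRootsOfUnity.exists_primitiveRoot κ n
  obtain ⟨a₀, ha₀⟩ := IsLocalRing.residue_surjective z
  have hm : (X ^ n - 1 : A[X]).Monic := by simpa using monic_X_pow_sub_C (1 : A) hn0
  obtain ⟨a, ha, ha'⟩ := HenselianLocalRing.is_henselian (X ^ n - 1 : A[X]) hm a₀
    (by rw [← IsLocalRing.residue_eq_zero_iff]; simp [ha₀, hz.pow_eq_one])
    (by
      rw [← IsLocalRing.notMem_maximalIdeal, ← IsLocalRing.residue_eq_zero_iff]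
      simp [ha₀, derivative_X_pow, hnκ.ne_zero, (hz.isUnit hn0).ne_zero])
  have hpow : a ^ n = 1 := sub_eq_zero.1 (by simpa using ha)
  have hres : IsLocalRing.residue A a = z := by
    rw [← ha₀, ← sub_eq_zero, ← map_sub, IsLocalRing.residue_eq_zero_iff]; exact ha'
  refine ⟨Units.ofPowEqOne a n hpow hn0, Units.ext (by simp [hpow]), fun i hi j hj hij => ?_⟩
  rw [← IsLocalRing.notMem_maximalIdeal, ← IsLocalRing.residue_eq_zero_iff, map_sub, sub_eq_zero]
  simp only [Units.val_pow_eq_pow_val, map_pow, Units.val_ofPowEqOne, hres]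
  exact fun h => hij (hz.pow_inj hi hj h)

theorem X_pow_sub_one_eq_prod_of_isUnit {A : Type u} [CommRing A] [Nontrivial A] {n : ℕ} (hn : n ≠ 0)
    (ζ : Aˣ) (h1 : ζ ^ n = 1)
    (h2 : ∀ i < n, ∀ j < n, i ≠ j → IsUnit (((ζ ^ i : Aˣ) : A) - ((ζ ^ j : Aˣ) : A))) :
    (X ^ n - 1 : A[X]) = ∏ i ∈ Finset.range n, (X - C ((ζ ^ i : Aˣ) : A)) := by
  have hdvd : (∏ i ∈ Finset.range n, (X - C ((ζ ^ i : Aˣ) : A))) ∣ (X ^ n - 1 : A[X]) := by
    refine Finset.prod_dvd_of_coprime (fun i hi j hj hij => ?_) fun i _ => ?_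
    · exact isCoprime_X_sub_C_of_isUnit_sub
        (h2 i (Finset.mem_range.1 hi) j (Finset.mem_range.1 hj) hij)
    · rw [dvd_iff_isRoot, IsRoot, eval_sub, eval_pow, eval_X, eval_one, ← Units.val_pow_eq_pow_val,
        ← pow_mul, mul_comm, pow_mul, h1, one_pow, Units.val_one, sub_self]
  have hm : (X ^ n - 1 : A[X]).Monic := by simpa using monic_X_pow_sub_C (1 : A) hn
  refine (eq_of_monic_of_dvd_of_natDegree_le (monic_prod_of_monic _ _ fun i _ => monic_X_sub_C _) hm hdvd ?_)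
  rw [natDegree_prod_of_monic _ _ fun i _ => monic_X_sub_C _]
  simp only [natDegree_X_sub_C, Finset.sum_const, Finset.card_range, smul_eq_mul, mul_one]
  exact (by simpa using le_of_eq (natDegree_X_pow_sub_C (n := n) (r := (1 : A))))

set_option backward.isDefEq.respectTransparency.types false

variable {A : Type u} [CommRing A] {X₀ : Scheme.{u}} (f : X₀ ⟶ Spec (CommRingCat.of A))

/-- The ring map from the base to functions on an etale scheme. -/
noncomputable def baseMap (U : X₀.Etale) : CommRingCat.of A ⟶ Γ(U.left, ⊤) :=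
  (Scheme.ΓSpecIso (CommRingCat.of A)).inv ≫ f.appTop ≫ U.hom.appTop

theorem baseMap_comp {U V : X₀.Etale} (g : V ⟶ U) : baseMap f U ≫ g.left.appTop = baseMap f V := by
  have e : g.left ≫ U.hom = V.hom := Over.w g.hom
  simp only [baseMap, Category.assoc]
  rw [← e, Scheme.Hom.comp_appTop]

/-- The constant presheaf maps to `G_m` through powers of a root of unity. -/
noncomputable def constToGm (n : ℕ) (ζ : Aˣ) (hζ : ζ ^ n = 1) :
    (Functor.const X₀.Etaleᵒᵖ).obj (AddCommGrpCat.of (ULift.{u + 1} (ZMod n))) ⟶ (EtCoh.Gm X₀).obj where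
  app U := AddCommGrpCat.ofHom
    ((AddEquiv.ulift.symm.toAddMonoidHom.comp
      (((Units.map (baseMap f U.unop).hom.toMonoidHom).toAdditive).comp
        (ZMod.lift n ⟨zmultiplesHom (Additive Aˣ) (Additive.ofMul ζ), by
          rw [zmultiplesHom_apply, ← ofMul_zpow, zpow_natCast, hζ]; rfl⟩))).comp
      AddEquiv.ulift.toAddMonoidHom)
  naturality U V g := by
    refine ConcreteCategory.hom_ext _ _ fun z => ?_
    refine ULift.ext _ _ (congrArg Additive.ofMul (Units.ext ?_))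
    exact (congrArg (fun k : CommRingCat.of A ⟶ Γ(V.unop.left, ⊤) => k.hom
      (Additive.toMul ((ZMod.lift n ⟨zmultiplesHom (Additive Aˣ) (Additive.ofMul ζ), by
          rw [zmultiplesHom_apply, ← ofMul_zpow, zpow_natCast, hζ]; rfl⟩) (ULift.down z)) : Aˣ))
      (baseMap_comp f g.unop)).symm

theorem constToGm_apply (n : ℕ) [NeZero n] (ζ : Aˣ) (hζ : ζ ^ n = 1) (U : X₀.Etale) (z : ZMod n) :
    ((Additive.toMul (ULift.down ((constToGm f n ζ hζ).app (op U) (ULift.up z))) : (Γ(U.left, ⊤))ˣ) :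
      Γ(U.left, ⊤)) = baseMap f U ((ζ ^ z.val : Aˣ) : A) := by
  change (baseMap f U).hom ((Additive.toMul (ZMod.lift n _ z) : Aˣ) : A) = _
  congr 2
  obtain ⟨k, rfl⟩ : ∃ k : ℕ, (k : ZMod n) = z := ⟨z.val, ZMod.natCast_zmod_val z⟩
  rw [show ((k : ZMod n)) = ((k : ℤ) : ZMod n) by simp, ZMod.lift_coe]
  simp only [zmultiplesHom_apply, natCast_zsmul, toMul_nsmul, toMul_ofMul]
  rw [Int.cast_natCast, ZMod.val_natCast]
  exact pow_eq_pow_mod k hζ

include f in
theorem nonempty_mu_iso_const [HenselianLocalRing A] [IsSepClosed (IsLocalRing.ResidueField A)]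
    (n : ℕ) (hn : 1 ≤ n) (hu : IsUnit (n : A)) :
    Nonempty (EtCoh.mu X₀ n ≅ EtCoh.const X₀ (ZMod n)) := by
  haveI : NeZero n := ⟨by omega⟩
  obtain ⟨ζ, h1, h2⟩ := exists_primitive n hu
  have hprod := X_pow_sub_one_eq_prod_of_isUnit (by omega) ζ h1 h2
  let k := constToGm f n ζ h1
  let adj := sheafificationAdjunction X₀.smallEtaleTopology AddCommGrpCat.{u + 1}
  let α₀ : EtCoh.const X₀ (ZMod n) ⟶ EtCoh.Gm X₀ := (adj.homEquiv _ _).symm k
  have hα₀ : α₀ ≫ EtCoh.powMap X₀ n = 0 := by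
    rw [EtCoh.powMap, Preadditive.comp_nsmul, Category.comp_id]
    have h0 : n • k = 0 := by
      refine NatTrans.ext (funext fun U => ConcreteCategory.hom_ext _ _ fun z => ?_)
      change n • k.app U z = 0
      rw [← map_nsmul]
      have : n • z = 0 := ULift.ext _ _ (by simp)
      rw [this, map_zero]
    have hz : (adj.homEquiv _ _) (n • α₀) = n • (adj.homEquiv _ _) α₀ :=
      map_nsmul (adj.homAddEquiv _ _) n α₀
    apply (adj.homEquiv _ _).injective
    rw [hz, Equiv.apply_symm_apply, h0]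
    exact ((adj.homAddEquiv ((Functor.const _).obj (AddCommGrpCat.of (ULift.{u + 1} (ZMod n)))) (EtCoh.Gm X₀)).map_zero).symm
  let α : EtCoh.const X₀ (ZMod n) ⟶ EtCoh.mu X₀ n := kernel.lift _ α₀ hα₀
  let ψ := (adj.homEquiv _ _) α
  have hψ : ψ ≫ (EtCoh.muι X₀ n).hom = k := by
    have e : (adj.homEquiv _ _) (α ≫ EtCoh.muι X₀ n) = ψ ≫ (EtCoh.muι X₀ n).hom :=
      adj.homEquiv_naturality_right _ _
    exact e.symm.trans ((congrArg (adj.homEquiv _ _) (kernel.lift_ι _ _ _)).trans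
      (Equiv.apply_symm_apply _ _))
  have hι : ∀ U, Function.Injective ((EtCoh.muι X₀ n).hom.app (op U)) := fun U => by
    have : Mono (EtCoh.muι X₀ n) := inferInstanceAs (Mono (kernel.ι _))
    have : Mono ((sheafToPresheaf _ _).map (EtCoh.muι X₀ n)) := inferInstance
    exact (AddCommGrpCat.mono_iff_injective _).1
      (((NatTrans.mono_iff_mono_app _).1 this) (op U))
  have hψ' : ∀ U z, (EtCoh.muι X₀ n).hom.app (op U) (ψ.app (op U) z) = k.app (op U) z := fun U z =>
    congrArg (fun q => (q.app (op U)) z) hψ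
  have : Presheaf.IsLocallyInjective X₀.smallEtaleTopology ψ := by
    refine ⟨fun {U} z z' hzz => mem_topology fun x => ?_⟩
    suffices z = z' from ⟨U.unop, 𝟙 _, x, by simp [this], rfl⟩
    have hk := ((hψ' U.unop z).symm.trans (congrArg _ hzz)).trans (hψ' U.unop z')
    have hk' := congrArg (fun s => ((Additive.toMul (ULift.down s) : (Γ(U.unop.left, ⊤))ˣ) : Γ(U.unop.left, ⊤))) hk
    have ea := constToGm_apply f n ζ h1 U.unop
    obtain ⟨a⟩ := z
    obtain ⟨b⟩ := z'
    have e : baseMap f U.unop ((ζ ^ a.val : Aˣ) : A) = baseMap f U.unop ((ζ ^ b.val : Aˣ) : A) :=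
      ((ea a).symm.trans hk').trans (ea b)
    by_contra hne
    have hu' := (h2 _ a.val_lt _ b.val_lt fun h => hne (congrArg ULift.up (ZMod.val_injective n h))).map
      (baseMap f U.unop).hom
    rw [map_sub] at hu'
    rw [show (baseMap f U.unop).hom ((ζ ^ a.val : Aˣ) : A) = (baseMap f U.unop).hom ((ζ ^ b.val : Aˣ) : A) from e,
      sub_self] at hu'
    have hu0 := hu'.map (U.unop.left.presheaf.germ ⊤ x trivial).hom
    rw [map_zero] at hu0
    exact not_isUnit_zero hu0
  have : Presheaf.IsLocallySurjective X₀.smallEtaleTopology ψ := by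
    refine ⟨fun {U} τ => mem_topology fun x => ?_⟩
    let R := Γ(U.left, ⊤)
    let w : Rˣ := Additive.toMul (ULift.down ((EtCoh.muι X₀ n).hom.app (op U) τ))
    have hw : w ^ n = 1 := by
      have h := congrArg (fun q : EtCoh.mu X₀ n ⟶ EtCoh.Gm X₀ => q.hom.app (op U) τ) (kernel.condition (EtCoh.powMap X₀ n))
      have h' : n • (EtCoh.muι X₀ n).hom.app (op U) τ = 0 := by
        simp [EtCoh.powMap, EtCoh.muι] at h ⊢
        exact h
      exact congrArg (fun s : ULift.{u + 1} (Additive Rˣ) => Additive.toMul s.down) h'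
    let β := baseMap f U
    have h0 : ∏ i ∈ Finset.range n, ((w : R) - β.hom ((ζ ^ i : Aˣ) : A)) = 0 := by
      have h := congrArg (fun P : A[X] => P.eval₂ β.hom (w : R)) hprod
      simp only [eval₂_sub, eval₂_X_pow, eval₂_one, eval₂_finsetProd, eval₂_X, eval₂_C] at h
      rw [← h, ← Units.val_pow_eq_pow_val, hw, Units.val_one, sub_self]
    let γ := U.left.presheaf.germ ⊤ x trivial
    obtain ⟨i, hi, hix⟩ : ∃ i < n, ∀ j < n, j ≠ i → IsUnit (γ.hom ((w : R) - β.hom ((ζ ^ j : Aˣ) : A))) := by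
      obtain ⟨i, hi, hni⟩ : ∃ i < n, ¬ IsUnit (γ.hom ((w : R) - β.hom ((ζ ^ i : Aˣ) : A))) := by
        by_contra! hc
        have h := congrArg γ.hom h0
        rw [map_prod, map_zero] at h
        exact (IsUnit.prod_iff.2 (fun i hi => hc i (Finset.mem_range.1 hi)) : IsUnit (∏ i ∈ Finset.range n, _)).ne_zero h
      refine ⟨i, hi, fun j hj hji => by_contra fun hnj => ?_⟩
      have hu' := (h2 j hj i hi hji).map (γ.hom.comp β.hom)
      have : γ.hom.comp β.hom (((ζ ^ j : Aˣ) : A) - ((ζ ^ i : Aˣ) : A)) ∈ IsLocalRing.maximalIdeal _ := by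
        rw [show γ.hom.comp β.hom (((ζ ^ j : Aˣ) : A) - ((ζ ^ i : Aˣ) : A)) =
          γ.hom ((w : R) - β.hom ((ζ ^ i : Aˣ) : A)) - γ.hom ((w : R) - β.hom ((ζ ^ j : Aˣ) : A)) by
            simp only [map_sub, RingHom.comp_apply]; ring]
        exact Ideal.sub_mem _ hni hnj
      exact this hu'
    let p : R := ∏ j ∈ (Finset.range n).erase i, ((w : R) - β.hom ((ζ ^ j : Aˣ) : A))
    let O : U.left.Opens := U.left.basicOpen p
    have hxO : x ∈ O := by
      rw [Scheme.mem_basicOpen_top, map_prod]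
      exact IsUnit.prod_iff.2 fun j hj => hix j (Finset.mem_range.1 (Finset.mem_of_mem_erase hj)) (Finset.ne_of_mem_erase hj)
    refine ⟨openSub U O, openSubι U O, ⟨x, hxO⟩, ⟨ULift.up ((i : ZMod n)), hι _ ?_⟩, rfl⟩
    refine (hψ' _ _).trans ?_
    refine Eq.trans ?_ (NatTrans.naturality_apply (EtCoh.muι X₀ n).hom (openSubι U O).op τ).symm
    refine ULift.ext _ _ (congrArg Additive.ofMul (Units.ext ?_))
    refine (constToGm_apply f n ζ h1 _ _).trans ?_
    rw [ZMod.val_natCast, Nat.mod_eq_of_lt hi]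
    have e : baseMap f (openSub U O) ((ζ ^ i : Aˣ) : A) = O.ι.appTop.hom (β.hom ((ζ ^ i : Aˣ) : A)) :=
      (congrArg (fun q : CommRingCat.of A ⟶ Γ((openSub U O).left, ⊤) => q.hom ((ζ ^ i : Aˣ) : A))
        (baseMap_comp f (openSubι U O))).symm
    refine e.trans ?_
    symm
    show O.ι.appTop.hom (w : R) = O.ι.appTop.hom (β.hom ((ζ ^ i : Aˣ) : A))
    have hp : IsUnit (O.ι.appTop.hom p) := by
      have := RingedSpace.isUnit_res_basicOpen U.left.toLocallyRingedSpace.toRingedSpace p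
      have e2 : O.ι.appTop = U.left.presheaf.map (homOfLE (le_top : O ≤ ⊤)).op ≫
          U.left.presheaf.map (homOfLE (O.ι_image_top.le : O.ι ''ᵁ ⊤ ≤ O)).op := by
        rw [Scheme.Opens.ι_appTop, ← Functor.map_comp]
        rfl
      rw [e2]
      exact this.map (U.left.presheaf.map (homOfLE (O.ι_image_top.le : O.ι ''ᵁ ⊤ ≤ O)).op).hom
    have h := congrArg O.ι.appTop.hom h0
    rw [← Finset.mul_prod_erase _ _ (Finset.mem_range.2 hi), map_mul, map_zero] at h
    rw [← sub_eq_zero, ← map_sub]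
    exact hp.mul_left_eq_zero.1 h
  have hW : X₀.smallEtaleTopology.W ψ := X₀.smallEtaleTopology.W_of_isLocallyBijective ψ
  have : IsIso ((presheafToSheaf X₀.smallEtaleTopology AddCommGrpCat.{u + 1}).map ψ) :=
    (X₀.smallEtaleTopology.W_iff ψ).1 hW
  have hc : IsIso (adj.counit.app (EtCoh.mu X₀ n)) := inferInstance
  have hi := IsIso.comp_isIso' this hc
  have hα := ((adj.homEquiv _ _).symm_apply_apply α).symm.trans (adj.homEquiv_counit ..)
  have : IsIso α := (congrArg (fun q : EtCoh.const X₀ (ZMod n) ⟶ EtCoh.mu X₀ n => IsIso q) hα).mpr hi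
  exact ⟨(asIso α).symm⟩

end Groth.Agent.Unr55.EtSh
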