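import Groth.Prelude.Def_EtBase
import Mathlib.CategoryTheory.Limits.MorphismProperty
import Mathlib.CategoryTheory.Limits.Constructions.Over.Products
import Mathlib.CategoryTheory.Limits.Constructions.FiniteProductsOfBinaryProducts
import Mathlib.CategoryTheory.Adjunction.Limits
import Mathlib.CategoryTheory.Comma.Over.Pullback

/-!
Functors preserving pullbacks induce product-preserving functors on slices.
-/

universe u

open CategoryTheory CategoryTheory.Limits AlgebraicGeometry

namespace Groth.Agent.Unr55.EtSh

set_option backward.isDefEq.respectTransparency.types false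

theorem preservesFiniteProducts_overPost {C D : Type*} [Category C] [Category D] (F : C ⥤ D)
    [PreservesLimitsOfShape WalkingCospan F] (V : C) [HasFiniteProducts (Over V)] :
    PreservesFiniteProducts (Over.post (X := V) F) := by
  have : PreservesLimit (Functor.empty.{0} (Over V)) (Over.post (X := V) F) :=
    preservesLimit_of_preserves_limit_cone Over.mkIdTerminal
      ((isLimitMapConeEmptyConeEquiv _ _).symm (Over.mkIdTerminal.ofIso (Over.isoMk (Iso.refl _) ((Category.id_comp _).trans (F.map_id V)))))
  have : PreservesLimitsOfShape (Discrete PEmpty.{1}) (Over.post (X := V) F) :=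
    preservesLimitsOfShape_pempty_of_preservesTerminal _
  have : PreservesLimitsOfShape (Discrete WalkingPair) (Over.post (X := V) F) := by
    refine ⟨fun {K} => ?_⟩
    suffices PreservesLimit (pair (K.obj ⟨.left⟩) (K.obj ⟨.right⟩)) (Over.post (X := V) F) from
      preservesLimit_of_iso_diagram _ (diagramIsoPair K).symm
    refine preservesLimit_of_preserves_limit_cone (prodIsProd (K.obj ⟨.left⟩) (K.obj ⟨.right⟩)) ?_
    refine (isLimitMapConeBinaryFanEquiv _ _ _).symm ?_
    have h := (Over.isPullback_of_binaryFan_isLimit _ (prodIsProd (K.obj ⟨.left⟩) (K.obj ⟨.right⟩))).map F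
    exact IsLimit.ofIsoLimit h.isLimit.pullbackConeEquivBinaryFanFunctor
      (BinaryFan.ext (Over.isoMk (Iso.refl _)
          ((Category.id_comp _).trans ((congrArg F.map (Over.w prod.fst).symm).trans (F.map_comp _ _))))
        (Over.OverMorphism.ext (Category.id_comp _).symm) (Over.OverMorphism.ext (Category.id_comp _).symm))
  exact PreservesFiniteProducts.of_preserves_binary_and_terminal _

end Groth.Agent.Unr55.EtSh
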