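import Groth.Agent.Unr55.Et.StrictHensH
import Groth.Agent.Unr55.Et.FinitePushExact

/-!
Cohomology of a scheme finite over a strictly henselian local ring vanishes in positive degree.
-/

universe u

open CategoryTheory CategoryTheory.Limits AlgebraicGeometry Opposite

namespace Groth.Agent.Unr55.EtSh

set_option backward.isDefEq.respectTransparency.types false

/-- If global sections are exact, the constant sheaf `ℤ` is projective. -/
theorem projective_of_surjective_top (X : Scheme.{u})
    (hX : ∀ {F G : EtCoh.Ab X} (φ : F ⟶ G) [Epi φ], Function.Surjective (φ.hom.app (op (EtCoh.top X)))) :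
    Projective ((constantSheaf X.smallEtaleTopology AddCommGrpCat.{u + 1}).obj
      (AddCommGrpCat.of (ULift.{u + 1} ℤ))) := by
  refine ⟨fun {G F} h e _ => ?_⟩
  let adj := constantSheafAdj X.smallEtaleTopology AddCommGrpCat.{u + 1} (isTerminalTop X)
  let h' := adj.homEquiv _ _ h
  obtain ⟨σ, hσ⟩ := hX e (h' (ULift.up 1))
  let k : AddCommGrpCat.of (ULift.{u + 1} ℤ) ⟶
      ((sheafSections _ AddCommGrpCat.{u + 1}).obj (op (EtCoh.top X))).obj G :=
    AddCommGrpCat.ofHom ((zmultiplesHom _ σ).comp AddEquiv.ulift.toAddMonoidHom)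
  refine ⟨(adj.homEquiv _ _).symm k, ?_⟩
  apply (adj.homEquiv _ _).injective
  rw [Adjunction.homEquiv_naturality_right, Equiv.apply_symm_apply]
  refine ConcreteCategory.hom_ext _ _ ?_
  rintro ⟨z⟩
  have hz : (⟨z⟩ : ULift.{u + 1} ℤ) = z • ULift.up 1 := ULift.ext _ _ (by simp)
  rw [hz]
  refine (map_zsmul _ z _).trans (((congrArg (fun q => z • q) ?_)).trans (map_zsmul h'.hom z _).symm)
  change e.hom.app _ ((1 : ℤ) • σ) = h' (ULift.up 1)
  rw [one_smul, hσ]

theorem app_top_surjective_finite (R : Type u) [CommRing R] [HenselianLocalRing R]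
    [IsSepClosed (IsLocalRing.ResidueField R)] {X : Scheme.{u}} (f : X ⟶ Spec (CommRingCat.of R))
    [IsFinite f] {F G : EtCoh.Ab X} (φ : F ⟶ G) [Epi φ] :
    Function.Surjective (φ.hom.app (op (EtCoh.top X))) := by
  intro τ
  have := epi_push_map_of_finite f φ
  let T := (EtCoh.bc f).obj (EtCoh.top (Spec (CommRingCat.of R)))
  let a : T ⟶ EtCoh.top X := (isTerminalTop X).from T
  let b : EtCoh.top X ⟶ T := MorphismProperty.Over.homMk
    (pullback.lift f (𝟙 X) ((Category.comp_id _).trans (Category.id_comp _).symm))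
    (pullback.lift_snd _ _ _) trivial
  have hab : b ≫ a = 𝟙 _ := (isTerminalTop X).hom_ext _ _
  obtain ⟨σ, hσ⟩ := app_top_surjective R ((EtCoh.push f).map φ) (G.obj.map a.op τ)
  refine ⟨F.obj.map b.op σ, ?_⟩
  refine (NatTrans.naturality_apply φ.hom b.op σ).trans ((congrArg (G.obj.map b.op) hσ).trans ?_)
  change (G.obj.map a.op ≫ G.obj.map b.op) τ = τ
  rw [← Functor.map_comp, ← op_comp, hab, op_id, CategoryTheory.Functor.map_id, ConcreteCategory.id_apply]

theorem H_subsingleton_finite (R : Type u) [CommRing R] [HenselianLocalRing R]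
    [IsSepClosed (IsLocalRing.ResidueField R)] {X : Scheme.{u}} (f : X ⟶ Spec (CommRingCat.of R))
    [IsFinite f] (F : EtCoh.Ab X) (p : ℕ) (hp : 1 ≤ p) : Subsingleton (EtCoh.H X F p) := by
  obtain ⟨q, rfl⟩ := Nat.exists_eq_add_one.2 hp
  have := projective_of_surjective_top X fun φ => app_top_surjective_finite R f φ
  exact Abelian.Ext.subsingleton_of_projective _ _ _

end Groth.Agent.Unr55.EtSh
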