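import Groth.Agent.Unr55.TopInv
import Mathlib.AlgebraicGeometry.Gluing
import Mathlib.CategoryTheory.LocallyDirected

/-!
Local lifts of etale schemes along a universal homeomorphism glue.
-/

universe u

open CategoryTheory Limits AlgebraicGeometry

namespace Groth.Agent.Unr55.EtGlue

set_option backward.isDefEq.respectTransparency.types false

variable {S S' : Scheme.{u}} {g : S' ⟶ S}

theorem univHomeo_of_isPullback {P X : Scheme.{u}} {a : P ⟶ X} {b : P ⟶ S'} {q : X ⟶ S}
    (h : IsPullback a b q g) (hg : IsUnivHomeo g) : IsUnivHomeo a := fun {Z} r => by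
  have H : IsPullback (pullback.fst r a) (pullback.snd r a ≫ b) (r ≫ q) g :=
    ((IsPullback.of_hasPullback r a).flip.paste_horiz h.flip).flip
  rw [← H.isoPullback_hom_fst]
  exact (hg (r ≫ q)).comp H.isoPullback.hom.homeomorph.isHomeomorph

theorem isHomeomorph_of_isPullback {P X : Scheme.{u}} {a : P ⟶ X} {b : P ⟶ S'} {q : X ⟶ S}
    (h : IsPullback a b q g) (hg : IsUnivHomeo g) : IsHomeomorph a := by
  rw [← h.isoPullback_hom_fst]
  exact (hg q).comp h.isoPullback.hom.homeomorph.isHomeomorph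

variable {U' : Scheme.{u}} (p' : U' ⟶ S')

/-- A lift of an open subscheme. -/
structure Lift (g : S' ⟶ S) (W : U'.Opens) where
  /-- the lifted scheme -/
  V : Scheme.{u}
  /-- its structure map -/
  q : V ⟶ S
  [etale : Etale q]
  /-- the comparison map -/
  a : W.toScheme ⟶ V
  isPullback : IsPullback a (W.ι ≫ p') q g

attribute [instance] Lift.etale

variable {p'}

theorem Lift.restrict (hg : IsUnivHomeo g) {W W' : U'.Opens} (L : Lift p' g W) (h : W' ≤ W) :
    Nonempty (Lift p' g W') := by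
  have hL := isHomeomorph_of_isPullback L.isPullback hg
  let O : L.V.Opens := ⟨L.a '' ((W.ι ⁻¹ᵁ W' : W.toScheme.Opens) : Set W.toScheme), hL.isOpenMap _ (W.ι ⁻¹ᵁ W').2⟩
  have hO : L.a ⁻¹ᵁ O = (U'.homOfLE h).opensRange := by
    rw [Scheme.opensRange_homOfLE]
    exact TopologicalSpace.Opens.ext (Set.preimage_image_eq _ hL.injective)
  let a' : W'.toScheme ⟶ O.toScheme := IsOpenImmersion.lift O.ι (U'.homOfLE h ≫ L.a) (by
    rintro _ ⟨x, rfl⟩
    refine O.range_ι.ge ?_
    change L.a (U'.homOfLE h x) ∈ O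
    exact (hO.ge ⟨x, rfl⟩ : U'.homOfLE h x ∈ L.a ⁻¹ᵁ O))
  have hsq : IsPullback a' (U'.homOfLE h) O.ι L.a :=
    IsOpenImmersion.isPullback a' (U'.homOfLE h) O.ι L.a (IsOpenImmersion.lift_fac _ _ _).symm
      (by rw [O.opensRange_ι]; exact hO)
  refine ⟨⟨O.toScheme, O.ι ≫ L.q, a', ?_⟩⟩
  have := hsq.paste_vert L.isPullback
  rwa [Scheme.homOfLE_ι_assoc] at this

variable (p') in
/-- Opens that lift. -/
abbrev Idx (g : S' ⟶ S) : Type u := {W : U'.Opens // Nonempty (Lift p' g W)}

/-- A chosen lift. -/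
noncomputable def Idx.lift (W : Idx p' g) : Lift p' g W.1 := W.2.some

theorem existsUnique_map (hg : IsUnivHomeo g) {W' W : Idx p' g} (h : W'.1 ≤ W.1) :
    ∃! φ : W'.lift.V ⟶ W.lift.V, φ ≫ W.lift.q = W'.lift.q ∧ W'.lift.a ≫ φ = U'.homOfLE h ≫ W.lift.a :=
  existsUnique_hom_of_isUnivHomeo W.lift.q W'.lift.a (univHomeo_of_isPullback W'.lift.isPullback hg)
    W'.lift.q (U'.homOfLE h ≫ W.lift.a) (by
      rw [Category.assoc, W.lift.isPullback.w, W'.lift.isPullback.w, ← Category.assoc,
        Scheme.homOfLE_ι_assoc])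

/-- The diagram of lifts. -/
noncomputable def diagram (hg : IsUnivHomeo g) : Idx p' g ⥤ Scheme.{u} where
  obj W := W.lift.V
  map {W' W} h := (existsUnique_map hg (leOfHom h)).choose
  map_id W := ((existsUnique_map hg (le_refl W.1)).choose_spec.2 (𝟙 _)
    ⟨Category.id_comp _, by rw [Category.comp_id, Scheme.homOfLE_rfl, Category.id_comp]⟩).symm
  map_comp {W₁ W₂ W₃} h h' := by
    obtain ⟨⟨a1, a2⟩, -⟩ := (existsUnique_map hg (leOfHom h)).choose_spec
    obtain ⟨⟨b1, b2⟩, -⟩ := (existsUnique_map hg (leOfHom h')).choose_spec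
    exact ((existsUnique_map hg (leOfHom (h ≫ h'))).choose_spec.2 _
      ⟨by rw [Category.assoc, b1, a1],
        by rw [← Category.assoc, a2, Category.assoc, b2, ← Category.assoc, Scheme.homOfLE_homOfLE]⟩).symm

theorem diagram_map_q (hg : IsUnivHomeo g) {W' W : Idx p' g} (h : W' ⟶ W) :
    (diagram hg).map h ≫ W.lift.q = W'.lift.q :=
  (existsUnique_map hg (leOfHom h)).choose_spec.1.1

theorem a_diagram_map (hg : IsUnivHomeo g) {W' W : Idx p' g} (h : W' ⟶ W) :
    W'.lift.a ≫ (diagram hg).map h = U'.homOfLE (leOfHom h) ≫ W.lift.a :=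
  (existsUnique_map hg (leOfHom h)).choose_spec.1.2

theorem isPullback_diagram (hg : IsUnivHomeo g) {W' W : Idx p' g} (h : W' ⟶ W) :
    IsPullback (U'.homOfLE (leOfHom h)) W'.lift.a W.lift.a ((diagram hg).map h) := by
  refine (IsPullback.of_right (h₁₂ := W.1.ι ≫ p') (h₂₂ := W.lift.q) ?_ ?_ W.lift.isPullback.flip)
  · have e : W'.lift.q = (diagram hg).map h ≫ W.lift.q := (diagram_map_q hg h).symm
    rw [Scheme.homOfLE_ι_assoc]
    exact e ▸ W'.lift.isPullback.flip
  · exact (a_diagram_map hg h).symm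

theorem isOpenImmersion_diagram (hg : IsUnivHomeo g) {W' W : Idx p' g} (h : W' ⟶ W) :
    IsOpenImmersion ((diagram hg).map h) := by
  let φ : W'.lift.V ⟶ W.lift.V := (diagram hg).map h
  have : Etale (φ ≫ W.lift.q) := (diagram_map_q hg h : φ ≫ W.lift.q = _) ▸ W'.lift.etale
  have : Etale φ := Etale.of_comp φ W.lift.q
  have := Groth.Agent.Unr55.IsUnivHomeo.surjective (univHomeo_of_isPullback W.lift.isPullback hg)
  have : UniversallyInjective φ :=
    universallyInjective_of_pullback (isPullback_diagram hg h) inferInstance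
  have : Mono φ := mono_of_universallyInjective φ this
  exact IsOpenImmersion.of_flat_of_mono φ

theorem isLocallyDirected (hg : IsUnivHomeo g) :
    ((diagram (p' := p') hg) ⋙ Scheme.forget).IsLocallyDirected := by
  refine ⟨fun {i j k} fi fj xi xj h => ?_⟩
  obtain ⟨wi, rfl⟩ := (isHomeomorph_of_isPullback i.lift.isPullback hg).surjective xi
  obtain ⟨wj, rfl⟩ := (isHomeomorph_of_isPullback j.lift.isPullback hg).surjective xj
  have hh : (i.lift.a ≫ (diagram hg).map fi) wi = (j.lift.a ≫ (diagram hg).map fj) wj := h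
  replace hh := ((congrArg (fun m => m wi) (a_diagram_map hg fi)).symm.trans hh).trans
    (congrArg (fun m => m wj) (a_diagram_map hg fj))
  have hw : i.1.ι wi = j.1.ι wj :=
    ((congrArg (fun m => m wi) (U'.homOfLE_ι (leOfHom fi))).symm.trans
      (congrArg k.1.ι ((isHomeomorph_of_isPullback k.lift.isPullback hg).injective hh))).trans
      (congrArg (fun m => m wj) (U'.homOfLE_ι (leOfHom fj)))
  let l : Idx p' g := ⟨i.1 ⊓ j.1, i.lift.restrict hg inf_le_left⟩
  obtain ⟨w, hwl⟩ : i.1.ι wi ∈ Set.range l.1.ι := l.1.range_ι.ge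
    ⟨i.1.range_ι.le ⟨wi, rfl⟩, hw ▸ j.1.range_ι.le ⟨wj, rfl⟩⟩
  refine ⟨l, homOfLE (show l ≤ i from (inf_le_left : i.1 ⊓ j.1 ≤ i.1)), homOfLE (show l ≤ j from (inf_le_right : i.1 ⊓ j.1 ≤ j.1)),
    l.lift.a w, ?_, ?_⟩
  · change (l.lift.a ≫ (diagram hg).map _) w = _
    refine Eq.trans (congrArg (fun m : l.1.toScheme ⟶ i.lift.V => m w) (a_diagram_map hg (homOfLE (show l ≤ i from (inf_le_left : i.1 ⊓ j.1 ≤ i.1))))) ?_
    refine congrArg i.lift.a (i.1.ι.isOpenEmbedding.injective ?_)
    exact (congrArg (fun m => m w) (U'.homOfLE_ι _)).trans hwl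
  · change (l.lift.a ≫ (diagram hg).map _) w = _
    refine Eq.trans (congrArg (fun m : l.1.toScheme ⟶ j.lift.V => m w) (a_diagram_map hg (homOfLE (show l ≤ j from (inf_le_right : i.1 ⊓ j.1 ≤ j.1))))) ?_
    refine congrArg j.lift.a (j.1.ι.isOpenEmbedding.injective ?_)
    exact (congrArg (fun m => m w) (U'.homOfLE_ι _)).trans (hwl.trans hw)

/-- Gluing local lifts. -/
theorem exists_lift_of_local (hg : IsUnivHomeo g) (p' : U' ⟶ S') [Etale p']
    (hloc : ∀ x : U', ∃ W : U'.Opens, x ∈ W ∧ Nonempty (Lift p' g W)) :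
    ∃ (V : Scheme.{u}) (q : V ⟶ S) (a : U' ⟶ V), Etale q ∧ IsPullback a p' q g := by
  let F := diagram (p' := p') hg
  have : ∀ {i j : Idx p' g} (f : i ⟶ j), IsOpenImmersion (F.map f) :=
    fun f => isOpenImmersion_diagram hg f
  have := isLocallyDirected (p' := p') hg
  let τ : F ⟶ (Functor.const _).obj S :=
    { app := fun W => W.lift.q
      naturality := fun W' W h => (diagram_map_q hg h).trans (Category.comp_id _).symm }
  let q : colimit F ⟶ S := colimit.desc F (Cocone.mk S τ)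
  have hq : ∀ W, colimit.ι F W ≫ q = W.lift.q := fun W => colimit.ι_desc _ _
  have hqe : Etale q :=
    IsZariskiLocalAtSource.of_openCover (P := @Etale) (Scheme.IsLocallyDirected.openCover F)
      fun W => show Etale (colimit.ι F W ≫ q) from (hq W).symm ▸ W.lift.etale
  choose W hW hL using hloc
  let idx : U' → Idx p' g := fun x => ⟨W x, hL x⟩
  let 𝒰 : U'.OpenCover := U'.openCoverOfIsOpenCover W (TopologicalSpace.Opens.ext
    (Set.eq_univ_of_forall fun x => TopologicalSpace.Opens.mem_iSup.2 ⟨x, hW x⟩))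
  have hcompat : ∀ (i j : Idx p' g),
      pullback.fst i.1.ι j.1.ι ≫ i.lift.a ≫ colimit.ι F i =
        pullback.snd i.1.ι j.1.ι ≫ j.lift.a ≫ colimit.ι F j := by
    intro i j
    let l : Idx p' g := ⟨i.1 ⊓ j.1, i.lift.restrict hg inf_le_left⟩
    let k : pullback i.1.ι j.1.ι ⟶ l.1.toScheme :=
      IsOpenImmersion.lift l.1.ι (pullback.fst i.1.ι j.1.ι ≫ i.1.ι) (by
        rintro _ ⟨z, rfl⟩
        refine l.1.range_ι.ge ⟨i.1.range_ι.le ⟨_, rfl⟩, ?_⟩
        rw [pullback.condition]
        exact j.1.range_ι.le ⟨_, rfl⟩)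
    have hi : k ≫ U'.homOfLE (inf_le_left : l.1 ≤ i.1) = pullback.fst i.1.ι j.1.ι := by
      rw [← cancel_mono i.1.ι, Category.assoc, Scheme.homOfLE_ι, IsOpenImmersion.lift_fac]
    have hj : k ≫ U'.homOfLE (inf_le_right : l.1 ≤ j.1) = pullback.snd i.1.ι j.1.ι := by
      rw [← cancel_mono j.1.ι, Category.assoc, Scheme.homOfLE_ι, IsOpenImmersion.lift_fac,
        pullback.condition]
    have ei := a_diagram_map hg (homOfLE (show l ≤ i from (inf_le_left : i.1 ⊓ j.1 ≤ i.1)))
    have ej := a_diagram_map hg (homOfLE (show l ≤ j from (inf_le_right : i.1 ⊓ j.1 ≤ j.1)))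
    rw [← hi, ← hj, Category.assoc, Category.assoc]
    refine congrArg (k ≫ ·) ?_
    refine ((Category.assoc _ _ _).symm.trans ((congrArg (· ≫ colimit.ι F i) ei.symm).trans
      ((Category.assoc _ _ _).trans (congrArg (l.lift.a ≫ ·) (colimit.w F _))))).trans ?_
    exact ((Category.assoc _ _ _).symm.trans ((congrArg (· ≫ colimit.ι F j) ej.symm).trans
      ((Category.assoc _ _ _).trans (congrArg (l.lift.a ≫ ·) (colimit.w F _))))).symm
  let a : U' ⟶ colimit F := 𝒰.glueMorphisms (fun x => (idx x).lift.a ≫ colimit.ι F (idx x))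
    fun x y => hcompat (idx x) (idx y)
  have ha : ∀ i : Idx p' g, i.1.ι ≫ a = i.lift.a ≫ colimit.ι F i := by
    intro i
    refine Scheme.Cover.hom_ext (𝒰.pullback₁ i.1.ι) _ _ fun x => ?_
    change pullback.fst i.1.ι (idx x).1.ι ≫ i.1.ι ≫ a =
      pullback.fst i.1.ι (idx x).1.ι ≫ i.lift.a ≫ colimit.ι F i
    rw [hcompat i (idx x), pullback.condition_assoc]
    exact congrArg (pullback.snd i.1.ι (idx x).1.ι ≫ ·) (𝒰.ι_glueMorphisms _ _ x)
  have hw : a ≫ q = p' ≫ g := 𝒰.hom_ext _ _ fun x => by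
    change (idx x).1.ι ≫ a ≫ q = (idx x).1.ι ≫ p' ≫ g
    refine (Category.assoc _ _ _).symm.trans ((congrArg (· ≫ q) (ha (idx x))).trans ?_)
    refine (Category.assoc _ _ _).trans ((congrArg ((idx x).lift.a ≫ ·) (hq (idx x))).trans ?_)
    exact (idx x).lift.isPullback.w.trans (Category.assoc _ _ _)
  refine ⟨colimit F, q, a, hqe, ?_⟩
  let c := pullback.lift a p' hw
  have hainj : Function.Injective a := by
    intro x y h
    obtain ⟨x', hx'⟩ : x ∈ Set.range (idx x).1.ι := (idx x).1.range_ι.ge (hW x)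
    obtain ⟨y', hy'⟩ : y ∈ Set.range (idx y).1.ι := (idx y).1.range_ι.ge (hW y)
    rw [← hx', ← hy', ← Scheme.Hom.comp_apply, ← Scheme.Hom.comp_apply, ha, ha] at h
    obtain ⟨k, fi, fj, z, hzi, hzj⟩ := (Scheme.IsLocallyDirected.ι_eq_ι_iff F).1 h
    obtain ⟨w, rfl⟩ := (isHomeomorph_of_isPullback k.lift.isPullback hg).surjective z
    replace hzi := (congrArg (fun m => m w) (a_diagram_map hg fi)).symm.trans hzi
    replace hzj := (congrArg (fun m => m w) (a_diagram_map hg fj)).symm.trans hzj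
    have e1 := (isHomeomorph_of_isPullback (idx x).lift.isPullback hg).injective hzi
    have e2 := (isHomeomorph_of_isPullback (idx y).lift.isPullback hg).injective hzj
    rw [← hx', ← hy', ← e1, ← e2]
    exact (congrArg (fun m => m w) (U'.homOfLE_ι (leOfHom fi))).trans
      (congrArg (fun m => m w) (U'.homOfLE_ι (leOfHom fj))).symm
  have : IsOpenImmersion c := by
    refine IsOpenImmersion.of_openCover_source c 𝒰 (fun x y h => hainj ?_) fun x => ?_
    · rw [← pullback.lift_fst a p' hw, Scheme.Hom.comp_apply, Scheme.Hom.comp_apply, h]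
    · let i := idx x
      let ιi : i.lift.V ⟶ colimit F := colimit.ι F i
      have : IsOpenImmersion ιi := inferInstanceAs (IsOpenImmersion (colimit.ι F i))
      have hai : i.1.ι ≫ a = i.lift.a ≫ ιi := ha i
      have hqi : ιi ≫ q = i.lift.q := hq i
      have e : i.1.ι ≫ c = i.lift.isPullback.isoPullback.hom ≫
          pullback.map i.lift.q g q g ιi (𝟙 _) (𝟙 _)
            (by rw [Category.comp_id, hqi]) (by simp) := by
        refine pullback.hom_ext ?_ ?_
        · rw [Category.assoc, pullback.lift_fst, Category.assoc, pullback.lift_fst,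
            IsPullback.isoPullback_hom_fst_assoc]
          exact hai
        · rw [Category.assoc, pullback.lift_snd, Category.assoc, pullback.lift_snd, Category.comp_id,
            IsPullback.isoPullback_hom_snd]
      change IsOpenImmersion (i.1.ι ≫ c)
      rw [e]
      infer_instance
  have : Surjective c := by
    refine ⟨fun z => ?_⟩
    obtain ⟨i, y, hy⟩ := Scheme.IsLocallyDirected.ι_jointly_surjective F (pullback.fst q g z)
    obtain ⟨w, rfl⟩ := (isHomeomorph_of_isPullback i.lift.isPullback hg).surjective y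
    refine ⟨i.1.ι w, (hg q).injective ?_⟩
    rw [← hy, ← Scheme.Hom.comp_apply, pullback.lift_fst, ← Scheme.Hom.comp_apply, ha,
      Scheme.Hom.comp_apply]
    rfl
  have : IsIso c := (isIso_iff_isOpenImmersion_and_surjective c).mpr ⟨‹_›, ‹_›⟩
  exact IsPullback.of_iso_pullback ⟨hw⟩ (asIso c) (pullback.lift_fst _ _ _) (pullback.lift_snd _ _ _)

end Groth.Agent.Unr55.EtGlue
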