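import Mathlib.CategoryTheory.Sites.LocallySurjective
import Mathlib.CategoryTheory.Sites.Limits
import Mathlib.CategoryTheory.Limits.Types.Filtered
import Mathlib.CategoryTheory.Limits.FunctorCategory.Basic
import Mathlib.CategoryTheory.Limits.Shapes.Pullback.IsPullback.Basic

/-!
Sections over quasi-compact quasi-separated objects of the sheafification of a filtered colimit of
sheaves: they are the colimit of the sections.
-/

set_option autoImplicit false
universe w v u

open CategoryTheory CategoryTheory.Limits Opposite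

namespace Groth.Agent.Unr55.FiltColim

variable {C : Type u} [Category.{v} C] (J : GrothendieckTopology C)

/-- Every covering sieve contains finitely many arrows which cover. -/
def QC (U : C) : Prop :=
  ∀ S ∈ J U, ∃ (n : ℕ) (V : Fin n → C) (g : ∀ k, V k ⟶ U), (∀ k, S (g k)) ∧ Sieve.ofArrows V g ∈ J U

/-- Every covering sieve contains finitely many arrows which cover, with quasi-compact fibre
products. -/
def QCQS (U : C) : Prop :=
  ∀ S ∈ J U, ∃ (n : ℕ) (V : Fin n → C) (g : ∀ k, V k ⟶ U), (∀ k, S (g k)) ∧ Sieve.ofArrows V g ∈ J U ∧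
    ∀ k l, ∃ (W : C) (a : W ⟶ V k) (b : W ⟶ V l), IsPullback a b (g k) (g l) ∧ QC J W

theorem QCQS.qc {U : C} (h : QCQS J U) : QC J U := fun S hS => by
  obtain ⟨n, V, g, h1, h2, -⟩ := h S hS
  exact ⟨n, V, g, h1, h2⟩

lemma exists_bound {I : Type w} [SmallCategory I] [IsFiltered I] {n : ℕ} {i : I} {j : Fin n → I}
    (f : ∀ k, i ⟶ j k) : ∃ (m : I) (g : i ⟶ m), ∀ k, ∃ h : j k ⟶ m, f k ≫ h = g := by
  induction n with
  | zero => exact ⟨i, 𝟙 i, fun k => k.elim0⟩
  | succ n ih =>
    obtain ⟨m, g, hg⟩ := ih fun k => f k.castSucc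
    obtain ⟨m', a, b, hab⟩ := IsFiltered.span g (f (Fin.last n))
    refine ⟨m', g ≫ a, fun k => ?_⟩
    refine Fin.lastCases ⟨b, hab.symm⟩ (fun k => ?_) k
    obtain ⟨h, hh⟩ := hg k
    exact ⟨h ≫ a, by rw [← Category.assoc, hh]⟩

section Types

variable {J} {I : Type w} [SmallCategory I] [IsFiltered I] (P : I ⥤ Cᵒᵖ ⥤ Type w)
  (hP : ∀ i, Presieve.IsSheaf J (P.obj i)) (c : Cocone P)
  (hc : ∀ V, IsColimit (((evaluation _ _).obj V).mapCocone c))
  {G : Cᵒᵖ ⥤ Type w} (hG : Presieve.IsSeparated J G) (η : c.pt ⟶ G)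

include hc in
lemma eq_iff {V : C} {i : I} (a b : (P.obj i).obj (op V))
    (h : (c.ι.app i).app (op V) a = (c.ι.app i).app (op V) b) :
    ∃ (j : I) (f : i ⟶ j), (P.map f).app (op V) a = (P.map f).app (op V) b :=
  (Types.FilteredColimit.isColimit_eq_iff' (hc (op V)) a b).1 h

omit [IsFiltered I] in
include hc in
lemma exists_lift {V : C} (t : c.pt.obj (op V)) :
    ∃ (i : I) (a : (P.obj i).obj (op V)), (c.ι.app i).app (op V) a = t :=
  Types.jointly_surjective _ (hc (op V)) t

omit [IsFiltered I] in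
lemma w_apply {i j : I} (f : i ⟶ j) {V : C} (a : (P.obj i).obj (op V)) :
    (c.ι.app j).app (op V) ((P.map f).app (op V) a) = (c.ι.app i).app (op V) a :=
  ConcreteCategory.congr_hom (congr_app (c.w f) (op V)) a

omit [IsFiltered I] in
lemma transfer {i j m : I} {f : i ⟶ j} {h : j ⟶ m} {g : i ⟶ m} (e : f ≫ h = g) {V : C}
    {a b : (P.obj i).obj (op V)}
    (hab : (P.map f).app (op V) a = (P.map f).app (op V) b) :
    (P.map g).app (op V) a = (P.map g).app (op V) b := by
  subst e
  rw [Functor.map_comp]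
  exact congrArg ((P.map h).app (op V)) hab

include hc hP in
theorem app_injective [Presheaf.IsLocallyInjective J η] {U : C} (hU : QC J U) :
    Function.Injective (η.app (op U)) := by
  intro t₁ t₂ ht
  obtain ⟨i₁, a₁, rfl⟩ := exists_lift P c hc t₁
  obtain ⟨i₂, a₂, rfl⟩ := exists_lift P c hc t₂
  let a := (P.map (IsFiltered.leftToMax i₁ i₂)).app (op U) a₁
  let b := (P.map (IsFiltered.rightToMax i₁ i₂)).app (op U) a₂
  obtain ⟨n, V, g, hg, hcov⟩ := hU _ (Presheaf.equalizerSieve_mem J η _ _ ht)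
  have hkey : ∀ k, ∃ (j : I) (f : IsFiltered.max i₁ i₂ ⟶ j),
      (P.map f).app (op (V k)) ((P.obj _).map (g k).op a) =
        (P.map f).app (op (V k)) ((P.obj _).map (g k).op b) := fun k => by
    refine eq_iff P c hc _ _ ?_
    rw [(c.ι.app _).naturality_apply, (c.ι.app _).naturality_apply]
    show c.pt.map (g k).op _ = c.pt.map (g k).op _
    rw [w_apply, w_apply]
    exact hg k
  choose j f hf using hkey
  obtain ⟨m, q, hq⟩ := exists_bound f
  have hsep : (P.map q).app (op U) a = (P.map q).app (op U) b := by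
    refine ((hP m).isSheafFor _ hcov).isSeparatedFor.ext fun W h hh => ?_
    obtain ⟨k⟩ := hh
    obtain ⟨r, hr⟩ := hq k
    rw [← (P.map q).naturality_apply (g k).op, ← (P.map q).naturality_apply (g k).op]
    exact transfer P hr (hf k)
  rw [← w_apply P c (IsFiltered.leftToMax i₁ i₂) a₁, ← w_apply P c q,
    ← w_apply P c (IsFiltered.rightToMax i₁ i₂) a₂,
    ← w_apply P c q ((P.map (IsFiltered.rightToMax i₁ i₂)).app (op U) a₂)]
  exact congrArg _ hsep

include hc hP hG in
theorem app_bijective [Presheaf.IsLocallyInjective J η] [Presheaf.IsLocallySurjective J η] {U : C}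
    (hU : QCQS J U) : Function.Bijective (η.app (op U)) := by
  refine ⟨app_injective P hP c hc η hU.qc, fun t => ?_⟩
  obtain ⟨n, V, g, hg, hcov, hW⟩ := hU _ (Presheaf.imageSieve_mem J η t)
  choose p hp using fun k => hg k
  choose σ a ha using fun k => exists_lift P c hc (p k)
  obtain ⟨i₀, hi₀⟩ : ∃ i₀, ∀ k, Nonempty (σ k ⟶ i₀) := by
    classical
    obtain ⟨i₀, h⟩ := IsFiltered.sup_objs_exists (Finset.univ.image σ)
    exact ⟨i₀, fun k => h (Finset.mem_image_of_mem σ (Finset.mem_univ k))⟩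
  let a' := fun k => (P.map (hi₀ k).some).app (op (V k)) (a k)
  have ha' : ∀ k, η.app (op (V k)) ((c.ι.app i₀).app (op (V k)) (a' k)) = G.map (g k).op t :=
    fun k => by rw [show (c.ι.app i₀).app (op (V k)) (a' k) = p k from
      (w_apply P c (hi₀ k).some (a k)).trans (ha k)]; exact hp k
  choose W pa pb hpb hqc using hW
  have hkey : ∀ x : Fin n × Fin n, ∃ (j : I) (f : i₀ ⟶ j),
      (P.map f).app (op (W x.1 x.2)) ((P.obj i₀).map (pa x.1 x.2).op (a' x.1)) =
        (P.map f).app (op (W x.1 x.2)) ((P.obj i₀).map (pb x.1 x.2).op (a' x.2)) := fun x => by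
    refine eq_iff P c hc _ _ (app_injective P hP c hc η (hqc x.1 x.2) ?_)
    rw [(c.ι.app _).naturality_apply, (c.ι.app _).naturality_apply]
    show η.app _ (c.pt.map _ _) = η.app _ (c.pt.map _ _)
    rw [η.naturality_apply, η.naturality_apply, ha', ha', ← Functor.map_comp_apply,
      ← Functor.map_comp_apply, ← op_comp, ← op_comp, (hpb x.1 x.2).w]
  choose j f hf using hkey
  obtain ⟨m, q, hq⟩ := exists_bound fun k : Fin (n * n) => f (finProdFinEquiv.symm k)
  have hsh : Presieve.IsSheafFor (P.obj m) (Presieve.ofArrows V g) :=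
    (hP m).isSheafFor _ hcov
  obtain ⟨s, hs, -⟩ := (Presieve.isSheafFor_arrows_iff _ _).1 hsh
    (fun k => (P.map q).app (op (V k)) (a' k)) fun k k' Z gk gk' hgk => by
      obtain ⟨r, hr⟩ : ∃ h : j (k, k') ⟶ m, f (k, k') ≫ h = q := by
        obtain ⟨y, hy⟩ := finProdFinEquiv.symm.surjective (k, k')
        rw [← hy]; exact hq y
      have hf' := hf (k, k')
      have := congrArg ((P.obj m).map ((hpb k k').lift gk gk' hgk).op) (transfer P hr hf')
      rw [(P.map q).naturality_apply, (P.map q).naturality_apply, ← Functor.map_comp_apply,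
        ← Functor.map_comp_apply, ← op_comp, ← op_comp, IsPullback.lift_fst,
        IsPullback.lift_snd] at this
      exact this
  refine ⟨(c.ι.app m).app (op U) s, (hG _ hcov).ext fun Y h hh => ?_⟩
  obtain ⟨k, e, rfl⟩ := (Sieve.mem_ofArrows_iff _ _ _).1 hh
  rw [op_comp, Functor.map_comp_apply, Functor.map_comp_apply]
  refine congrArg (G.map e.op) ?_
  rw [← η.naturality_apply]
  refine Eq.trans (congrArg _ ((c.ι.app m).naturality_apply (g k).op s).symm) ?_
  rw [hs k, w_apply]
  exact ha' k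

end Types

end Groth.Agent.Unr55.FiltColim
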