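import Groth.Agent.Unr55.Et.GaZariski

/-!
The comparison `H_et(X, G_a) = H_Zar(X, O_X)`, compatibly with endomorphisms.
-/

set_option autoImplicit false
universe u

open CategoryTheory CategoryTheory.Limits AlgebraicGeometry Opposite TopologicalSpace CategoryTheory.Abelian

set_option backward.isDefEq.respectTransparency.types false

namespace Groth.Agent.Unr55.GaZar

variable (X : Scheme.{u})

/-- Étale to Zariski. -/
theorem H_equiv_resZar_end (F : EtCoh.Ab X) (hF : Good X F) (p : ℕ) :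
    ∃ ε : EtCoh.H X F p ≃+ EtZar.H ((EtZar.resZar X).obj F) p, ∀ (g : F ⟶ F) (x : EtCoh.H X F p),
      ε (x.comp (Ext.mk₀ g) (add_zero p)) = (ε x).comp (Ext.mk₀ ((EtZar.resZar X).map g)) (add_zero p) :=
  ExtCmp.compare_end (EtZar.resZar X) _ _ (Good X) (fun S hS _ h => shortExact_resZar X S hS h)
    (fun S hS hI h => @CechCartan.acyclic_cokernel.{u + 1, u, u + 1} _ _ _ _ _ _
      {U : X.Etale | IsAffine U.left} EtaleAff.Cov (hprod X) (href X) S hS hI h)
    (fun I hI n => ZarCmp.subsingleton_H_of_flasque X _ (@isFlasque_resZar X I hI) n)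
    (fun G => (ExtCmp.homTop (zarTopTerminal X) G).trans
      (ExtCmp.homTop (ZarCmp.topTerminal X) ((EtZar.resZar X).obj G)).symm)
    (fun {G G'} g c => (ExtCmp.homTop (ZarCmp.topTerminal X) ((EtZar.resZar X).obj G')).injective (by
      refine ((ExtCmp.homTop (ZarCmp.topTerminal X) ((EtZar.resZar X).obj G')).apply_symm_apply _).trans ?_
      refine Eq.trans ?_ (ExtCmp.homTop_comp (ZarCmp.topTerminal X) ((EtZar.resZar X).map g) _).symm
      refine Eq.trans ?_ (congrArg (((EtZar.resZar X).map g).hom.app (op ⊤))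
        ((ExtCmp.homTop (ZarCmp.topTerminal X) ((EtZar.resZar X).obj G)).apply_symm_apply _)).symm
      rfl))
    p F hF

/-- Change of universe of the values. -/
theorem H_equiv_liftU_end (M : Sheaf (Opens.grothendieckTopology X) AddCommGrpCat.{u}) (p : ℕ) :
    ∃ ε : Sheaf.H M p ≃+ EtZar.H ((liftU X).obj M) p, ∀ (g : M ⟶ M) (x : Sheaf.H M p),
      ε (x.comp (Ext.mk₀ g) (add_zero p)) = (ε x).comp (Ext.mk₀ ((liftU X).map g)) (add_zero p) :=
  ExtCmp.compare_end (liftU X) _ _ (fun _ => True) (fun S hS _ _ => shortExact_liftU X S hS)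
    (fun _ _ _ _ => trivial)
    (fun I hI n => ZarCmp.subsingleton_H_of_flasque X _ (@isFlasque_liftU X I hI) n)
    (fun G => ((ExtCmp.homTop (ZarCmp.topTerminal X) G).trans AddEquiv.ulift.symm).trans
      (ExtCmp.homTop (ZarCmp.topTerminal X) ((liftU X).obj G)).symm)
    (fun {G G'} g c => (ExtCmp.homTop (ZarCmp.topTerminal X) ((liftU X).obj G')).injective (by
      refine ((ExtCmp.homTop (ZarCmp.topTerminal X) ((liftU X).obj G')).apply_symm_apply _).trans ?_
      refine Eq.trans ?_ (ExtCmp.homTop_comp (ZarCmp.topTerminal X) ((liftU X).map g) _).symm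
      refine Eq.trans ?_ (congrArg (((liftU X).map g).hom.app (op ⊤))
        ((ExtCmp.homTop (ZarCmp.topTerminal X) ((liftU X).obj G)).apply_symm_apply _)).symm
      rfl))
    p M trivial

/-- Corresponding endomorphisms act compatibly. -/
theorem H_Ga_equiv_end (p : ℕ) :
    ∃ ε : EtCoh.H X (EtCoh.Ga X) p ≃+ Coh.HH X (Coh.structureModule X) p,
      ∀ (g : EtCoh.Ga X ⟶ EtCoh.Ga X)
        (h : Coh.toAb (Coh.structureModule X) ⟶ Coh.toAb (Coh.structureModule X)),
        (EtZar.resZar X).map g ≫ (resGaIso X).hom = (resGaIso X).hom ≫ (liftU X).map h →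
          ∀ x : EtCoh.H X (EtCoh.Ga X) p,
            ε (x.comp (Ext.mk₀ g) (add_zero p)) = (ε x).comp (Ext.mk₀ h) (add_zero p) := by
  obtain ⟨e₁, he₁⟩ := H_equiv_resZar_end X _ (good_Ga X) p
  obtain ⟨e₂, he₂⟩ := H_equiv_liftU_end X (Coh.toAb (Coh.structureModule X)) p
  let i : EtZar.H ((EtZar.resZar X).obj (EtCoh.Ga X)) p ≃+
      EtZar.H ((liftU X).obj (Coh.toAb (Coh.structureModule X))) p := ((Sheaf.functorH (Opens.grothendieckTopology X) p).mapIso (resGaIso X)).addCommGroupIsoToAddEquiv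
  refine ⟨(e₁.trans i).trans e₂.symm, fun g h hgh x => ?_⟩
  apply e₂.injective
  rw [he₂, AddEquiv.trans_apply, AddEquiv.trans_apply, AddEquiv.trans_apply, AddEquiv.trans_apply,
    AddEquiv.apply_symm_apply, AddEquiv.apply_symm_apply, he₁]
  show ((e₁ x).comp (Ext.mk₀ ((EtZar.resZar X).map g)) (add_zero p)).comp
      (Ext.mk₀ (resGaIso X).hom) (add_zero p) =
    ((e₁ x).comp (Ext.mk₀ (resGaIso X).hom) (add_zero p)).comp (Ext.mk₀ ((liftU X).map h)) (add_zero p)
  rw [Ext.comp_assoc_of_second_deg_zero, Ext.comp_assoc_of_second_deg_zero, Ext.mk₀_comp_mk₀,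
    Ext.mk₀_comp_mk₀, hgh]

end Groth.Agent.Unr55.GaZar
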