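import Groth.Agent.EtAlg23.MilnorFlat
import Groth.Agent.Glue24.SurjTor
import Mathlib.RingTheory.Smooth.Fiber
import Mathlib.RingTheory.Smooth.Flat
import Mathlib.RingTheory.Etale.Basic
import Mathlib.RingTheory.Kaehler.TensorProduct
import Mathlib.RingTheory.FinitePresentation

/-!
Etale algebras over a Milnor square `A ⟶ A/J`, `A₁ ⟶ A₁/JA₁` glue, without finiteness hypotheses on `A`.
-/

set_option autoImplicit false
set_option linter.style.haveILetI false
universe u

open TensorProduct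

namespace Groth.Agent.Unr55.MilnorEt

variable {A A₁ : Type u} [CommRing A] [CommRing A₁] [Algebra A A₁]

/-- `J` is an ideal of `A` mapping onto an ideal of `A₁`. -/
def IsConductor (A₁ : Type u) [CommRing A₁] [Algebra A A₁] (J : Ideal A) : Prop :=
  ∀ j ∈ J, ∀ x : A₁, ∃ j' ∈ J, algebraMap A A₁ j' = algebraMap A A₁ j * x

variable {J : Ideal A}

theorem exists_of_mem_map (hJ : IsConductor A₁ J) {y : A₁} (hy : y ∈ J.map (algebraMap A A₁)) :
    ∃ j ∈ J, algebraMap A A₁ j = y := by
  induction hy using Submodule.span_induction with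
  | mem y hy =>
    obtain ⟨j, hj, rfl⟩ := hy
    exact ⟨j, hj, rfl⟩
  | zero => exact ⟨0, J.zero_mem, map_zero _⟩
  | add y z _ _ hy hz =>
    obtain ⟨j, hj, rfl⟩ := hy
    obtain ⟨k, hk, rfl⟩ := hz
    exact ⟨j + k, J.add_mem hj hk, map_add _ _ _⟩
  | smul x y _ hy =>
    obtain ⟨j, hj, rfl⟩ := hy
    obtain ⟨j', hj', e⟩ := hJ j hj x
    exact ⟨j', hj', by rw [e, smul_eq_mul, mul_comm]⟩

theorem isFibreSquare (hinj : Function.Injective (algebraMap A A₁)) (hJ : IsConductor A₁ J) :
    EtMil.IsFibreSquare A (A ⧸ J) A₁ (A₁ ⧸ J.map (algebraMap A A₁)) := by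
  refine ⟨Ideal.Quotient.mk_surjective, fun b x h => ?_⟩
  obtain ⟨a, rfl⟩ := Ideal.Quotient.mk_surjective b
  have hmem : x - algebraMap A A₁ a ∈ J.map (algebraMap A A₁) := by
    rw [← Ideal.Quotient.mk_eq_mk_iff_sub_mem]
    exact h.symm
  obtain ⟨j, hj, e⟩ := exists_of_mem_map hJ hmem
  refine ⟨a + j, ⟨?_, by rw [map_add, e, add_sub_cancel]⟩, fun y hy => hinj ?_⟩
  · show Ideal.Quotient.mk J (a + j) = Ideal.Quotient.mk J a
    rw [map_add, Ideal.Quotient.eq_zero_iff_mem.2 hj, add_zero]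
  · rw [hy.2, map_add, e, add_sub_cancel]

/-- A module dying on both sides of the square is zero. -/
theorem subsingleton_of_both (hinj : Function.Injective (algebraMap A A₁)) (hJ : IsConductor A₁ J)
    (M : Type u) [AddCommGroup M] [Module A M] [Subsingleton ((A ⧸ J) ⊗[A] M)]
    [Subsingleton (A₁ ⊗[A] M)] : Subsingleton M := by
  refine subsingleton_of_forall_eq 0 fun m => ?_
  have h : m ∈ J • (⊤ : Submodule A M) :=
    (FlatCrit65.one_tmul_eq_zero_iff J m).1 (Subsingleton.elim _ _)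
  refine Submodule.smul_induction_on h (fun j hj x _ => ?_) fun a b ha hb => by rw [ha, hb, add_zero]
  choose μ _ hμ using fun z => hJ j hj z
  let L : A₁ →ₗ[A] A :=
    { toFun := μ
      map_add' := fun y z => hinj (by rw [map_add, hμ, hμ, hμ, mul_add])
      map_smul' := fun r y => hinj (by
        rw [RingHom.id_apply, smul_eq_mul, map_mul, hμ, hμ, Algebra.smul_def]; ring) }
  have hL : L 1 = j := hinj (by show algebraMap A A₁ (μ 1) = _; rw [hμ, mul_one])
  have := congrArg (TensorProduct.lid A M) (congrArg (L.rTensor M)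
    (Subsingleton.elim ((1 : A₁) ⊗ₜ[A] x) 0))
  rwa [LinearMap.rTensor_tmul, TensorProduct.lid_tmul, hL, map_zero, map_zero] at this

theorem formallyUnramified_tensor_of_algEquiv {R S T : Type u} [CommRing R] [CommRing S] [CommRing T]
    [Algebra R S] [Algebra R T] (W : Type u) [CommRing W] [Algebra T W] [Algebra.Etale T W]
    (e : T ⊗[R] S ≃ₐ[T] W) : Subsingleton (T ⊗[R] Ω[S⁄R]) := by
  haveI : Algebra.FormallyUnramified T (T ⊗[R] S) := Algebra.FormallyUnramified.of_equiv e.symm
  letI : Algebra S (T ⊗[R] S) := Algebra.TensorProduct.rightAlgebra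
  exact (KaehlerDifferential.tensorKaehlerEquivBase R T S (T ⊗[R] S)).toEquiv.subsingleton

theorem subsingleton_tensor_quotient {M T : Type u} [AddCommGroup M] [Module A M] [AddCommGroup T] [Module A T]
    (N : Submodule A M) (h : Function.Surjective (N.subtype.lTensor T)) :
    Subsingleton (T ⊗[A] (M ⧸ N)) := by
  refine subsingleton_of_forall_eq 0 fun z => ?_
  obtain ⟨w, rfl⟩ := LinearMap.lTensor_surjective T N.mkQ_surjective z
  obtain ⟨v, rfl⟩ := h w
  rw [← LinearMap.comp_apply, ← LinearMap.lTensor_comp,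
    show N.mkQ.comp N.subtype = 0 from LinearMap.ext fun x => (Submodule.Quotient.mk_eq_zero N).2 x.2,
    LinearMap.lTensor_zero, LinearMap.zero_apply]

/-- Being finitely generated can be checked on both sides. -/
theorem finiteType_of_both (hinj : Function.Injective (algebraMap A A₁)) (hJ : IsConductor A₁ J)
    (S : Type u) [CommRing S] [Algebra A S] [Algebra.FiniteType (A ⧸ J) ((A ⧸ J) ⊗[A] S)]
    [Algebra.FiniteType A₁ (A₁ ⊗[A] S)] : Algebra.FiniteType A S := by
  classical
  have key : ∀ (T : Type u) [CommRing T] [Algebra A T] [Algebra.FiniteType T (T ⊗[A] S)],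
      ∃ s : Finset S, ∀ U : Subalgebra A S, (↑s : Set S) ⊆ U →
        Function.Surjective (U.toSubmodule.subtype.lTensor T) := by
    intro T _ _ _
    obtain ⟨G, hG⟩ := (inferInstance : Algebra.FiniteType T (T ⊗[A] S)).out
    choose E hE using fun z : T ⊗[A] S => TensorProduct.exists_finset (R := A) z
    refine ⟨G.biUnion fun z => (E z).image fun q => q.2, fun U hU z => ?_⟩
    let φ : T ⊗[A] U →ₐ[T] T ⊗[A] S := Algebra.TensorProduct.map (AlgHom.id T T) U.val
    have hφ : φ.range = ⊤ := by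
      rw [← top_le_iff, ← hG, Algebra.adjoin_le_iff]
      intro w hw
      rw [SetLike.mem_coe, hE w]
      refine Subalgebra.sum_mem _ fun q hq => ⟨q.1 ⊗ₜ ⟨q.2, hU ?_⟩, ?_⟩
      · exact Finset.mem_biUnion.2 ⟨w, hw, Finset.mem_image_of_mem _ hq⟩
      · exact Algebra.TensorProduct.map_tmul _ _ _ _
    obtain ⟨y, rfl⟩ := (AlgHom.range_eq_top φ).1 hφ z
    induction y using TensorProduct.induction_on with
    | zero => exact ⟨0, by simp⟩
    | tmul t u => exact ⟨t ⊗ₜ (⟨u.1, u.2⟩ : U.toSubmodule), rfl⟩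
    | add a b ha hb =>
      obtain ⟨a', ha'⟩ := ha
      obtain ⟨b', hb'⟩ := hb
      exact ⟨a' + b', by rw [map_add, map_add, ha', hb']⟩
  obtain ⟨s, hs⟩ := key (A ⧸ J)
  obtain ⟨t, ht⟩ := key A₁
  let U := Algebra.adjoin A (↑(s ∪ t) : Set S)
  have hsub : (↑(s ∪ t) : Set S) ⊆ U := Algebra.subset_adjoin
  have h1 := subsingleton_tensor_quotient U.toSubmodule (hs U fun x hx => hsub (Finset.mem_union_left _ hx))
  have h2 := subsingleton_tensor_quotient U.toSubmodule (ht U fun x hx => hsub (Finset.mem_union_right _ hx))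
  have := subsingleton_of_both hinj hJ (S ⧸ U.toSubmodule)
  exact ⟨⟨s ∪ t, eq_top_iff.2 fun x _ => (Submodule.Quotient.mk_eq_zero U.toSubmodule).1 (Subsingleton.elim _ _)⟩⟩

/-- For flat algebras, being finitely presented can be checked on both sides. -/
theorem finitePresentation_of_both (hinj : Function.Injective (algebraMap A A₁)) (hJ : IsConductor A₁ J)
    (S : Type u) [CommRing S] [Algebra A S] [Module.Flat A S] [Algebra.FiniteType A S]
    [Algebra.FinitePresentation (A ⧸ J) ((A ⧸ J) ⊗[A] S)]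
    [Algebra.FinitePresentation A₁ (A₁ ⊗[A] S)] : Algebra.FinitePresentation A S := by
  classical
  obtain ⟨n, π, hπ⟩ := Algebra.FiniteType.iff_quotient_mvPolynomial''.1 (inferInstance : Algebra.FiniteType A S)
  let P := MvPolynomial (Fin n) A
  let K : Ideal P := RingHom.ker π
  have key : ∀ (T : Type u) [CommRing T] [Algebra A T] [Algebra.FinitePresentation T (T ⊗[A] S)],
      ∃ s : Finset P, (↑s : Set P) ⊆ K ∧ ∀ K₀ : Ideal P, (↑s : Set P) ⊆ K₀ → K₀ ≤ K →
        K.map (Algebra.TensorProduct.includeRight : P →ₐ[A] T ⊗[A] P) =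
          K₀.map (Algebra.TensorProduct.includeRight : P →ₐ[A] T ⊗[A] P) := by
    intro T _ _ _
    let inc : P →ₐ[A] T ⊗[A] P := Algebra.TensorProduct.includeRight
    have hfg : (K.map inc).FG := by
      have h := Algebra.FinitePresentation.ker_fG_of_surjective
        (Algebra.TensorProduct.map (AlgHom.id T T) π)
        (fun z => LinearMap.lTensor_surjective T (g := π.toLinearMap) hπ z)
      have e : RingHom.ker (Algebra.TensorProduct.map (AlgHom.id A T) π) = K.map inc :=
        Algebra.TensorProduct.lTensor_ker π hπ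
      rw [← e]
      exact h
    obtain ⟨t, ht, hspan⟩ := (Submodule.fg_span_iff_fg_span_finset_subset (R := T ⊗[A] P) _).1 hfg
    choose! σ hσ hσ' using fun y (hy : y ∈ inc '' (K : Set P)) => hy
    refine ⟨t.image σ, ?_, fun K₀ h0 h1 => le_antisymm ?_ (Ideal.map_mono h1)⟩
    · intro x hx
      obtain ⟨y, hy, rfl⟩ := Finset.mem_image.1 (Finset.mem_coe.1 hx)
      exact hσ y (ht hy)
    · show Ideal.span _ ≤ _
      rw [show Ideal.span (inc '' (K : Set P)) = Ideal.span (t : Set (T ⊗[A] P)) from hspan]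
      rw [Ideal.span_le]
      intro y hy
      rw [← hσ' y (ht hy)]
      exact Ideal.mem_map_of_mem _ (h0 (Finset.mem_image_of_mem σ hy))
  obtain ⟨s, hsK, hs⟩ := key (A ⧸ J)
  obtain ⟨t, htK, ht⟩ := key A₁
  let K₀ : Ideal P := Ideal.span (↑(s ∪ t) : Set P)
  have hK₀ : K₀ ≤ K := Ideal.span_le.2 (by rw [Finset.coe_union]; exact Set.union_subset hsK htK)
  let S₀ := P ⧸ K₀
  let σ : S₀ →ₐ[A] S := Ideal.Quotient.liftₐ K₀ π hK₀
  have hσs : Function.Surjective σ := fun x => by
    obtain ⟨y, rfl⟩ := hπ x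
    exact ⟨Ideal.Quotient.mk K₀ y, rfl⟩
  have hvan : ∀ (T : Type u) [CommRing T] [Algebra A T],
      K.map (Algebra.TensorProduct.includeRight : P →ₐ[A] T ⊗[A] P) =
          K₀.map (Algebra.TensorProduct.includeRight : P →ₐ[A] T ⊗[A] P) →
      Subsingleton (T ⊗[A] LinearMap.ker σ.toLinearMap) := by
    intro T _ _ hT
    let ρ : P →ₐ[A] S₀ := Ideal.Quotient.mkₐ A K₀
    have hker : ∀ z : T ⊗[A] S₀, σ.toLinearMap.lTensor T z = 0 → z = 0 := by
      intro z hz
      obtain ⟨y, rfl⟩ := LinearMap.lTensor_surjective T (g := ρ.toLinearMap) Ideal.Quotient.mk_surjective z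
      have hy : y ∈ RingHom.ker (Algebra.TensorProduct.map (AlgHom.id A T) π) := by
        rw [RingHom.mem_ker]
        rw [← LinearMap.comp_apply, ← LinearMap.lTensor_comp] at hz
        exact hz
      rw [Algebra.TensorProduct.lTensor_ker π hπ] at hy
      have hy' : y ∈ RingHom.ker (Algebra.TensorProduct.map (AlgHom.id A T) ρ) := by
        rw [Algebra.TensorProduct.lTensor_ker ρ Ideal.Quotient.mk_surjective]
        have e : RingHom.ker ρ = K₀ := Ideal.mk_ker
        rw [e, ← hT]
        exact hy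
      exact hy'
    refine subsingleton_of_forall_eq 0 fun w => ?_
    refine Glue24.lTensor_injective_of_flat_coker (N := T) (LinearMap.ker σ.toLinearMap).subtype σ.toLinearMap
      Subtype.val_injective (LinearMap.exact_subtype_ker_map _) hσs ?_
    rw [map_zero]
    refine hker _ ?_
    rw [← LinearMap.comp_apply, ← LinearMap.lTensor_comp, LinearMap.comp_ker_subtype,
      LinearMap.lTensor_zero, LinearMap.zero_apply]
  have h1 := hvan (A ⧸ J) (hs K₀ (fun x hx => Ideal.subset_span (Finset.mem_coe.2 (Finset.mem_union_left _ hx))) hK₀)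
  have h2 := hvan A₁ (ht K₀ (fun x hx => Ideal.subset_span (Finset.mem_coe.2 (Finset.mem_union_right _ hx))) hK₀)
  have := subsingleton_of_both hinj hJ (LinearMap.ker σ.toLinearMap)
  have hσi : Function.Injective σ := (injective_iff_map_eq_zero σ).2 fun x hx =>
    congrArg Subtype.val (Subsingleton.elim (⟨x, hx⟩ : LinearMap.ker σ.toLinearMap) 0)
  have : Algebra.FinitePresentation A S₀ := Algebra.FinitePresentation.quotient ⟨s ∪ t, rfl⟩
  exact Algebra.FinitePresentation.equiv (AlgEquiv.ofBijective σ ⟨hσi, hσs⟩)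

/-- A flat algebra which is etale on both sides of the square is etale. -/
theorem etale_of_both (hinj : Function.Injective (algebraMap A A₁)) (hJ : IsConductor A₁ J)
    (S : Type u) [CommRing S] [Algebra A S] [Module.Flat A S]
    {C : Type u} [CommRing C] [Algebra (A ⧸ J) C] [Algebra.Etale (A ⧸ J) C] (eC : (A ⧸ J) ⊗[A] S ≃ₐ[A ⧸ J] C)
    {B₁ : Type u} [CommRing B₁] [Algebra A₁ B₁] [Algebra.Etale A₁ B₁] (eB : A₁ ⊗[A] S ≃ₐ[A₁] B₁) :
    Algebra.Etale A S := by
  have := formallyUnramified_tensor_of_algEquiv C eC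
  have := formallyUnramified_tensor_of_algEquiv B₁ eB
  have := subsingleton_of_both hinj hJ (Ω[S⁄A])
  have : Algebra.FormallyUnramified A S := ⟨this⟩
  have : Algebra.FinitePresentation (A ⧸ J) ((A ⧸ J) ⊗[A] S) := Algebra.FinitePresentation.equiv eC.symm
  have : Algebra.FinitePresentation A₁ (A₁ ⊗[A] S) := Algebra.FinitePresentation.equiv eB.symm
  have := finiteType_of_both hinj hJ S
  have := finitePresentation_of_both hinj hJ S
  exact Algebra.Etale.of_formallyUnramified_of_flat

/-- Etale algebras on both sides with an identification over `A₁/JA₁` glue to an etale algebra. -/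
theorem exists_etale_glue (hinj : Function.Injective (algebraMap A A₁)) (hJ : IsConductor A₁ J)
    (B₁ : Type u) [CommRing B₁] [Algebra A₁ B₁] [Algebra.Etale A₁ B₁]
    (C : Type u) [CommRing C] [Algebra (A ⧸ J) C] [Algebra.Etale (A ⧸ J) C]
    (φ : (A₁ ⧸ J.map (algebraMap A A₁)) ⊗[A ⧸ J] C ≃ₐ[A₁ ⧸ J.map (algebraMap A A₁)]
      (A₁ ⧸ J.map (algebraMap A A₁)) ⊗[A₁] B₁) :
    ∃ (S : Type u) (_ : CommRing S) (_ : Algebra A S), Algebra.Etale A S ∧
      Nonempty (A₁ ⊗[A] S ≃ₐ[A₁] B₁) := by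
  letI : Algebra A C := ((algebraMap (A ⧸ J) C).comp (algebraMap A (A ⧸ J))).toAlgebra
  haveI : IsScalarTower A (A ⧸ J) C := IsScalarTower.of_algebraMap_eq' rfl
  letI : Algebra A B₁ := ((algebraMap A₁ B₁).comp (algebraMap A A₁)).toAlgebra
  haveI : IsScalarTower A A₁ B₁ := IsScalarTower.of_algebraMap_eq' rfl
  have h := isFibreSquare hinj hJ
  have hw := EtAlg23.isWeakSquare_of_isFibreSquare h
  let φL := φ.toLinearEquiv
  let S : Subalgebra A (C × B₁) := (EtMil.glue A φL).toSubalgebra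
    (by show φ ((1 : _) ⊗ₜ (1 : C × B₁).1) = _ ⊗ₜ (1 : C × B₁).2; exact map_one φ)
    (fun x y hx hy => by
      show φ ((1 : _) ⊗ₜ (x * y).1) = (1 : _) ⊗ₜ (x * y).2
      have hx' : φ ((1 : _) ⊗ₜ x.1) = (1 : _) ⊗ₜ x.2 := hx
      have hy' : φ ((1 : _) ⊗ₜ y.1) = (1 : _) ⊗ₜ y.2 := hy
      calc φ ((1 : _) ⊗ₜ (x.1 * y.1)) = φ (((1 : _) ⊗ₜ x.1) * ((1 : _) ⊗ₜ y.1)) := by
            rw [Algebra.TensorProduct.tmul_mul_tmul, one_mul]
        _ = _ := by rw [map_mul, hx', hy', Algebra.TensorProduct.tmul_mul_tmul, one_mul]; rfl)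
  let e : EtMil.glue A φL ≃ₗ[A] S :=
    { toFun := fun x => ⟨x.1, x.2⟩
      invFun := fun x => ⟨x.1, x.2⟩
      map_add' := fun _ _ => rfl
      map_smul' := fun _ _ => rfl
      left_inv := fun _ => rfl
      right_inv := fun _ => rfl }
  have : Module.Flat A (EtMil.glue A φL) := EtAlg23.flat_glue h
  have : Module.Flat A S := Module.Flat.of_linearEquiv e.symm
  let f₁ : (A ⧸ J) ⊗[A] S →ₐ[A ⧸ J] C := Algebra.TensorProduct.lift (Algebra.ofId _ C)
    ((AlgHom.fst A C B₁).comp S.val) fun _ _ => Commute.all _ _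
  let f₂ : A₁ ⊗[A] S →ₐ[A₁] B₁ := Algebra.TensorProduct.lift (Algebra.ofId _ B₁)
    ((AlgHom.snd A C B₁).comp S.val) fun _ _ => Commute.all _ _
  have h₁ : Function.Bijective f₁ := by
    have e₁ : ∀ z, f₁ z = LinearMap.liftBaseChange (A ⧸ J) (EtMil.glueFst A φL)
        (e.symm.toLinearMap.lTensor (A ⧸ J) z) := by
      intro z
      induction z using TensorProduct.induction_on with
      | zero => simp
      | tmul a s =>
        rw [Algebra.TensorProduct.lift_tmul, LinearMap.lTensor_tmul, LinearMap.liftBaseChange_tmul, Algebra.smul_def]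
        rfl
      | add a b ha hb => simp only [map_add, ha, hb]
    rw [show (f₁ : _ → _) = LinearMap.liftBaseChange (A ⧸ J) (EtMil.glueFst A φL) ∘
        (LinearEquiv.lTensor (A ⧸ J) e.symm) from funext e₁]
    exact (EtAlg23.liftFst_bijective hw).comp (LinearEquiv.bijective _)
  have h₂ : Function.Bijective f₂ := by
    have e₂ : ∀ z, f₂ z = LinearMap.liftBaseChange A₁ (EtMil.glueSnd A φL)
        (e.symm.toLinearMap.lTensor A₁ z) := by
      intro z
      induction z using TensorProduct.induction_on with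
      | zero => simp
      | tmul a s =>
        rw [Algebra.TensorProduct.lift_tmul, LinearMap.lTensor_tmul, LinearMap.liftBaseChange_tmul, Algebra.smul_def]
        rfl
      | add a b ha hb => simp only [map_add, ha, hb]
    rw [show (f₂ : _ → _) = LinearMap.liftBaseChange A₁ (EtMil.glueSnd A φL) ∘
        (LinearEquiv.lTensor A₁ e.symm) from funext e₂]
    exact (EtAlg23.liftSnd_bijective hw).comp (LinearEquiv.bijective _)
  exact ⟨S, inferInstance, inferInstance,
    etale_of_both hinj hJ S (AlgEquiv.ofBijective f₁ h₁) (AlgEquiv.ofBijective f₂ h₂),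
    ⟨AlgEquiv.ofBijective f₂ h₂⟩⟩

end Groth.Agent.Unr55.MilnorEt
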